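import Mathlib

set_option autoImplicit false

namespace Cfsg.Agent.Helper16

open DihedralGroup

section dlift

variable {Γ : Type*} [Group Γ] {n : ℕ} [NeZero n] (a b : Γ)

/-- the candidate map `DihedralGroup n → Γ` -/
def dFun (a b : Γ) : DihedralGroup n → Γ
  | r i => a ^ i.val
  | sr i => b * a ^ i.val

variable {a b} (ha : a ^ n = 1) (hb : b * b = 1) (hab : b * a * b⁻¹ = a⁻¹)

include ha in
theorem dpw_add (i j : ZMod n) : a ^ (i + j).val = a ^ i.val * a ^ j.val := by
  rw [ZMod.val_add, ← pow_eq_pow_mod _ ha, pow_add]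

include ha in
theorem dpw_sub (i j : ZMod n) : a ^ (j - i).val = (a ^ i.val)⁻¹ * a ^ j.val := by
  have h := dpw_add ha (j - i) i
  rw [sub_add_cancel] at h
  rw [h]
  have hc : Commute (a ^ (j - i).val) (a ^ i.val) := (Commute.refl a).pow_pow _ _
  rw [hc.eq]
  group

include hab in
theorem dconj_pw (m : ℕ) : a ^ m * b = b * (a ^ m)⁻¹ := by
  have h1 : b * a ^ m * b⁻¹ = (a ^ m)⁻¹ := by
    rw [← conj_pow, hab, inv_pow]
  have h2 : b * (a ^ m)⁻¹ * b⁻¹ = a ^ m := by
    have : b * (a ^ m)⁻¹ * b⁻¹ = (b * a ^ m * b⁻¹)⁻¹ := by group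
    rw [this, h1, inv_inv]
  calc a ^ m * b = (b * (a ^ m)⁻¹ * b⁻¹) * b := by rw [h2]
    _ = b * (a ^ m)⁻¹ := by rw [inv_mul_cancel_right]

include ha hb hab in
theorem dFun_mul (x y : DihedralGroup n) :
    dFun a b (x * y) = dFun a b x * dFun a b y := by
  rcases x with i | i <;> rcases y with j | j
  · rw [r_mul_r]
    exact dpw_add ha i j
  · rw [r_mul_sr]
    show b * a ^ (j - i).val = a ^ i.val * (b * a ^ j.val)
    rw [dpw_sub ha, ← mul_assoc (a ^ i.val), dconj_pw hab]
    group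
  · rw [sr_mul_r]
    show b * a ^ (i + j).val = b * a ^ i.val * a ^ j.val
    rw [dpw_add ha, mul_assoc]
  · rw [sr_mul_sr]
    show a ^ (j - i).val = b * a ^ i.val * (b * a ^ j.val)
    rw [dpw_sub ha]
    have : b * a ^ i.val * (b * a ^ j.val) = b * (a ^ i.val * b) * a ^ j.val := by group
    rw [this, dconj_pw hab, ← mul_assoc, hb, one_mul]

/-- the homomorphism from the dihedral group determined by `a`, `b`. -/
def dLift : DihedralGroup n →* Γ :=
  MonoidHom.mk' (dFun a b) (dFun_mul ha hb hab)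

theorem dLift_r (i : ZMod n) : dLift ha hb hab (r i) = a ^ i.val := rfl

theorem dLift_sr (i : ZMod n) : dLift ha hb hab (sr i) = b * a ^ i.val := rfl

end dlift

theorem zmod2_sq (x : Multiplicative (ZMod 2)) : x * x = 1 := by
  revert x
  decide

theorem zmod2_pow (x : Multiplicative (ZMod 2)) (j : ℕ) : x ^ j = if Even j then 1 else x := by
  rcases Nat.even_or_odd' j with ⟨r, rfl | rfl⟩
  · rw [if_pos (even_two_mul r), pow_mul, pow_two, zmod2_sq, one_pow]
  · rw [if_neg (Nat.not_even_iff_odd.2 (odd_two_mul_add_one r)), pow_succ, pow_mul, pow_two,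
      zmod2_sq, one_pow, one_mul]

theorem zmod2_inv_mul (x y : Multiplicative (ZMod 2)) (hx : x ≠ 1) (hy : y ≠ 1) : x⁻¹ * y = 1 := by
  revert x y
  decide

theorem klein_sq (x : Multiplicative (ZMod 2 × ZMod 2)) : x * x = 1 := by
  revert x
  decide

end Cfsg.Agent.Helper16
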