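import Cfsg.Agent.Helper16.AutQuot2
import Cfsg.Agent.Helper16.DihedralLift

set_option autoImplicit false
open Cfsg

namespace Cfsg.Agent.Helper16

open QuadraticMap

section AutD8
variable {F : Type*} [Field F] [Fintype F] {ι : Type} [Fintype ι] [DecidableEq ι]

/-- inclusion of the isometry group in the similarity group -/
def isoSim (Q : (ι → F) → F) :
    ↥(isometryGroup F Q) →* ↥(Geo.quadSimilarityGroup (F := F) Q) :=
  Subgroup.inclusion (isometry_le_sim Q)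

theorem isoSim_coe (Q : (ι → F) → F) (o : ↥(isometryGroup F Q)) :
    ((isoSim Q o : ↥(Geo.quadSimilarityGroup (F := F) Q)) : GL ι F) = (o : GL ι F) := rfl

/-- `Ω` inside the similarity group -/
def OmegaSim (Q : (ι → F) → F) : Subgroup ↥(Geo.quadSimilarityGroup (F := F) Q) :=
  (OmegaGL Q).subgroupOf (Geo.quadSimilarityGroup (F := F) Q)

instance OmegaSim_normal (Q : (ι → F) → F) : (OmegaSim Q).Normal where
  conj_mem := by
    intro a ha g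
    obtain ⟨t, ht'⟩ := (mem_OmegaGL_iff Q _).1 ha
    have ht : ((t : ↥(isometryGroup F Q)) : GL ι F) = (a : GL ι F) := ht'
    exact (mem_OmegaGL_iff Q _).2 ⟨conjOmega Q g.1 g.2 t, by
      rw [conjOmega_coe, ht]
      rfl⟩

/-- `Ω · ker` -/
def KGrp (Q : (ι → F) → F) : Subgroup ↥(Geo.quadSimilarityGroup (F := F) Q) :=
  OmegaSim Q ⊔ (autHom Q).ker

instance KGrp_normal (Q : (ι → F) → F) : (KGrp Q).Normal := by
  unfold KGrp
  infer_instance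

theorem mem_KGrp_iff (Q : (ι → F) → F) (g : ↥(Geo.quadSimilarityGroup (F := F) Q)) :
    g ∈ KGrp Q ↔ ∃ a : ↥(Geo.quadSimilarityGroup (F := F) Q), (a : GL ι F) ∈ OmegaGL Q ∧
      ∃ z ∈ (autHom Q).ker, g = a * z := by
  unfold KGrp
  rw [← SetLike.mem_coe, Subgroup.mul_normal, Set.mem_mul]
  constructor
  · rintro ⟨a, ha, z, hz, rfl⟩
    exact ⟨a, ha, z, hz, rfl⟩
  · rintro ⟨a, ha, z, hz, rfl⟩
    exact ⟨a, ha, z, hz, rfl⟩

theorem isoSim_mem_KGrp_iff (h2 : (2 : F) ≠ 0) (Q : QuadraticForm F (ι → F))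
    (hQ : (polarBilin Q).Nondegenerate) (hP : SiegelScalar Q) (hne : ∃ x, Q x ≠ 0)
    (hneg : negIso Q ∈ Omega F ⇑Q) (o : ↥(isometryGroup F ⇑Q)) :
    isoSim ⇑Q o ∈ KGrp ⇑Q ↔ o ∈ Omega F ⇑Q := by
  rw [mem_KGrp_iff]
  constructor
  · rintro ⟨a, ha, z, hz, h⟩
    exact mem_Omega_of_mul_ker h2 Q hQ hP hne hneg o a z ha hz (by
      rw [← h]
      rfl)
  · intro ho
    exact ⟨isoSim ⇑Q o, (mem_OmegaGL_iff ⇑Q _).2 ⟨⟨o, ho⟩, rfl⟩, 1, one_mem _, (mul_one _).symm⟩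

theorem kappa_KGrp (h2 : (2 : F) ≠ 0) (Q : QuadraticForm F (ι → F))
    (hQ : (polarBilin Q).Nondegenerate) (hP : SiegelScalar Q) (hne : ∃ x, Q x ≠ 0) (k : ℕ)
    (hk : Fintype.card ι = 2 * k) (g : ↥(Geo.quadSimilarityGroup (F := F) ⇑Q))
    (hg : g ∈ KGrp ⇑Q) :
    (sqHom F).comp (multHom ⇑Q hne) g = 1 ∧ detSign Q hQ hne h2 k hk g = 1 := by
  obtain ⟨a, ha, z, hz, rfl⟩ := (mem_KGrp_iff ⇑Q g).1 hg
  obtain ⟨t, ht'⟩ := (mem_OmegaGL_iff ⇑Q _).1 ha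
  have ht : ((t : ↥(isometryGroup F ⇑Q)) : GL ι F) = (a : GL ι F) := ht'
  have h : chiHom Q hQ hne h2 k hk (a * z) = 1 := by
    rw [chiHom_eq_one_iff']
    exact ⟨a, (mem_specialIsometryGL_iff ⇑Q _).2 ⟨by rw [← ht]; exact t.1.2,
      by rw [← ht]; exact Omega_det h2 Q hQ t⟩, z,
      (autHom_eq_one_iff h2 Q hQ hP hne z).1 (MonoidHom.mem_ker.1 hz), rfl⟩
  rw [chiHom_apply, MulEquiv.map_eq_one_iff, Prod.mk_eq_one] at h
  exact h

theorem so_class_eq (h2 : (2 : F) ≠ 0) (Q : QuadraticForm F (ι → F))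
    (hQ : (polarBilin Q).Nondegenerate) (hP : SiegelScalar Q) (hne : ∃ x, Q x ≠ 0)
    (hneg : negIso Q ∈ Omega F ⇑Q) (p p' : ↥(isometryGroup F ⇑Q))
    (hp : ((p : GL ι F) : Matrix ι ι F).det = 1) (hp' : ((p' : GL ι F) : Matrix ι ι F).det = 1)
    (hθ : spinorHom h2 Q hQ p ≠ 1) (hθ' : spinorHom h2 Q hQ p' ≠ 1) :
    (QuotientGroup.mk (isoSim ⇑Q p) : ↥(Geo.quadSimilarityGroup (F := F) ⇑Q) ⧸ KGrp ⇑Q) =
      QuotientGroup.mk (isoSim ⇑Q p') := by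
  rw [QuotientGroup.eq, ← map_inv, ← map_mul, isoSim_mem_KGrp_iff h2 Q hQ hP hne hneg,
    mem_Omega_iff_det_spinor h2 Q hQ]
  refine ⟨?_, ?_⟩
  · have h : p * (p⁻¹ * p') = p' := by group
    have h1 := congrArg (fun t : ↥(isometryGroup F ⇑Q) => ((t : GL ι F) : Matrix ι ι F).det) h
    simp only [Subgroup.coe_mul, Units.val_mul, Matrix.det_mul] at h1
    rw [hp, hp', one_mul] at h1
    rw [Subgroup.coe_mul, Units.val_mul, Matrix.det_mul, hp']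
    exact h1
  · rw [map_mul, map_inv]
    exact zmod2_inv_mul _ _ hθ hθ'

theorem so_class (h2 : (2 : F) ≠ 0) (Q : QuadraticForm F (ι → F))
    (hQ : (polarBilin Q).Nondegenerate) (hP : SiegelScalar Q) (hne : ∃ x, Q x ≠ 0)
    (hneg : negIso Q ∈ Omega F ⇑Q) (p₀ p : ↥(isometryGroup F ⇑Q))
    (hp₀ : ((p₀ : GL ι F) : Matrix ι ι F).det = 1) (hθ₀ : spinorHom h2 Q hQ p₀ ≠ 1)
    (hp : ((p : GL ι F) : Matrix ι ι F).det = 1) :
    (QuotientGroup.mk (isoSim ⇑Q p) : ↥(Geo.quadSimilarityGroup (F := F) ⇑Q) ⧸ KGrp ⇑Q) = 1 ∨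
      (QuotientGroup.mk (isoSim ⇑Q p) : ↥(Geo.quadSimilarityGroup (F := F) ⇑Q) ⧸ KGrp ⇑Q) =
        QuotientGroup.mk (isoSim ⇑Q p₀) := by
  by_cases hθ : spinorHom h2 Q hQ p = 1
  · left
    rw [QuotientGroup.eq_one_iff, isoSim_mem_KGrp_iff h2 Q hQ hP hne hneg,
      mem_Omega_iff_det_spinor h2 Q hQ]
    exact ⟨hp, hθ⟩
  · right
    exact so_class_eq h2 Q hQ hP hne hneg p p₀ hp hp₀ hθ hθ₀

theorem sim_conj_refl (Q : QuadraticForm F (ι → F))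
    (g : ↥(Geo.quadSimilarityGroup (F := F) ⇑Q)) (u : ι → F) (hu : Q u ≠ 0) :
    g * isoSim ⇑Q (reflElt Q u) * g⁻¹ =
      isoSim ⇑Q (reflElt Q (((g : GL ι F) : Matrix ι ι F).mulVec u)) := by
  have hμ := multFun_spec ⇑Q g
  have hgu : Q (((g : GL ι F) : Matrix ι ι F).mulVec u) ≠ 0 := by
    rw [hμ]
    exact mul_ne_zero (Units.ne_zero _) hu
  rw [mul_inv_eq_iff_eq_mul]
  apply Subtype.ext
  apply Units.ext
  rw [Subgroup.coe_mul, Units.val_mul, Subgroup.coe_mul, Units.val_mul, isoSim_coe, isoSim_coe]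
  apply mat_ext
  intro x
  rw [← Matrix.mulVec_mulVec, ← Matrix.mulVec_mulVec, reflElt_mulVec Q u hu,
    reflElt_mulVec Q _ hgu, qrefl_apply, qrefl_apply, Matrix.mulVec_sub, Matrix.mulVec_smul, hμ]
  have hpol : polar ⇑Q (((g : GL ι F) : Matrix ι ι F).mulVec u)
      (((g : GL ι F) : Matrix ι ι F).mulVec x) = (multFun ⇑Q g : F) * polar ⇑Q u x := by
    unfold polar
    rw [← Matrix.mulVec_add, hμ, hμ, hμ]
    ring
  rw [hpol]
  congr 2
  have hm0 : (multFun ⇑Q g : F) ≠ 0 := Units.ne_zero _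
  field_simp

theorem det_iso_dichotomy (h2 : (2 : F) ≠ 0) (Q : QuadraticForm F (ι → F))
    (hQ : (polarBilin Q).Nondegenerate) (o : ↥(isometryGroup F ⇑Q)) :
    ((o : GL ι F) : Matrix ι ι F).det = 1 ∨ ((o : GL ι F) : Matrix ι ι F).det = -1 := by
  obtain ⟨vs, hvs, rfl⟩ := exists_refl_list h2 Q hQ o
  rw [coe_prod_reflElt Q vs hvs, det_prod_reflMatrix Q vs hvs]
  rcases Nat.even_or_odd vs.length with h | h
  · left
    exact h.neg_one_pow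
  · right
    exact h.neg_one_pow

theorem det_refl (Q : QuadraticForm F (ι → F)) (u : ι → F) (hu : Q u ≠ 0) :
    ((reflElt Q u : GL ι F) : Matrix ι ι F).det = -1 := by
  rw [reflElt_coe Q u hu, det_reflMatrix Q u hu]

theorem refl_comm_class (h2 : (2 : F) ≠ 0) (Q : QuadraticForm F (ι → F))
    (hQ : (polarBilin Q).Nondegenerate) (hP : SiegelScalar Q) (hne : ∃ x, Q x ≠ 0)
    (hneg : negIso Q ∈ Omega F ⇑Q) (u : ι → F) (hu : Q u = 1)
    (g : ↥(Geo.quadSimilarityGroup (F := F) ⇑Q)) (hg : ¬ IsSquare ((multFun ⇑Q g : Fˣ) : F))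
    (p₀ : ↥(isometryGroup F ⇑Q)) (hp₀ : ((p₀ : GL ι F) : Matrix ι ι F).det = 1)
    (hθ₀ : spinorHom h2 Q hQ p₀ ≠ 1) :
    (QuotientGroup.mk (isoSim ⇑Q (reflElt Q u) * g * isoSim ⇑Q (reflElt Q u) * g⁻¹) :
      ↥(Geo.quadSimilarityGroup (F := F) ⇑Q) ⧸ KGrp ⇑Q) = QuotientGroup.mk (isoSim ⇑Q p₀) ∧
    (QuotientGroup.mk (g * isoSim ⇑Q (reflElt Q u) * g⁻¹ * isoSim ⇑Q (reflElt Q u)) :
      ↥(Geo.quadSimilarityGroup (F := F) ⇑Q) ⧸ KGrp ⇑Q) = QuotientGroup.mk (isoSim ⇑Q p₀) := by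
  have hu0 : Q u ≠ 0 := by rw [hu]; exact one_ne_zero
  have hgu : Q (((g : GL ι F) : Matrix ι ι F).mulVec u) = (multFun ⇑Q g : F) := by
    rw [multFun_spec ⇑Q g, hu, mul_one]
  have hgu0 : Q (((g : GL ι F) : Matrix ι ι F).mulVec u) ≠ 0 := by
    rw [hgu]
    exact Units.ne_zero _
  have hθu : spinorHom h2 Q hQ (reflElt Q u) = 1 :=
    (spinorHom_refl_eq_one_iff h2 Q hQ u hu0).2 (by rw [hu]; exact IsSquare.one)
  have hθgu : spinorHom h2 Q hQ (reflElt Q (((g : GL ι F) : Matrix ι ι F).mulVec u)) ≠ 1 := by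
    rw [Ne, spinorHom_refl_eq_one_iff h2 Q hQ _ hgu0, hgu]
    exact hg
  constructor
  · have h1 : isoSim ⇑Q (reflElt Q u) * g * isoSim ⇑Q (reflElt Q u) * g⁻¹ =
        isoSim ⇑Q (reflElt Q u * reflElt Q (((g : GL ι F) : Matrix ι ι F).mulVec u)) := by
      rw [map_mul, ← sim_conj_refl Q g u hu0]
      group
    rw [h1]
    apply so_class_eq h2 Q hQ hP hne hneg _ _ _ hp₀ _ hθ₀
    · rw [Subgroup.coe_mul, Units.val_mul, Matrix.det_mul, det_refl Q u hu0, det_refl Q _ hgu0]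
      norm_num
    · rw [map_mul, hθu, one_mul]
      exact hθgu
  · have h1 : g * isoSim ⇑Q (reflElt Q u) * g⁻¹ * isoSim ⇑Q (reflElt Q u) =
        isoSim ⇑Q (reflElt Q (((g : GL ι F) : Matrix ι ι F).mulVec u) * reflElt Q u) := by
      rw [map_mul, ← sim_conj_refl Q g u hu0]
    rw [h1]
    apply so_class_eq h2 Q hQ hP hne hneg _ _ _ hp₀ _ hθ₀
    · rw [Subgroup.coe_mul, Units.val_mul, Matrix.det_mul, det_refl Q u hu0, det_refl Q _ hgu0]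
      norm_num
    · rw [map_mul, hθu, mul_one]
      exact hθgu

theorem exists_iso_mul_scalar (Q : QuadraticForm F (ι → F))
    (g : ↥(Geo.quadSimilarityGroup (F := F) ⇑Q)) (hg : IsSquare ((multFun ⇑Q g : Fˣ) : F)) :
    ∃ o : ↥(isometryGroup F ⇑Q), ∃ z : ↥(Geo.quadSimilarityGroup (F := F) ⇑Q),
      (z : GL ι F) ∈ Geo.scalars ι F ∧ g = isoSim ⇑Q o * z := by
  obtain ⟨l, hl⟩ := hg
  have hl0 : l ≠ 0 := by
    rintro rfl
    rw [mul_zero] at hl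
    exact (Units.ne_zero _) hl
  obtain ⟨z, hz, hzm⟩ := exists_scalar_sim Q (Units.mk0 l hl0)
  obtain ⟨w, hw, hwm⟩ := exists_scalar_sim Q (Units.mk0 l hl0)⁻¹
  rw [Units.val_mk0] at hzm
  rw [Units.val_inv_eq_inv_val, Units.val_mk0] at hwm
  have hwz : w * z = 1 := by
    apply Subtype.ext
    apply Units.ext
    rw [Subgroup.coe_mul, Units.val_mul, hzm, hwm, Matrix.smul_mul, Matrix.mul_smul, one_mul,
      smul_smul, inv_mul_cancel₀ hl0, one_smul]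
    rfl
  have hiso : ((g * w : ↥(Geo.quadSimilarityGroup (F := F) ⇑Q)) : GL ι F) ∈
      isometryGroup F ⇑Q := by
    rw [mem_isometryGroup_iff]
    intro x
    rw [Subgroup.coe_mul, Units.val_mul, ← Matrix.mulVec_mulVec, multFun_spec ⇑Q g, hwm,
      Matrix.smul_mulVec, Matrix.one_mulVec, qf_smul, hl]
    field_simp
  refine ⟨⟨_, hiso⟩, z, hz, ?_⟩
  have h1 : isoSim ⇑Q ⟨_, hiso⟩ = g * w := Subtype.ext rfl
  rw [h1, mul_assoc, hwz, mul_one]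

theorem detSign_refl_ne_one (Q : QuadraticForm F (ι → F)) (hQ : (polarBilin Q).Nondegenerate)
    (hne : ∃ x, Q x ≠ 0) (h2 : (2 : F) ≠ 0) (k : ℕ) (hk : Fintype.card ι = 2 * k) (u : ι → F)
    (hu : Q u ≠ 0) : detSign Q hQ hne h2 k hk (isoSim ⇑Q (reflElt Q u)) ≠ 1 := by
  intro h
  rw [detSign_eq_one_iff, multFun_isometry Q hne _ (reflElt Q u).2, Units.val_one, one_pow,
    isoSim_coe, det_refl Q u hu] at h
  apply h2
  linear_combination -h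

end AutD8

end Cfsg.Agent.Helper16
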