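import Cfsg.Agent.Helper16.SiegelGen
import Cfsg.Prelude.Def_LieTypeDatum

set_option autoImplicit false
open Cfsg

namespace Cfsg.Agent.Helper16

open QuadraticMap

section AutPO
variable {F : Type*} [Field F] {ι : Type} [Fintype ι] [DecidableEq ι]

/-- a similarity scales the form at the inverse -/
theorem sim_inv_apply (Q : (ι → F) → F) (g : GL ι F) (c : Fˣ)
    (hc : ∀ v, Q ((g : Matrix ι ι F).mulVec v) = (c : F) * Q v) (x : ι → F) :
    Q (((g⁻¹ : GL ι F) : Matrix ι ι F).mulVec x) = ((c⁻¹ : Fˣ) : F) * Q x := by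
  have h := hc (((g⁻¹ : GL ι F) : Matrix ι ι F).mulVec x)
  rw [Matrix.mulVec_mulVec, ← Units.val_mul, mul_inv_cancel, Units.val_one, Matrix.one_mulVec] at h
  rw [h, ← mul_assoc, ← Units.val_mul, inv_mul_cancel, Units.val_one, one_mul]

theorem sim_conj_mem (Q : (ι → F) → F) (g : GL ι F)
    (hg : g ∈ Geo.quadSimilarityGroup (F := F) Q)
    (s : GL ι F) (hs : s ∈ isometryGroup F Q) : g * s * g⁻¹ ∈ isometryGroup F Q := by
  obtain ⟨c, hc⟩ := hg
  rw [mem_isometryGroup_iff] at hs ⊢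
  intro x
  rw [Units.val_mul, Units.val_mul, ← Matrix.mulVec_mulVec, ← Matrix.mulVec_mulVec, hc, hs,
    sim_inv_apply Q g c hc, ← mul_assoc, ← Units.val_mul, mul_inv_cancel, Units.val_one, one_mul]

/-- conjugation by a similarity, on the isometry group -/
def conjO (Q : (ι → F) → F) (g : GL ι F) (hg : g ∈ Geo.quadSimilarityGroup (F := F) Q) :
    ↥(isometryGroup F Q) ≃* ↥(isometryGroup F Q) where
  toFun s := ⟨g * s * g⁻¹, sim_conj_mem Q g hg s s.2⟩
  invFun s := ⟨g⁻¹ * s * g, by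
    have h := sim_conj_mem Q g⁻¹ (inv_mem hg) s s.2
    rwa [inv_inv] at h⟩
  left_inv s := by
    apply Subtype.ext
    show g⁻¹ * (g * (s : GL ι F) * g⁻¹) * g = s
    group
  right_inv s := by
    apply Subtype.ext
    show g * (g⁻¹ * (s : GL ι F) * g) * g⁻¹ = s
    group
  map_mul' a b := by
    apply Subtype.ext
    show g * ((a : GL ι F) * b) * g⁻¹ = g * a * g⁻¹ * (g * b * g⁻¹)
    group

theorem conjO_coe (Q : (ι → F) → F) (g : GL ι F) (hg : g ∈ Geo.quadSimilarityGroup (F := F) Q)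
    (s : ↥(isometryGroup F Q)) : ((conjO Q g hg s : ↥(isometryGroup F Q)) : GL ι F) = g * s * g⁻¹ :=
  rfl

theorem conjO_mem_Omega (Q : (ι → F) → F) (g : GL ι F)
    (hg : g ∈ Geo.quadSimilarityGroup (F := F) Q) (s : ↥(isometryGroup F Q))
    (hs : s ∈ Omega F Q) : conjO Q g hg s ∈ Omega F Q := by
  have h := (inferInstance : (commutator ↥(isometryGroup F Q)).Characteristic).fixed (conjO Q g hg)
  have h1 : s ∈ (commutator ↥(isometryGroup F Q)).comap (conjO Q g hg).toMonoidHom := by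
    rw [h]
    exact hs
  exact h1

theorem conjO_symm_mem_Omega (Q : (ι → F) → F) (g : GL ι F)
    (hg : g ∈ Geo.quadSimilarityGroup (F := F) Q) (s : ↥(isometryGroup F Q))
    (hs : s ∈ Omega F Q) : (conjO Q g hg).symm s ∈ Omega F Q := by
  have h := (inferInstance : (commutator ↥(isometryGroup F Q)).Characteristic).fixed
    (conjO Q g hg).symm
  have h1 : s ∈ (commutator ↥(isometryGroup F Q)).comap (conjO Q g hg).symm.toMonoidHom := by
    rw [h]
    exact hs
  exact h1

/-- conjugation by a similarity, on `Ω` -/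
def conjOmega (Q : (ι → F) → F) (g : GL ι F) (hg : g ∈ Geo.quadSimilarityGroup (F := F) Q) :
    ↥(Omega F Q) ≃* ↥(Omega F Q) where
  toFun s := ⟨conjO Q g hg s.1, conjO_mem_Omega Q g hg s.1 s.2⟩
  invFun s := ⟨(conjO Q g hg).symm s.1, conjO_symm_mem_Omega Q g hg s.1 s.2⟩
  left_inv s := by
    apply Subtype.ext
    simp
  right_inv s := by
    apply Subtype.ext
    simp
  map_mul' a b := by
    apply Subtype.ext
    simp

theorem conjOmega_coe (Q : (ι → F) → F) (g : GL ι F)
    (hg : g ∈ Geo.quadSimilarityGroup (F := F) Q) (s : ↥(Omega F Q)) :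
    (((conjOmega Q g hg s : ↥(Omega F Q)) : ↥(isometryGroup F Q)) : GL ι F) =
      g * ((s : ↥(isometryGroup F Q)) : GL ι F) * g⁻¹ :=
  rfl

/-- the automorphism of `PΩ` induced by a similarity -/
def autPO (Q : (ι → F) → F) (g : GL ι F) (hg : g ∈ Geo.quadSimilarityGroup (F := F) Q) :
    POmega F Q ≃* POmega F Q :=
  QuotientGroup.congr (Subgroup.center ↥(Omega F Q)) (Subgroup.center ↥(Omega F Q))
    (conjOmega Q g hg)
    (Subgroup.characteristic_iff_map_eq.1 inferInstance (conjOmega Q g hg))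

theorem autPO_mk (Q : (ι → F) → F) (g : GL ι F) (hg : g ∈ Geo.quadSimilarityGroup (F := F) Q)
    (s : ↥(Omega F Q)) :
    autPO Q g hg (QuotientGroup.mk s) = QuotientGroup.mk (conjOmega Q g hg s) :=
  rfl

theorem map_refl_eq (M : Matrix ι ι F) : M.map (RingEquiv.refl F) = M := by
  ext i j
  rfl

theorem autPO_induced (Q : (ι → F) → F) (g : GL ι F)
    (hg : g ∈ Geo.quadSimilarityGroup (F := F) Q) :
    IsInducedBySemilinearPOmega Q g (RingEquiv.refl F) (autPO Q g hg) := by
  intro s s' h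
  have hs' : s' = conjOmega Q g hg s := by
    apply Subtype.ext
    apply Subtype.ext
    apply Units.ext
    rw [h, map_refl_eq, conjOmega_coe, Units.val_mul, Units.val_mul]
  rw [hs', autPO_mk]

theorem induced_unique (Q : (ι → F) → F) (g : GL ι F)
    (hg : g ∈ Geo.quadSimilarityGroup (F := F) Q) (β : POmega F Q ≃* POmega F Q)
    (hβ : IsInducedBySemilinearPOmega Q g (RingEquiv.refl F) β) : β = autPO Q g hg := by
  apply MulEquiv.ext
  intro x
  induction x using QuotientGroup.induction_on with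
  | H s =>
    rw [hβ s (conjOmega Q g hg s) (by
      rw [map_refl_eq, conjOmega_coe, Units.val_mul, Units.val_mul]), autPO_mk]

/-- the homomorphism from the similarity group to `Aut(PΩ)` -/
def autHom (Q : (ι → F) → F) :
    ↥(Geo.quadSimilarityGroup (F := F) Q) →* MulAut (POmega F Q) :=
  MonoidHom.mk' (fun g => autPO Q g.1 g.2) (by
    intro a b
    apply MulEquiv.ext
    intro x
    induction x using QuotientGroup.induction_on with
    | H s =>
      rw [MulAut.mul_apply, autPO_mk, autPO_mk, autPO_mk]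
      congr 1
      apply Subtype.ext
      apply Subtype.ext
      rw [conjOmega_coe, conjOmega_coe, conjOmega_coe]
      show (a : GL ι F) * b * _ * ((a : GL ι F) * b)⁻¹ = _
      group)

theorem autHom_apply (Q : (ι → F) → F) (g : ↥(Geo.quadSimilarityGroup (F := F) Q)) :
    autHom Q g = autPO Q g.1 g.2 := rfl

/-- the subgroup of `Aut(PΩ)` generated by the automorphisms induced by the elements of a
subgroup `H` of the similarity group is the image of `H` -/
theorem autSubgroup_eq (Q : (ι → F) → F) (H : Subgroup (GL ι F))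
    (hH : H ≤ Geo.quadSimilarityGroup (F := F) Q) :
    autSubgroupOf (fun β : POmega F Q ≃* POmega F Q =>
      ∃ g : GL ι F, g ∈ H ∧ IsInducedBySemilinearPOmega Q g (RingEquiv.refl F) β) =
      (H.subgroupOf (Geo.quadSimilarityGroup (F := F) Q)).map (autHom Q) := by
  unfold autSubgroupOf
  have hset : {β : MulAut (POmega F Q) |
      ∃ g : GL ι F, g ∈ H ∧ IsInducedBySemilinearPOmega Q g (RingEquiv.refl F) β} =
      (((H.subgroupOf (Geo.quadSimilarityGroup (F := F) Q)).map (autHom Q) :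
        Subgroup (MulAut (POmega F Q))) : Set (MulAut (POmega F Q))) := by
    ext β
    constructor
    · rintro ⟨g, hgH, hβ⟩
      exact ⟨⟨g, hH hgH⟩, hgH, (induced_unique Q g (hH hgH) β hβ).symm⟩
    · rintro ⟨g, hgH, rfl⟩
      exact ⟨g.1, hgH, autPO_induced Q g.1 g.2⟩
  rw [hset, Subgroup.closure_eq]

theorem pgoAut_eq (Q : (ι → F) → F) :
    pgoAut F Q = ((Geo.quadSimilarityGroup (F := F) Q).subgroupOf
      (Geo.quadSimilarityGroup (F := F) Q)).map (autHom Q) :=
  autSubgroup_eq Q _ le_rfl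

theorem isometry_le_sim (Q : (ι → F) → F) :
    isometryGroup F Q ≤ Geo.quadSimilarityGroup (F := F) Q := by
  intro g hg
  refine ⟨1, fun v => ?_⟩
  rw [Units.val_one, one_mul]
  exact (mem_isometryGroup_iff Q g).1 hg v

theorem specialIsometryGL_le_sim (Q : (ι → F) → F) :
    specialIsometryGL F Q ≤ Geo.quadSimilarityGroup (F := F) Q :=
  fun _ hg => isometry_le_sim Q hg.1

theorem poAut_eq (Q : (ι → F) → F) :
    poAut F Q = ((isometryGroup F Q).subgroupOf
      (Geo.quadSimilarityGroup (F := F) Q)).map (autHom Q) :=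
  autSubgroup_eq Q _ (isometry_le_sim Q)

theorem psoAut_eq (Q : (ι → F) → F) :
    psoAut F Q = ((specialIsometryGL F Q).subgroupOf
      (Geo.quadSimilarityGroup (F := F) Q)).map (autHom Q) :=
  autSubgroup_eq Q _ (specialIsometryGL_le_sim Q)

/-- `Ω` as a subgroup of `GL` -/
def OmegaGL (Q : (ι → F) → F) : Subgroup (GL ι F) :=
  (Omega F Q).map (isometryGroup F Q).subtype

theorem mem_OmegaGL_iff (Q : (ι → F) → F) (g : GL ι F) :
    g ∈ OmegaGL Q ↔ ∃ s : ↥(Omega F Q), ((s : ↥(isometryGroup F Q)) : GL ι F) = g := by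
  constructor
  · rintro ⟨s, hs, rfl⟩
    exact ⟨⟨s, hs⟩, rfl⟩
  · rintro ⟨s, rfl⟩
    exact ⟨s.1, s.2, rfl⟩

theorem OmegaGL_le_sim (Q : (ι → F) → F) : OmegaGL Q ≤ Geo.quadSimilarityGroup (F := F) Q := by
  rintro _ ⟨s, _, rfl⟩
  exact isometry_le_sim Q s.2

theorem inn_eq (Q : (ι → F) → F) :
    Inn (POmega F Q) = ((OmegaGL Q).subgroupOf
      (Geo.quadSimilarityGroup (F := F) Q)).map (autHom Q) := by
  have key : ∀ s : ↥(Omega F Q),
      autHom Q ⟨((s : ↥(isometryGroup F Q)) : GL ι F), isometry_le_sim Q s.1.2⟩ =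
        MulAut.conj (QuotientGroup.mk s : POmega F Q) := by
    intro s
    apply MulEquiv.ext
    intro x
    induction x using QuotientGroup.induction_on with
    | H t =>
      rw [autHom_apply, autPO_mk, MulAut.conj_apply, ← QuotientGroup.mk_inv, ← QuotientGroup.mk_mul,
        ← QuotientGroup.mk_mul]
      congr 1
  ext β
  constructor
  · rintro ⟨x, rfl⟩
    induction x using QuotientGroup.induction_on with
    | H s =>
      exact ⟨⟨((s : ↥(isometryGroup F Q)) : GL ι F), isometry_le_sim Q s.1.2⟩,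
        (mem_OmegaGL_iff Q _).2 ⟨s, rfl⟩, key s⟩
  · rintro ⟨g, hg, rfl⟩
    obtain ⟨s, hs⟩ := (mem_OmegaGL_iff Q _).1 hg
    refine ⟨QuotientGroup.mk s, ?_⟩
    rw [← key s]
    congr 1
    exact Subtype.ext hs

end AutPO

/-- a homomorphism defined on `B` with kernel `A · ker Ψ` descends to the image of `B` -/
theorem exists_hom_of_quot {G M C : Type*} [Group G] [Group M] [Group C] (Ψ : G →* M)
    (A B : Subgroup G) (χ : ↥B →* C) (hsurj : Function.Surjective χ)
    (hker : ∀ b : ↥B, χ b = 1 ↔ ∃ a ∈ A, ∃ z ∈ Ψ.ker, (b : G) = a * z) :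
    ∃ φ : ↥(B.map Ψ) →* C, Function.Surjective φ ∧ φ.ker = (A.map Ψ).subgroupOf (B.map Ψ) := by
  have hπ : Function.Surjective (Ψ.subgroupMap B) := Ψ.subgroupMap_surjective B
  have hle : (Ψ.subgroupMap B).ker ≤ χ.ker := by
    intro b hb
    rw [MonoidHom.mem_ker] at hb ⊢
    rw [hker]
    refine ⟨1, A.one_mem, (b : G), ?_, by rw [one_mul]⟩
    rw [MonoidHom.mem_ker]
    exact congrArg Subtype.val hb
  obtain ⟨φ, hφ⟩ : ∃ φ : ↥(B.map Ψ) →* C, ∀ b, φ (Ψ.subgroupMap B b) = χ b :=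
    ⟨(Ψ.subgroupMap B).liftOfSurjective hπ ⟨χ, hle⟩, fun b =>
      MonoidHom.liftOfRightInverse_comp_apply _ _ _ ⟨χ, hle⟩ b⟩
  refine ⟨φ, ?_, ?_⟩
  · intro c
    obtain ⟨b, rfl⟩ := hsurj c
    exact ⟨Ψ.subgroupMap B b, hφ b⟩
  · ext β
    obtain ⟨b, rfl⟩ := hπ β
    rw [MonoidHom.mem_ker, hφ, hker, Subgroup.mem_subgroupOf]
    constructor
    · rintro ⟨a, ha, z, hz, hbz⟩
      refine ⟨a, ha, ?_⟩
      show Ψ a = Ψ b
      rw [hbz, map_mul, MonoidHom.mem_ker.1 hz, mul_one]
    · rintro ⟨a, ha, hab⟩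
      have hab' : Ψ a = Ψ b := hab
      refine ⟨a, ha, a⁻¹ * b, ?_, by group⟩
      rw [MonoidHom.mem_ker, map_mul, map_inv, hab']
      exact inv_mul_cancel _

theorem relIndex_of_hom {M C : Type*} [Group M] [Group C] (A' B' : Subgroup M) (φ : ↥B' →* C)
    (hs : Function.Surjective φ) (hk : φ.ker = A'.subgroupOf B') :
    A'.relIndex B' = Nat.card C := by
  rw [Subgroup.relIndex, ← hk, Subgroup.index_ker, MonoidHom.range_eq_top.2 hs, Subgroup.card_top]

end Cfsg.Agent.Helper16
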