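import Cfsg.Agent.Helper16.SpinorHom

set_option autoImplicit false
open Cfsg

namespace Cfsg.Agent.Helper16

open QuadraticMap

section AutQuot
variable {F : Type*} [Field F] [Fintype F] {ι : Type} [Fintype ι] [DecidableEq ι]

/-- scalar matrices as similarities -/
theorem exists_scalar_sim (Q : QuadraticForm F (ι → F)) (c : Fˣ) :
    ∃ z : ↥(Geo.quadSimilarityGroup (F := F) ⇑Q), (z : GL ι F) ∈ Geo.scalars ι F ∧
      ((z : GL ι F) : Matrix ι ι F) = (c : F) • (1 : Matrix ι ι F) := by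
  obtain ⟨z₀, hz₀⟩ : ∃ z₀ : GL ι F,
      z₀ = Units.map (Matrix.scalar ι : F →+* Matrix ι ι F).toMonoidHom c := ⟨_, rfl⟩
  have hz : (z₀ : Matrix ι ι F) = (c : F) • (1 : Matrix ι ι F) := by
    rw [hz₀]
    show Matrix.scalar ι (c : F) = _
    rw [Matrix.scalar_apply, Matrix.smul_one_eq_diagonal]
  refine ⟨⟨z₀, c * c, fun v => ?_⟩, ⟨c, hz₀.symm⟩, hz⟩
  rw [hz, Matrix.smul_mulVec, Matrix.one_mulVec, qf_smul, Units.val_mul]

theorem multFun_isometry (Q : QuadraticForm F (ι → F)) (hne : ∃ x, Q x ≠ 0)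
    (g : ↥(Geo.quadSimilarityGroup (F := F) ⇑Q)) (hg : (g : GL ι F) ∈ isometryGroup F ⇑Q) :
    multFun ⇑Q g = 1 := by
  apply multFun_unique ⇑Q hne
  intro v
  rw [Units.val_one, one_mul]
  exact (mem_isometryGroup_iff _ _).1 hg v

theorem multFun_scalar (Q : QuadraticForm F (ι → F)) (hne : ∃ x, Q x ≠ 0)
    (g : ↥(Geo.quadSimilarityGroup (F := F) ⇑Q)) (c : F)
    (hc : ((g : GL ι F) : Matrix ι ι F) = c • (1 : Matrix ι ι F)) :
    (multFun ⇑Q g : F) = c * c := by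
  obtain ⟨x, hx⟩ := hne
  have h := multFun_spec ⇑Q g x
  rw [hc, Matrix.smul_mulVec, Matrix.one_mulVec, qf_smul] at h
  exact (mul_right_cancel₀ hx h).symm

theorem mem_specialIsometryGL_iff (Q : (ι → F) → F) (g : GL ι F) :
    g ∈ specialIsometryGL F Q ↔ g ∈ isometryGroup F Q ∧ (g : Matrix ι ι F).det = 1 := by
  show (g ∈ isometryGroup F Q ∧ g ∈ Geo.specialLinear ι F) ↔ _
  have h : g ∈ Geo.specialLinear ι F ↔ (g : Matrix ι ι F).det = 1 := by
    show Matrix.GeneralLinearGroup.det g = 1 ↔ _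
    rw [Units.ext_iff, Matrix.GeneralLinearGroup.val_det_apply, Units.val_one]
  rw [h]

/-- the homomorphism `(multiplier class, det sign)` -/
noncomputable def chiHom (Q : QuadraticForm F (ι → F)) (hQ : (polarBilin Q).Nondegenerate)
    (hne : ∃ x, Q x ≠ 0) (h2 : (2 : F) ≠ 0) (k : ℕ) (hk : Fintype.card ι = 2 * k) :
    ↥(Geo.quadSimilarityGroup (F := F) ⇑Q) →* Multiplicative (ZMod 2 × ZMod 2) :=
  (MulEquiv.prodMultiplicative (G := ZMod 2) (H := ZMod 2)).symm.toMonoidHom.comp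
    (((sqHom F).comp (multHom ⇑Q hne)).prod (detSign Q hQ hne h2 k hk))

theorem chiHom_apply (Q : QuadraticForm F (ι → F)) (hQ : (polarBilin Q).Nondegenerate)
    (hne : ∃ x, Q x ≠ 0) (h2 : (2 : F) ≠ 0) (k : ℕ) (hk : Fintype.card ι = 2 * k)
    (g : ↥(Geo.quadSimilarityGroup (F := F) ⇑Q)) :
    chiHom Q hQ hne h2 k hk g = (MulEquiv.prodMultiplicative (G := ZMod 2) (H := ZMod 2)).symm
      (sqHom F (multFun ⇑Q g), detSign Q hQ hne h2 k hk g) := rfl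

theorem chiHom_eq_one_iff (Q : QuadraticForm F (ι → F)) (hQ : (polarBilin Q).Nondegenerate)
    (hne : ∃ x, Q x ≠ 0) (h2 : (2 : F) ≠ 0) (k : ℕ) (hk : Fintype.card ι = 2 * k)
    (g : ↥(Geo.quadSimilarityGroup (F := F) ⇑Q)) :
    chiHom Q hQ hne h2 k hk g = 1 ↔ IsSquare ((multFun ⇑Q g : Fˣ) : F) ∧
      ((g : GL ι F) : Matrix ι ι F).det = (multFun ⇑Q g : F) ^ k := by
  rw [chiHom_apply, MulEquiv.map_eq_one_iff, Prod.mk_eq_one, sqHom_eq_one_iff, detSign_eq_one_iff]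

theorem chiHom_eq_one_iff' (Q : QuadraticForm F (ι → F)) (hQ : (polarBilin Q).Nondegenerate)
    (hne : ∃ x, Q x ≠ 0) (h2 : (2 : F) ≠ 0) (k : ℕ) (hk : Fintype.card ι = 2 * k)
    (g : ↥(Geo.quadSimilarityGroup (F := F) ⇑Q)) :
    chiHom Q hQ hne h2 k hk g = 1 ↔ ∃ a : ↥(Geo.quadSimilarityGroup (F := F) ⇑Q),
      (a : GL ι F) ∈ specialIsometryGL F ⇑Q ∧ ∃ z : ↥(Geo.quadSimilarityGroup (F := F) ⇑Q),
        (z : GL ι F) ∈ Geo.scalars ι F ∧ g = a * z := by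
  rw [chiHom_eq_one_iff]
  constructor
  · rintro ⟨⟨l, hl⟩, hdet⟩
    have hl0 : l ≠ 0 := by
      rintro rfl
      rw [mul_zero] at hl
      exact (Units.ne_zero _) hl
    obtain ⟨z, hz, hzm⟩ := exists_scalar_sim Q (Units.mk0 l hl0)
    obtain ⟨w, hw, hwm⟩ := exists_scalar_sim Q (Units.mk0 l hl0)⁻¹
    rw [Units.val_mk0] at hzm
    rw [Units.val_inv_eq_inv_val, Units.val_mk0] at hwm
    have hwz : w * z = 1 := by
      apply Subtype.ext
      apply Units.ext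
      rw [Subgroup.coe_mul, Units.val_mul, hzm, hwm, Matrix.smul_mul, Matrix.mul_smul, one_mul,
        smul_smul, inv_mul_cancel₀ hl0, one_smul]
      rfl
    refine ⟨g * w, ?_, z, hz, by rw [mul_assoc, hwz, mul_one]⟩
    rw [mem_specialIsometryGL_iff, mem_isometryGroup_iff]
    constructor
    · intro x
      rw [Subgroup.coe_mul, Units.val_mul, ← Matrix.mulVec_mulVec, multFun_spec ⇑Q g, hwm,
        Matrix.smul_mulVec, Matrix.one_mulVec, qf_smul, hl]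
      field_simp
    · rw [Subgroup.coe_mul, Units.val_mul, Matrix.det_mul, hdet, hwm, Matrix.det_smul,
        Matrix.det_one, mul_one, hk, hl, pow_mul, ← mul_pow, inv_pow, _root_.sq]
      rw [mul_inv_cancel₀ (mul_ne_zero hl0 hl0), one_pow]
  · rintro ⟨a, ha, z, hz, rfl⟩
    obtain ⟨c, hc⟩ := (Geo.mem_scalars_iff _).1 hz
    rw [mem_specialIsometryGL_iff] at ha
    have hμa : multFun ⇑Q a = 1 := multFun_isometry Q hne a ha.1
    have hμz : (multFun ⇑Q z : F) = c * c := multFun_scalar Q hne z c hc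
    have hμ : (multFun ⇑Q (a * z) : F) = c * c := by
      have h := (multHom ⇑Q hne).map_mul a z
      rw [multHom_apply, multHom_apply, multHom_apply] at h
      rw [h, Units.val_mul, hμa, Units.val_one, one_mul, hμz]
    refine ⟨⟨c, hμ⟩, ?_⟩
    rw [hμ, Subgroup.coe_mul, Units.val_mul, Matrix.det_mul, hc, Matrix.det_smul, Matrix.det_one,
      mul_one, hk, ha.2, one_mul, pow_mul, _root_.sq]

/-- `-1` as an isometry -/
noncomputable def negIso (Q : QuadraticForm F (ι → F)) : ↥(isometryGroup F ⇑Q) :=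
  ⟨-1, (mem_isometryGroup_iff _ _).2 (fun x => by
    rw [Units.val_neg, Units.val_one, Matrix.neg_mulVec, Matrix.one_mulVec]
    exact QuadraticMap.map_neg Q x)⟩

theorem negIso_coe (Q : QuadraticForm F (ι → F)) :
    ((negIso Q : GL ι F) : Matrix ι ι F) = -1 := by
  show ((-1 : GL ι F) : Matrix ι ι F) = -1
  rw [Units.val_neg, Units.val_one]

theorem negIso_mem_iff (Q : QuadraticForm F (ι → F)) :
    negIso Q ∈ Omega F ⇑Q ↔ ∃ g : ↥(isometryGroup F ⇑Q), g ∈ Omega F ⇑Q ∧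
      ((g : GL ι F) : Matrix ι ι F) = -1 := by
  constructor
  · intro h
    exact ⟨negIso Q, h, negIso_coe Q⟩
  · rintro ⟨g, hg, hgm⟩
    have : g = negIso Q := isom_ext _ _ _ (by rw [hgm, negIso_coe])
    rw [← this]
    exact hg

theorem negIso_mul_self (Q : QuadraticForm F (ι → F)) : negIso Q * negIso Q = 1 := by
  apply isom_ext
  rw [Subgroup.coe_mul, Units.val_mul, negIso_coe]
  simp

theorem det_negIso (Q : QuadraticForm F (ι → F)) (he : Even (Fintype.card ι)) :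
    ((negIso Q : GL ι F) : Matrix ι ι F).det = 1 := by
  rw [negIso_coe, Matrix.det_neg, Matrix.det_one, mul_one, he.neg_one_pow]

theorem so_dichotomy (h2 : (2 : F) ≠ 0) (Q : QuadraticForm F (ι → F))
    (hQ : (polarBilin Q).Nondegenerate) (he : Even (Fintype.card ι))
    (hneg : negIso Q ∉ Omega F ⇑Q) (s : ↥(isometryGroup F ⇑Q))
    (hs : ((s : GL ι F) : Matrix ι ι F).det = 1) :
    s ∈ Omega F ⇑Q ∨ s * negIso Q ∈ Omega F ⇑Q := by
  by_cases hsΩ : s ∈ Omega F ⇑Q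
  · exact Or.inl hsΩ
  · right
    rw [mem_Omega_iff_det_spinor h2 Q hQ] at hsΩ hneg ⊢
    have h1 : spinorHom h2 Q hQ s ≠ 1 := fun h => hsΩ ⟨hs, h⟩
    have h3 : spinorHom h2 Q hQ (negIso Q) ≠ 1 := fun h => hneg ⟨det_negIso Q he, h⟩
    refine ⟨?_, ?_⟩
    · rw [Subgroup.coe_mul, Units.val_mul, Matrix.det_mul, hs, det_negIso Q he, one_mul]
    · rw [map_mul]
      exact zmod2_mul_eq_one _ _ h1 h3

/-- `-1` as a similarity -/
noncomputable def negSim (Q : QuadraticForm F (ι → F)) : ↥(Geo.quadSimilarityGroup (F := F) ⇑Q) :=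
  ⟨negIso Q, isometry_le_sim ⇑Q (negIso Q).2⟩

theorem negSim_mul_self (Q : QuadraticForm F (ι → F)) : negSim Q * negSim Q = 1 := by
  apply Subtype.ext
  have h := congrArg (fun t : ↥(isometryGroup F ⇑Q) => (t : GL ι F)) (negIso_mul_self Q)
  exact h

theorem negSim_mem_scalars (Q : QuadraticForm F (ι → F)) :
    ((negSim Q : ↥(Geo.quadSimilarityGroup (F := F) ⇑Q)) : GL ι F) ∈ Geo.scalars ι F := by
  rw [Geo.mem_scalars_iff]
  refine ⟨-1, ?_⟩
  show ((negIso Q : GL ι F) : Matrix ι ι F) = _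
  rw [negIso_coe]
  simp

theorem Omega_det (h2 : (2 : F) ≠ 0) (Q : QuadraticForm F (ι → F))
    (hQ : (polarBilin Q).Nondegenerate) (s : ↥(Omega F ⇑Q)) :
    (((s : ↥(isometryGroup F ⇑Q)) : GL ι F) : Matrix ι ι F).det = 1 :=
  ((mem_Omega_iff_det_spinor h2 Q hQ s.1).1 s.2).1

theorem chiHom_surjective (h2 : (2 : F) ≠ 0) (Q : QuadraticForm F (ι → F))
    (hQ : (polarBilin Q).Nondegenerate) (hne : ∃ x, Q x ≠ 0) (k : ℕ)
    (hk : Fintype.card ι = 2 * k)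
    (hsim : ∃ g₀ : ↥(Geo.quadSimilarityGroup (F := F) ⇑Q),
      ¬ IsSquare ((multFun ⇑Q g₀ : Fˣ) : F)) :
    Function.Surjective (chiHom Q hQ hne h2 k hk) := by
  intro c
  obtain ⟨g₀, hg₀⟩ := hsim
  obtain ⟨v₁, hv₁⟩ := hne
  have hne : ∃ x, Q x ≠ 0 := ⟨v₁, hv₁⟩
  obtain ⟨r, hr⟩ : ∃ r : ↥(Geo.quadSimilarityGroup (F := F) ⇑Q),
      r = ⟨reflElt Q v₁, isometry_le_sim ⇑Q (reflElt Q v₁).2⟩ := ⟨_, rfl⟩
  have hrμ : multFun ⇑Q r = 1 := multFun_isometry Q hne r (by rw [hr]; exact (reflElt Q v₁).2)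
  have hr1 : sqHom F (multFun ⇑Q r) = 1 := by rw [hrμ, map_one]
  have hr2 : detSign Q hQ hne h2 k hk r ≠ 1 := by
    intro h
    rw [detSign_eq_one_iff, hrμ, Units.val_one, one_pow, hr] at h
    have h' : ((reflElt Q v₁ : GL ι F) : Matrix ι ι F).det = 1 := h
    rw [reflElt_coe Q v₁ hv₁, det_reflMatrix Q v₁ hv₁] at h'
    apply h2
    linear_combination -h'
  have hg1 : sqHom F (multFun ⇑Q g₀) ≠ 1 := by
    rw [Ne, sqHom_eq_one_iff]
    exact hg₀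
  obtain ⟨c₁, c₂, hc⟩ : ∃ c₁ c₂ : Multiplicative (ZMod 2),
      c = (MulEquiv.prodMultiplicative (G := ZMod 2) (H := ZMod 2)).symm (c₁, c₂) :=
    ⟨((MulEquiv.prodMultiplicative (G := ZMod 2) (H := ZMod 2)) c).1,
      ((MulEquiv.prodMultiplicative (G := ZMod 2) (H := ZMod 2)) c).2, by simp⟩
  obtain ⟨g₁, hg₁⟩ : ∃ g₁ : ↥(Geo.quadSimilarityGroup (F := F) ⇑Q),
      sqHom F (multFun ⇑Q g₁) = c₁ := by
    by_cases h1 : c₁ = 1
    · refine ⟨1, ?_⟩
      rw [← multHom_apply ⇑Q hne, map_one, map_one, h1]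
    · exact ⟨g₀, zmod2_eq_of_ne_one _ _ hg1 h1⟩
  obtain ⟨g, hg1', hg2'⟩ : ∃ g : ↥(Geo.quadSimilarityGroup (F := F) ⇑Q),
      sqHom F (multFun ⇑Q g) = c₁ ∧ detSign Q hQ hne h2 k hk g = c₂ := by
    by_cases h3 : detSign Q hQ hne h2 k hk g₁ = c₂
    · exact ⟨g₁, hg₁, h3⟩
    · refine ⟨g₁ * r, ?_, ?_⟩
      · rw [← multHom_apply ⇑Q hne, map_mul, map_mul, multHom_apply, multHom_apply, hr1, mul_one,
          hg₁]
      · rw [map_mul]
        exact zmod2_mul_eq _ _ _ h3 hr2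
  refine ⟨g, ?_⟩
  rw [chiHom_apply, hc, hg1', hg2']

theorem sim_top_subtype_surj {G C : Type*} [Group G] [Group C] (H : Subgroup G) (χ : ↥H →* C)
    (hχ : Function.Surjective χ) :
    Function.Surjective (χ.comp (H.subgroupOf H).subtype) := by
  intro c
  obtain ⟨g, hg⟩ := hχ c
  exact ⟨⟨g, Subgroup.mem_subgroupOf.2 g.2⟩, hg⟩

/-- `PGO / PSO ≅ C₂ × C₂` -/
theorem exists_hom_pgo_pso (h2 : (2 : F) ≠ 0) (Q : QuadraticForm F (ι → F))
    (hQ : (polarBilin Q).Nondegenerate) (hP : SiegelScalar Q) (k : ℕ)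
    (hk : Fintype.card ι = 2 * k) (hk1 : 1 ≤ k)
    (hsim : ∃ g₀ : ↥(Geo.quadSimilarityGroup (F := F) ⇑Q),
      ¬ IsSquare ((multFun ⇑Q g₀ : Fˣ) : F)) :
    ∃ φ : ↥(pgoAut F ⇑Q) →* Multiplicative (ZMod 2 × ZMod 2), Function.Surjective φ ∧
      φ.ker = (psoAut F ⇑Q).subgroupOf (pgoAut F ⇑Q) := by
  have hι : 2 ≤ Fintype.card ι := by omega
  obtain ⟨v₁, hv₁⟩ := exists_rep h2 Q hQ hι 1 one_ne_zero
  have hne : ∃ x, Q x ≠ 0 := ⟨v₁, by rw [hv₁]; exact one_ne_zero⟩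
  rw [pgoAut_eq, psoAut_eq]
  apply exists_hom_of_quot (autHom ⇑Q) _ _ ((chiHom Q hQ hne h2 k hk).comp (Subgroup.subtype _))
  · exact sim_top_subtype_surj _ _ (chiHom_surjective h2 Q hQ hne k hk hsim)
  · intro b
    rw [MonoidHom.comp_apply, chiHom_eq_one_iff']
    constructor
    · rintro ⟨a, ha, z, hz, hb⟩
      exact ⟨a, ha, z, (MonoidHom.mem_ker).2 ((autHom_eq_one_iff h2 Q hQ hP hne z).2 hz), hb⟩
    · rintro ⟨a, ha, z, hz, hb⟩
      exact ⟨a, ha, z, (autHom_eq_one_iff h2 Q hQ hP hne z).1 (MonoidHom.mem_ker.1 hz), hb⟩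

end AutQuot

end Cfsg.Agent.Helper16
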