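import Cfsg.Agent.Helper16.SimPlusMinus

set_option autoImplicit false
open Cfsg

namespace Cfsg.Agent.Helper16

open QuadraticMap

section AutQuot2
variable {F : Type*} [Field F] [Fintype F] {ι : Type} [Fintype ι] [DecidableEq ι]

/-- an isometry in the kernel of `autHom` is `±1` -/
theorem ker_isometry (h2 : (2 : F) ≠ 0) (Q : QuadraticForm F (ι → F))
    (hQ : (polarBilin Q).Nondegenerate) (hP : SiegelScalar Q) (hne : ∃ x, Q x ≠ 0)
    (z : ↥(Geo.quadSimilarityGroup (F := F) ⇑Q)) (hz : autHom ⇑Q z = 1)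
    (hzi : (z : GL ι F) ∈ isometryGroup F ⇑Q) :
    ((z : GL ι F) : Matrix ι ι F) = 1 ∨ ((z : GL ι F) : Matrix ι ι F) = -1 := by
  obtain ⟨c, hc⟩ := (Geo.mem_scalars_iff _).1 ((autHom_eq_one_iff h2 Q hQ hP hne z).1 hz)
  obtain ⟨x, hx⟩ := hne
  have hiso := (mem_isometryGroup_iff _ _).1 hzi x
  rw [hc, Matrix.smul_mulVec, Matrix.one_mulVec, qf_smul] at hiso
  have h4 : ((c : F) - 1) * ((c : F) + 1) * Q x = 0 := by linear_combination hiso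
  rcases mul_eq_zero.1 h4 with h | h
  · rcases mul_eq_zero.1 h with h | h
    · left
      rw [hc, sub_eq_zero.1 h, one_smul]
    · right
      rw [hc, eq_neg_of_add_eq_zero_left h, neg_smul, one_smul]
  · exact absurd h hx

/-- an isometry in `Ω · ker` lies in `Ω`, when `-1 ∈ Ω` -/
theorem mem_Omega_of_mul_ker (h2 : (2 : F) ≠ 0) (Q : QuadraticForm F (ι → F))
    (hQ : (polarBilin Q).Nondegenerate) (hP : SiegelScalar Q) (hne : ∃ x, Q x ≠ 0)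
    (hneg : negIso Q ∈ Omega F ⇑Q) (s : ↥(isometryGroup F ⇑Q))
    (a z : ↥(Geo.quadSimilarityGroup (F := F) ⇑Q)) (ha : (a : GL ι F) ∈ OmegaGL ⇑Q)
    (hz : z ∈ (autHom ⇑Q).ker)
    (hs : (s : GL ι F) = ((a * z : ↥(Geo.quadSimilarityGroup (F := F) ⇑Q)) : GL ι F)) :
    s ∈ Omega F ⇑Q := by
  obtain ⟨t, ht⟩ := (mem_OmegaGL_iff ⇑Q _).1 ha
  have hzi : (z : GL ι F) ∈ isometryGroup F ⇑Q := by
    have h1 : (z : GL ι F) = (a : GL ι F)⁻¹ * (s : GL ι F) := by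
      rw [hs, Subgroup.coe_mul]
      group
    rw [h1, ← ht]
    exact mul_mem (inv_mem t.1.2) s.2
  rcases ker_isometry h2 Q hQ hP hne z (MonoidHom.mem_ker.1 hz) hzi with h | h
  · have h3 : s = t.1 := isom_ext _ _ _ (by
      rw [hs, Subgroup.coe_mul, Units.val_mul, h, mul_one, ht])
    rw [h3]
    exact t.2
  · have h3 : s = t.1 * negIso Q := isom_ext _ _ _ (by
      rw [hs, Subgroup.coe_mul, Units.val_mul, h, Subgroup.coe_mul, Units.val_mul, negIso_coe, ht])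
    rw [h3]
    exact mul_mem t.2 hneg

theorem relIndex_inn_pso_of_not (h2 : (2 : F) ≠ 0) (Q : QuadraticForm F (ι → F))
    (hQ : (polarBilin Q).Nondegenerate) (hP : SiegelScalar Q) (k : ℕ)
    (hk : Fintype.card ι = 2 * k) (hk1 : 1 ≤ k) (hneg : negIso Q ∉ Omega F ⇑Q) :
    (Inn (POmega F ⇑Q)).relIndex (psoAut F ⇑Q) = 1 := by
  have hι : 2 ≤ Fintype.card ι := by omega
  obtain ⟨v₁, hv₁⟩ := exists_rep h2 Q hQ hι 1 one_ne_zero
  have hne : ∃ x, Q x ≠ 0 := ⟨v₁, by rw [hv₁]; exact one_ne_zero⟩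
  rw [inn_eq, psoAut_eq]
  obtain ⟨φ, hs, hker⟩ := exists_hom_of_quot (autHom ⇑Q) ((OmegaGL ⇑Q).subgroupOf _)
    ((specialIsometryGL F ⇑Q).subgroupOf _) (1 : _ →* Unit) (fun c => ⟨1, rfl⟩) (by
    intro b
    refine ⟨fun _ => ?_, fun _ => rfl⟩
    have hb := (mem_specialIsometryGL_iff ⇑Q _).1 (Subgroup.mem_subgroupOf.1 b.2)
    rcases so_dichotomy h2 Q hQ ⟨k, by omega⟩ hneg ⟨_, hb.1⟩ hb.2 with h | h
    · exact ⟨b.1, (mem_OmegaGL_iff ⇑Q _).2 ⟨⟨_, h⟩, rfl⟩, 1, one_mem _, (mul_one _).symm⟩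
    · refine ⟨b.1 * negSim Q, (mem_OmegaGL_iff ⇑Q _).2 ⟨⟨_, h⟩, rfl⟩, negSim Q, ?_, ?_⟩
      · exact MonoidHom.mem_ker.2 ((autHom_eq_one_iff h2 Q hQ hP hne _).2 (negSim_mem_scalars Q))
      · rw [mul_assoc, negSim_mul_self, mul_one])
  rw [relIndex_of_hom _ _ φ hs hker, Nat.card_unique]

/-- the inclusion of `SO` (inside the similarity group) into the isometry group -/
def soToIso (Q : (ι → F) → F) :
    ↥((specialIsometryGL F Q).subgroupOf (Geo.quadSimilarityGroup (F := F) Q)) →*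
      ↥(isometryGroup F Q) :=
  MonoidHom.mk' (fun b => ⟨((b : ↥(Geo.quadSimilarityGroup (F := F) Q)) : GL ι F),
    ((mem_specialIsometryGL_iff Q _).1 (Subgroup.mem_subgroupOf.1 b.2)).1⟩) (fun _ _ => rfl)

theorem soToIso_coe (Q : (ι → F) → F)
    (b : ↥((specialIsometryGL F Q).subgroupOf (Geo.quadSimilarityGroup (F := F) Q))) :
    (soToIso Q b : GL ι F) = ((b : ↥(Geo.quadSimilarityGroup (F := F) Q)) : GL ι F) := rfl

/-- an element of `SO` with non-trivial spinor norm -/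
theorem exists_so_nonsq (h2 : (2 : F) ≠ 0) (Q : QuadraticForm F (ι → F))
    (hQ : (polarBilin Q).Nondegenerate) (hι : 2 ≤ Fintype.card ι) :
    ∃ p : ↥(isometryGroup F ⇑Q), ((p : GL ι F) : Matrix ι ι F).det = 1 ∧
      spinorHom h2 Q hQ p ≠ 1 := by
  obtain ⟨u, hu⟩ := exists_rep h2 Q hQ hι 1 one_ne_zero
  have hu0 : Q u ≠ 0 := by rw [hu]; exact one_ne_zero
  obtain ⟨ν, hν⟩ := FiniteField.exists_nonsquare (ringChar_ne_two_of_two_ne_zero h2)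
  have hν0 : ν ≠ 0 := by
    rintro rfl
    exact hν IsSquare.zero
  obtain ⟨w, hw⟩ := exists_rep h2 Q hQ hι ν hν0
  have hw0 : Q w ≠ 0 := by rw [hw]; exact hν0
  refine ⟨reflElt Q u * reflElt Q w, ?_, ?_⟩
  · rw [Subgroup.coe_mul, Units.val_mul, reflElt_coe Q u hu0, reflElt_coe Q w hw0,
      Matrix.det_mul, det_reflMatrix Q u hu0, det_reflMatrix Q w hw0]
    norm_num
  · rw [map_mul, (spinorHom_refl_eq_one_iff h2 Q hQ u hu0).2 (by rw [hu]; exact IsSquare.one),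
      one_mul, Ne, spinorHom_refl_eq_one_iff h2 Q hQ w hw0, hw]
    exact hν

theorem relIndex_inn_pso_of_mem (h2 : (2 : F) ≠ 0) (Q : QuadraticForm F (ι → F))
    (hQ : (polarBilin Q).Nondegenerate) (hP : SiegelScalar Q) (k : ℕ)
    (hk : Fintype.card ι = 2 * k) (hk1 : 1 ≤ k) (hneg : negIso Q ∈ Omega F ⇑Q) :
    (Inn (POmega F ⇑Q)).relIndex (psoAut F ⇑Q) = 2 := by
  have hι : 2 ≤ Fintype.card ι := by omega
  obtain ⟨v₁, hv₁⟩ := exists_rep h2 Q hQ hι 1 one_ne_zero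
  have hne : ∃ x, Q x ≠ 0 := ⟨v₁, by rw [hv₁]; exact one_ne_zero⟩
  rw [inn_eq, psoAut_eq]
  obtain ⟨φ, hs, hker⟩ := exists_hom_of_quot (autHom ⇑Q) ((OmegaGL ⇑Q).subgroupOf _)
    ((specialIsometryGL F ⇑Q).subgroupOf _) ((spinorHom h2 Q hQ).comp (soToIso ⇑Q)) (by
    intro c
    obtain ⟨p, hpdet, hp⟩ := exists_so_nonsq h2 Q hQ hι
    by_cases hc : c = 1
    · exact ⟨1, by rw [map_one, hc]⟩
    · refine ⟨⟨⟨(p : GL ι F), isometry_le_sim ⇑Q p.2⟩, Subgroup.mem_subgroupOf.2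
        ((mem_specialIsometryGL_iff ⇑Q _).2 ⟨p.2, hpdet⟩)⟩, ?_⟩
      exact zmod2_eq_of_ne_one _ _ hp hc) (by
    intro b
    have hb := (mem_specialIsometryGL_iff ⇑Q _).1 (Subgroup.mem_subgroupOf.1 b.2)
    rw [MonoidHom.comp_apply]
    constructor
    · intro hθ
      have hmem : soToIso ⇑Q b ∈ Omega F ⇑Q :=
        (mem_Omega_iff_det_spinor h2 Q hQ _).2 ⟨hb.2, hθ⟩
      exact ⟨b.1, (mem_OmegaGL_iff ⇑Q _).2 ⟨⟨_, hmem⟩, rfl⟩, 1, one_mem _, (mul_one _).symm⟩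
    · rintro ⟨a, ha, z, hz, hbz⟩
      have hmem := mem_Omega_of_mul_ker h2 Q hQ hP hne hneg (soToIso ⇑Q b) a z ha hz (by
        rw [← hbz]
        rfl)
      exact ((mem_Omega_iff_det_spinor h2 Q hQ _).1 hmem).2)
  rw [relIndex_of_hom _ _ φ hs hker]
  simp

/-- `PGO / Inn ≅ C₂ × C₂` when `-1 ∉ Ω` -/
theorem exists_hom_pgo_inn_klein (h2 : (2 : F) ≠ 0) (Q : QuadraticForm F (ι → F))
    (hQ : (polarBilin Q).Nondegenerate) (hP : SiegelScalar Q) (k : ℕ)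
    (hk : Fintype.card ι = 2 * k) (hk1 : 1 ≤ k)
    (hsim : ∃ g₀ : ↥(Geo.quadSimilarityGroup (F := F) ⇑Q),
      ¬ IsSquare ((multFun ⇑Q g₀ : Fˣ) : F)) (hneg : negIso Q ∉ Omega F ⇑Q) :
    ∃ φ : ↥(pgoAut F ⇑Q) →* Multiplicative (ZMod 2 × ZMod 2), Function.Surjective φ ∧
      φ.ker = (Inn (POmega F ⇑Q)).subgroupOf (pgoAut F ⇑Q) := by
  have hι : 2 ≤ Fintype.card ι := by omega
  obtain ⟨v₁, hv₁⟩ := exists_rep h2 Q hQ hι 1 one_ne_zero
  have hne : ∃ x, Q x ≠ 0 := ⟨v₁, by rw [hv₁]; exact one_ne_zero⟩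
  rw [pgoAut_eq, inn_eq]
  apply exists_hom_of_quot (autHom ⇑Q) _ _ ((chiHom Q hQ hne h2 k hk).comp (Subgroup.subtype _))
  · exact sim_top_subtype_surj _ _ (chiHom_surjective h2 Q hQ hne k hk hsim)
  · intro b
    rw [MonoidHom.comp_apply, chiHom_eq_one_iff']
    constructor
    · rintro ⟨a, ha, z, hz, hb⟩
      have ha' := (mem_specialIsometryGL_iff ⇑Q _).1 ha
      have hzker : z ∈ (autHom ⇑Q).ker :=
        MonoidHom.mem_ker.2 ((autHom_eq_one_iff h2 Q hQ hP hne z).2 hz)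
      rcases so_dichotomy h2 Q hQ ⟨k, by omega⟩ hneg ⟨(a : GL ι F), ha'.1⟩ ha'.2 with h | h
      · exact ⟨a, (mem_OmegaGL_iff ⇑Q _).2 ⟨⟨_, h⟩, rfl⟩, z, hzker, hb⟩
      · refine ⟨a * negSim Q, (mem_OmegaGL_iff ⇑Q _).2 ⟨⟨_, h⟩, rfl⟩, negSim Q * z,
          mul_mem (MonoidHom.mem_ker.2 ((autHom_eq_one_iff h2 Q hQ hP hne _).2
            (negSim_mem_scalars Q))) hzker, ?_⟩
        have hb' : (b : ↥(Geo.quadSimilarityGroup (F := F) ⇑Q)) = a * z := hb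
        rw [hb', mul_assoc, ← mul_assoc (negSim Q), negSim_mul_self, one_mul]
    · rintro ⟨a, ha, z, hz, hb⟩
      obtain ⟨t, ht'⟩ := (mem_OmegaGL_iff ⇑Q _).1 ha
      have ht : ((t : ↥(isometryGroup F ⇑Q)) : GL ι F) = (a : GL ι F) := ht'
      refine ⟨a, (mem_specialIsometryGL_iff ⇑Q _).2 ⟨?_, ?_⟩, z,
        (autHom_eq_one_iff h2 Q hQ hP hne z).1 (MonoidHom.mem_ker.1 hz), hb⟩
      · rw [← ht]
        exact t.1.2
      · rw [← ht]
        exact Omega_det h2 Q hQ t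

end AutQuot2

end Cfsg.Agent.Helper16
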