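import Mathlib

set_option autoImplicit false

namespace Cfsg.Agent.Helper16

open Matrix

/-- The determinant of the Gram matrix of a bilinear function given by a matrix `G`, computed in
any basis of `κ → F`, differs from `det G` by a nonzero square. -/
theorem gram_det_eq {F κ ι : Type*} [Field F] [Fintype κ] [DecidableEq κ] [Fintype ι]
    [DecidableEq ι] (b : Module.Basis ι F (κ → F)) (G : Matrix κ κ F)
    (f : (κ → F) → (κ → F) → F) (hf : ∀ x y, f x y = x ⬝ᵥ G *ᵥ y) :
    ∃ d : F, d ≠ 0 ∧ (Matrix.of fun i j : ι => f (b i) (b j)).det = d ^ 2 * G.det := by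
  classical
  let e : ι ≃ κ := b.indexEquiv (Pi.basisFun F κ)
  let P : Matrix κ κ F := fun k l => b (e.symm k) l
  have hP : P = ((Pi.basisFun F κ).toMatrix (b.reindex e))ᵀ := by
    ext k l
    simp [P, Module.Basis.toMatrix_apply]
  have hdet : P.det ≠ 0 := by
    have h1 := Module.Basis.toMatrix_mul_toMatrix_flip (Pi.basisFun F κ) (b.reindex e)
    have h2 := congrArg Matrix.det h1
    rw [Matrix.det_mul, Matrix.det_one] at h2
    rw [hP, Matrix.det_transpose]
    intro h0
    rw [h0, zero_mul] at h2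
    exact zero_ne_one h2
  refine ⟨P.det, hdet, ?_⟩
  have hM : Matrix.reindex e e (Matrix.of fun i j : ι => f (b i) (b j)) = P * G * Pᵀ := by
    ext k l
    rw [Matrix.reindex_apply, Matrix.submatrix_apply, Matrix.of_apply, hf, Matrix.mul_apply]
    have h1 : ∀ y, (P * G) k y * Pᵀ y l = ∑ x, b (e.symm k) x * (G x y * b (e.symm l) y) := by
      intro y
      rw [Matrix.mul_apply, Finset.sum_mul]
      refine Finset.sum_congr rfl fun x _ => ?_
      show b (e.symm k) x * G x y * b (e.symm l) y = _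
      ring
    rw [Finset.sum_congr rfl fun y _ => h1 y, Finset.sum_comm]
    show ∑ x, b (e.symm k) x * (∑ y, G x y * b (e.symm l) y) = _
    refine Finset.sum_congr rfl fun x _ => ?_
    rw [Finset.mul_sum]
  rw [← Matrix.det_reindex_self e, hM, Matrix.det_mul, Matrix.det_mul, Matrix.det_transpose]
  ring

theorem isSquare_gram_det_iff {F κ ι : Type*} [Field F] [Fintype κ] [DecidableEq κ] [Fintype ι]
    [DecidableEq ι] (b : Module.Basis ι F (κ → F)) (G : Matrix κ κ F)
    (f : (κ → F) → (κ → F) → F) (hf : ∀ x y, f x y = x ⬝ᵥ G *ᵥ y) :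
    IsSquare (Matrix.of fun i j : ι => f (b i) (b j)).det ↔ IsSquare G.det := by
  obtain ⟨d, hd, h⟩ := gram_det_eq b G f hf
  rw [h]
  constructor
  · rintro ⟨r, hr⟩
    refine ⟨r / d, ?_⟩
    field_simp
    rw [mul_comm, hr]
    ring
  · rintro ⟨r, hr⟩
    refine ⟨d * r, ?_⟩
    rw [hr]; ring

/-- determinant of the hyperbolic Gram matrix -/
theorem det_hyperbolic {F : Type*} [Field F] (m : ℕ) :
    (Matrix.fromBlocks (0 : Matrix (Fin m) (Fin m) F) (1 : Matrix (Fin m) (Fin m) F)
      (1 : Matrix (Fin m) (Fin m) F) (0 : Matrix (Fin m) (Fin m) F)).det = (-1) ^ m := by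
  have h : (Matrix.fromBlocks (0 : Matrix (Fin m) (Fin m) F) (1 : Matrix (Fin m) (Fin m) F)
      (1 : Matrix (Fin m) (Fin m) F) (0 : Matrix (Fin m) (Fin m) F)) =
      Matrix.fromBlocks (0 : Matrix (Fin m) (Fin m) F) (1 : Matrix (Fin m) (Fin m) F)
        (1 : Matrix (Fin m) (Fin m) F) (1 : Matrix (Fin m) (Fin m) F) *
        Matrix.fromBlocks (1 : Matrix (Fin m) (Fin m) F) (-1 : Matrix (Fin m) (Fin m) F)
        (0 : Matrix (Fin m) (Fin m) F) (1 : Matrix (Fin m) (Fin m) F) := by
    rw [Matrix.fromBlocks_multiply]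
    simp
  rw [h, Matrix.det_mul, Matrix.det_fromBlocks_one₂₂, Matrix.det_fromBlocks_zero₂₁]
  simp [Matrix.det_neg]

/-- `(-1)^m` is a square in a finite field of odd order `q` iff `m (q-1)/2` is even. -/
theorem isSquare_neg_one_pow_iff {F : Type*} [Field F] [Fintype F] {q : ℕ}
    (hF : Fintype.card F = q) (hq : Odd q) (m : ℕ) :
    IsSquare ((-1 : F) ^ m) ↔ Even (m * (q - 1) / 2) := by
  obtain ⟨k, rfl⟩ := hq
  have h1 : m * (2 * k + 1 - 1) / 2 = m * k := by
    rw [Nat.add_sub_cancel, mul_left_comm, Nat.mul_div_cancel_left _ (by norm_num : 0 < 2)]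
  rw [h1, Nat.even_mul]
  rcases Nat.even_or_odd m with hm | hm
  · simp only [hm, true_or, iff_true]
    rw [hm.neg_one_pow]
    exact IsSquare.one
  · rw [hm.neg_one_pow, FiniteField.isSquare_neg_one_iff, hF]
    have hm' : ¬ Even m := Nat.not_even_iff_odd.mpr hm
    simp only [hm', false_or]
    rw [Nat.even_iff]
    omega

theorem two_ne_zero_of_odd_card {F : Type*} [Field F] [Fintype F] (hq : Odd (Fintype.card F)) :
    (2 : F) ≠ 0 := by
  apply Ring.two_ne_zero
  intro h
  rw [FiniteField.even_card_iff_char_two] at h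
  rw [Nat.odd_iff] at hq
  omega

theorem isSquare_neg_one_pow_mul_iff {F : Type*} [Field F] [Fintype F] {q : ℕ}
    (hF : Fintype.card F = q) (hq : Odd q) (m : ℕ) (D : F) (hD : ¬ IsSquare D) :
    IsSquare ((-1 : F) ^ m * D) ↔ ¬ Even (m * (q - 1) / 2) := by
  classical
  rw [← isSquare_neg_one_pow_iff hF hq m]
  have hD0 : D ≠ 0 := by
    rintro rfl
    exact hD IsSquare.zero
  have h1 : ((-1 : F) ^ m) ≠ 0 := pow_ne_zero _ (neg_ne_zero.mpr one_ne_zero)
  rw [← quadraticChar_one_iff_isSquare (mul_ne_zero h1 hD0), map_mul,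
    ← quadraticChar_neg_one_iff_not_isSquare, quadraticChar_neg_one_iff_not_isSquare.mpr hD]
  constructor
  · intro h
    have := congrArg (fun x => -x) h
    simpa using this
  · intro h
    rw [h]; norm_num

theorem not_isSquare_disc {F : Type*} [Field F] [Fintype F] (hq : Odd (Fintype.card F))
    (a c : F) (hac : ∀ z₁ z₂ : F, z₁ ^ 2 + a * z₁ * z₂ + c * z₂ ^ 2 = 0 → z₁ = 0 ∧ z₂ = 0) :
    ¬ IsSquare (a ^ 2 - 4 * c) := by
  rintro ⟨d, hd⟩
  have h2 : (2 : F) ≠ 0 := two_ne_zero_of_odd_card hq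
  have := (hac ((d - a) / 2) 1 (by
    field_simp
    have h4 : (4 : F) = 2 ^ 2 := by norm_num
    linear_combination (-1 : F) * hd)).2
  exact one_ne_zero this

end Cfsg.Agent.Helper16
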