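import Cfsg.Agent.Helper16.AutD8

set_option autoImplicit false
open Cfsg

namespace Cfsg.Agent.Helper16

open QuadraticMap

section IndexTwo
variable {G : Type*} [Group G]

theorem commutator_le_of_index_two (H : Subgroup G) (h : H.index = 2) : commutator G ≤ H := by
  rw [commutator_eq_closure, Subgroup.closure_le]
  rintro _ ⟨x, y, rfl⟩
  rw [SetLike.mem_coe, commutatorElement_def, Subgroup.mul_mem_iff_of_index_two h,
    Subgroup.mul_mem_iff_of_index_two h, Subgroup.mul_mem_iff_of_index_two h, inv_mem_iff,
    inv_mem_iff]
  tauto

theorem index_ker_zmod2 (f : G →* Multiplicative (ZMod 2)) (a : G) (ha : f a ≠ 1) :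
    f.ker.index = 2 := by
  have hsurj : Function.Surjective f := by
    intro y
    by_cases hy : y = 1
    · exact ⟨1, by rw [map_one, hy]⟩
    · exact ⟨a, zmod2_eq_of_ne_one _ _ ha hy⟩
  rw [Subgroup.index_ker, MonoidHom.range_eq_top.2 hsurj, Nat.card_congr Subgroup.topEquiv.toEquiv,
    Nat.card_eq_fintype_card]
  rfl

theorem eq_of_le_of_index_two (K H : Subgroup G) (hK : K.index = 2) (hH : H.index = 2)
    (hle : K ≤ H) : K = H := by
  apply le_antisymm hle
  have h := Subgroup.relIndex_mul_index hle
  rw [hK, hH] at h
  have h1 : K.relIndex H = 1 := by omega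
  exact Subgroup.relIndex_eq_one.1 h1

/-- a group whose abelianisation is a four-group has exactly three subgroups of index two -/
theorem card_index_two_eq_three (d θ : G →* Multiplicative (ZMod 2)) (a b : G) (ha : d a ≠ 1)
    (ha' : θ a = 1) (hb : d b = 1) (hb' : θ b ≠ 1)
    (hΩ : ∀ g, d g = 1 → θ g = 1 → g ∈ commutator G) :
    Nat.card {H : Subgroup G // H.index = 2} = 3 := by
  show Nat.card ({H : Subgroup G | H.index = 2} : Set (Subgroup G)) = 3
  rw [Nat.card_coe_set_eq, Set.ncard_eq_three]
  have hdθa : (d * θ) a ≠ 1 := by
    rw [MonoidHom.mul_apply, ha', mul_one]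
    exact ha
  have hdθb : (d * θ) b ≠ 1 := by
    rw [MonoidHom.mul_apply, hb, one_mul]
    exact hb'
  have hmem : ∀ H : Subgroup G, H.index = 2 → ∀ g, d g = 1 → θ g = 1 → g ∈ H :=
    fun H hH g h1 h3 => commutator_le_of_index_two H hH (hΩ g h1 h3)
  refine ⟨d.ker, θ.ker, (d * θ).ker, ?_, ?_, ?_, ?_⟩
  · intro h
    have : a ∈ θ.ker := ha'
    rw [← h] at this
    exact ha this
  · intro h
    have : b ∈ d.ker := hb
    rw [h] at this
    exact hdθb this
  · intro h
    have : a ∈ θ.ker := ha'
    rw [h] at this
    exact hdθa this
  · ext H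
    simp only [Set.mem_setOf_eq, Set.mem_insert_iff, Set.mem_singleton_iff]
    constructor
    · intro hH
      -- membership of a general element, via the four cosets
      have hcos : ∀ g : G, (d g = 1 ∧ θ g = 1) ∨ (d (g * a⁻¹) = 1 ∧ θ (g * a⁻¹) = 1) ∨
          (d (g * b⁻¹) = 1 ∧ θ (g * b⁻¹) = 1) ∨
          (d (g * (a * b)⁻¹) = 1 ∧ θ (g * (a * b)⁻¹) = 1) := by
        intro g
        by_cases h1 : d g = 1
        · by_cases h3 : θ g = 1
          · exact Or.inl ⟨h1, h3⟩
          · right; right; left
            rw [map_mul, map_mul, map_inv, map_inv, hb, h1, inv_one, mul_one]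
            refine ⟨rfl, ?_⟩
            rw [← zmod2_eq_of_ne_one _ _ h3 hb']
            exact mul_inv_cancel _
        · by_cases h3 : θ g = 1
          · right; left
            rw [map_mul, map_mul, map_inv, map_inv, ha', h3, inv_one, mul_one]
            refine ⟨?_, rfl⟩
            rw [← zmod2_eq_of_ne_one _ _ h1 ha]
            exact mul_inv_cancel _
          · right; right; right
            rw [map_mul, map_mul, map_inv, map_inv, map_mul, map_mul, hb, ha', mul_one, one_mul]
            constructor
            · rw [← zmod2_eq_of_ne_one _ _ h1 ha]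
              exact mul_inv_cancel _
            · rw [← zmod2_eq_of_ne_one _ _ h3 hb']
              exact mul_inv_cancel _
      by_cases haH : a ∈ H
      · by_cases hbH : b ∈ H
        · exfalso
          have htop : H = ⊤ := by
            rw [eq_top_iff]
            intro g _
            rcases hcos g with h | h | h | h
            · exact hmem H hH g h.1 h.2
            · have := H.mul_mem (hmem H hH _ h.1 h.2) haH
              rwa [inv_mul_cancel_right] at this
            · have := H.mul_mem (hmem H hH _ h.1 h.2) hbH
              rwa [inv_mul_cancel_right] at this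
            · have := H.mul_mem (hmem H hH _ h.1 h.2) (H.mul_mem haH hbH)
              rwa [inv_mul_cancel_right] at this
          rw [htop, Subgroup.index_top] at hH
          omega
        · right; left
          symm
          apply eq_of_le_of_index_two _ _ (index_ker_zmod2 θ b hb') hH
          intro g hg
          have hg' : θ g = 1 := hg
          by_cases h1 : d g = 1
          · exact hmem H hH g h1 hg'
          · have h3 : d (g * a⁻¹) = 1 := by
              rw [map_mul, map_inv, ← zmod2_eq_of_ne_one _ _ h1 ha]
              exact mul_inv_cancel _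
            have h4 : θ (g * a⁻¹) = 1 := by
              rw [map_mul, map_inv, ha', hg', inv_one, mul_one]
            have := H.mul_mem (hmem H hH _ h3 h4) haH
            rwa [inv_mul_cancel_right] at this
      · by_cases hbH : b ∈ H
        · left
          symm
          apply eq_of_le_of_index_two _ _ (index_ker_zmod2 d a ha) hH
          intro g hg
          have hg' : d g = 1 := hg
          by_cases h1 : θ g = 1
          · exact hmem H hH g hg' h1
          · have h3 : θ (g * b⁻¹) = 1 := by
              rw [map_mul, map_inv, ← zmod2_eq_of_ne_one _ _ h1 hb']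
              exact mul_inv_cancel _
            have h4 : d (g * b⁻¹) = 1 := by
              rw [map_mul, map_inv, hb, hg', inv_one, mul_one]
            have := H.mul_mem (hmem H hH _ h4 h3) hbH
            rwa [inv_mul_cancel_right] at this
        · right; right
          symm
          apply eq_of_le_of_index_two _ _ (index_ker_zmod2 (d * θ) a hdθa) hH
          have habH : a * b ∈ H := by
            rw [Subgroup.mul_mem_iff_of_index_two hH]
            exact ⟨fun h => absurd h haH, fun h => absurd h hbH⟩
          intro g hg
          have hg' : d g * θ g = 1 := hg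
          by_cases h1 : d g = 1
          · have h3 : θ g = 1 := by rwa [h1, one_mul] at hg'
            exact hmem H hH g h1 h3
          · have h3 : θ g ≠ 1 := by
              intro h3
              rw [h3, mul_one] at hg'
              exact h1 hg'
            have h4 : d (g * (a * b)⁻¹) = 1 := by
              rw [map_mul, map_inv, map_mul, hb, mul_one, ← zmod2_eq_of_ne_one _ _ h1 ha]
              exact mul_inv_cancel _
            have h5 : θ (g * (a * b)⁻¹) = 1 := by
              rw [map_mul, map_inv, map_mul, ha', one_mul, ← zmod2_eq_of_ne_one _ _ h3 hb']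
              exact mul_inv_cancel _
            have := H.mul_mem (hmem H hH _ h4 h5) habH
            rwa [inv_mul_cancel_right] at this
    · rintro (rfl | rfl | rfl)
      · exact index_ker_zmod2 d a ha
      · exact index_ker_zmod2 θ b hb'
      · exact index_ker_zmod2 (d * θ) a hdθa

end IndexTwo

section DetZ2
variable {ι : Type} [Fintype ι] [DecidableEq ι] {F : Type*} [Field F] [Fintype F]

open Classical in
/-- the determinant of an isometry as a homomorphism to `ZMod 2` -/
noncomputable def detZ2 (h2 : (2 : F) ≠ 0) (Q : QuadraticForm F (ι → F))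
    (hQ : (polarBilin Q).Nondegenerate) : ↥(isometryGroup F ⇑Q) →* Multiplicative (ZMod 2) :=
  MonoidHom.mk' (fun g => Multiplicative.ofAdd
    (if ((g : GL ι F) : Matrix ι ι F).det = 1 then (0 : ZMod 2) else 1)) (by
    classical
    intro a b
    rw [← ofAdd_add]
    congr 1
    have hne : (-1 : F) ≠ 1 := by
      intro h
      apply h2
      linear_combination -h
    have hdet : (((a * b : ↥(isometryGroup F ⇑Q)) : GL ι F) : Matrix ι ι F).det =
        ((a : GL ι F) : Matrix ι ι F).det * ((b : GL ι F) : Matrix ι ι F).det := by
      rw [Subgroup.coe_mul, Units.val_mul, Matrix.det_mul]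
    rw [hdet]
    rcases det_iso_dichotomy h2 Q hQ a with ha | ha <;>
    rcases det_iso_dichotomy h2 Q hQ b with hb | hb
    · rw [ha, hb, one_mul, if_pos rfl, add_zero]
    · rw [ha, hb, one_mul, if_pos rfl, if_neg hne, zero_add]
    · rw [ha, hb, mul_one, if_neg hne, if_pos rfl, add_zero]
    · rw [ha, hb, neg_mul_neg, one_mul, if_pos rfl, if_neg hne]
      rfl)

theorem detZ2_eq_one_iff (h2 : (2 : F) ≠ 0) (Q : QuadraticForm F (ι → F))
    (hQ : (polarBilin Q).Nondegenerate) (g : ↥(isometryGroup F ⇑Q)) :
    detZ2 h2 Q hQ g = 1 ↔ ((g : GL ι F) : Matrix ι ι F).det = 1 := by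
  classical
  show Multiplicative.ofAdd (if ((g : GL ι F) : Matrix ι ι F).det = 1 then (0 : ZMod 2) else 1) = 1 ↔ _
  by_cases h : ((g : GL ι F) : Matrix ι ι F).det = 1
  · rw [if_pos h]
    exact ⟨fun _ => h, fun _ => rfl⟩
  · rw [if_neg h]
    constructor
    · intro h1
      exact absurd h1 (by decide)
    · intro h1
      exact absurd h1 h

end DetZ2

end Cfsg.Agent.Helper16
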