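import Mathlib

set_option autoImplicit false

namespace Cfsg.Agent.Helper16

open QuadraticMap

section Basics

variable {F : Type*} [Field F] {V : Type*} [AddCommGroup V] [Module F V]

theorem qf_add (Q : QuadraticForm F V) (x y : V) : Q (x + y) = Q x + Q y + polar Q x y :=
  QuadraticMap.map_add Q x y

theorem qf_smul (Q : QuadraticForm F V) (a : F) (x : V) : Q (a • x) = a * a * Q x := by
  rw [QuadraticMap.map_smul, smul_eq_mul]

theorem qf_polar_self (Q : QuadraticForm F V) (x : V) : polar Q x x = 2 * Q x := by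
  rw [QuadraticMap.polar_self, two_smul, two_mul]

theorem polarBilin_isSymm (Q : QuadraticForm F V) : (polarBilin Q).IsSymm :=
  ⟨fun x y => polar_comm Q x y⟩

theorem qf_polar_zero_right (Q : QuadraticForm F V) (x : V) : polar Q x 0 = 0 := by
  simp [polar]

/-- expansion of `Q (a • x + b • y)` -/
theorem qf_lin2 (Q : QuadraticForm F V) (a b : F) (x y : V) :
    Q (a • x + b • y) = a * a * Q x + b * b * Q y + a * b * polar Q x y := by
  rw [qf_add, qf_smul, qf_smul, polar_smul_left, polar_smul_right, smul_eq_mul, smul_eq_mul]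
  ring

/-- a singular vector has a hyperbolic partner -/
theorem exists_hyp_partner (Q : QuadraticForm F V) (hQ : (polarBilin Q).Nondegenerate) (e : V)
    (he0 : e ≠ 0) (he : Q e = 0) : ∃ f : V, Q f = 0 ∧ polar Q e f = 1 := by
  obtain ⟨w, hw⟩ : ∃ w, polar Q e w ≠ 0 := by
    by_contra hcon
    apply he0
    apply hQ.1
    intro y
    by_contra hne
    exact hcon ⟨y, hne⟩
  obtain ⟨w', hw'⟩ : ∃ w' : V, polar Q e w' = 1 := by
    refine ⟨(polar Q e w)⁻¹ • w, ?_⟩
    rw [polar_smul_right, smul_eq_mul, inv_mul_cancel₀ hw]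
  refine ⟨(1 : F) • w' + (-Q w') • e, ?_, ?_⟩
  · rw [qf_lin2, he, polar_comm, hw']
    ring
  · rw [polar_add_right, polar_smul_right, polar_smul_right, hw', qf_polar_self, he]
    simp

/-- the orthogonal complement of a hyperbolic pair -/
theorem exists_hyp_split [FiniteDimensional F V] (Q : QuadraticForm F V)
    (hQ : (polarBilin Q).Nondegenerate) (e f : V) (he : Q e = 0) (hf : Q f = 0)
    (hef : polar Q e f = 1) :
    ∃ W : Submodule F V, (∀ w ∈ W, polar Q e w = 0 ∧ polar Q f w = 0) ∧
      Module.finrank F W + 2 = Module.finrank F V ∧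
      (polarBilin (Q.comp W.subtype)).Nondegenerate := by
  let T : V →ₗ[F] F × F := LinearMap.prod (polarBilin Q e) (polarBilin Q f)
  have hT : ∀ v, T v = (polar Q e v, polar Q f v) := fun v => rfl
  have hmem : ∀ w ∈ LinearMap.ker T, polar Q e w = 0 ∧ polar Q f w = 0 := by
    intro w hw
    rw [LinearMap.mem_ker, hT, Prod.mk_eq_zero] at hw
    exact hw
  have hmem' : ∀ w, polar Q e w = 0 → polar Q f w = 0 → w ∈ LinearMap.ker T := by
    intro w h1 h2
    rw [LinearMap.mem_ker, hT, h1, h2]
    rfl
  have hfe : polar Q f e = 1 := by rw [polar_comm, hef]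
  refine ⟨LinearMap.ker T, hmem, ?_, ?_⟩
  · have hsurj : Function.Surjective T := by
      rintro ⟨α, β⟩
      refine ⟨α • f + β • e, ?_⟩
      rw [hT, polar_add_right, polar_smul_right, polar_smul_right, polar_add_right,
        polar_smul_right, polar_smul_right, hef, hfe, qf_polar_self, qf_polar_self, he, hf]
      simp
    have h1 := LinearMap.finrank_range_add_finrank_ker T
    rw [LinearMap.range_eq_top.2 hsurj, finrank_top, Module.finrank_prod, Module.finrank_self] at h1
    omega
  · rw [(polarBilin_isSymm _).isRefl.nondegenerate_iff_separatingLeft]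
    intro w hw
    have hw' : ∀ w' ∈ LinearMap.ker T, polar Q (w : V) w' = 0 := fun w' hw'' => hw ⟨w', hw''⟩
    apply Subtype.ext
    apply hQ.1
    intro v
    show polar Q (w : V) v = 0
    have hv' : (1 : F) • v + (-(polar Q f v)) • e + (-(polar Q e v)) • f ∈ LinearMap.ker T := by
      apply hmem'
      · rw [polar_add_right, polar_add_right, polar_smul_right, polar_smul_right, polar_smul_right,
          hef, qf_polar_self, he]
        simp
      · rw [polar_add_right, polar_add_right, polar_smul_right, polar_smul_right, polar_smul_right,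
          hfe, qf_polar_self, hf]
        simp
    have h3 := hw' _ hv'
    rw [polar_add_right, polar_add_right, polar_smul_right, polar_smul_right, polar_smul_right,
      polar_comm Q (w : V) e, polar_comm Q (w : V) f, (hmem _ w.2).1, (hmem _ w.2).2] at h3
    simpa using h3

end Basics

section Singular

variable {F : Type*} [Field F] {V : Type*} [AddCommGroup V] [Module F V]

theorem ringChar_two_of_two_eq_zero (h2 : (2 : F) = 0) : ringChar F = 2 := by
  have : CharP F 2 := CharTwo.of_one_ne_zero_of_two_eq_zero one_ne_zero h2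
  exact ringChar.eq F 2

theorem ringChar_ne_two_of_two_ne_zero (h2 : (2 : F) ≠ 0) : ringChar F ≠ 2 := by
  intro h
  have : CharP F 2 := ringChar.eq_iff.1 h
  exact h2 (by exact_mod_cast CharP.cast_eq_zero F 2)

/-- over a finite field of odd order, `a x² + b y² + c = 0` is solvable when `a, b ≠ 0` -/
theorem exists_sum_sq [Finite F] (h2 : (2 : F) ≠ 0) (a b c : F) (ha : a ≠ 0) (hb : b ≠ 0) :
    ∃ x y : F, a * (x * x) + b * (y * y) + c = 0 := by
  let _ : Fintype F := Fintype.ofFinite F
  have hodd : Fintype.card F % 2 = 1 :=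
    FiniteField.odd_card_of_char_ne_two (ringChar_ne_two_of_two_ne_zero h2)
  have hf : (Polynomial.C a * Polynomial.X ^ 2 : Polynomial F).degree = 2 :=
    Polynomial.degree_C_mul_X_pow 2 ha
  have hg : (Polynomial.C b * Polynomial.X ^ 2 + Polynomial.C 0 * Polynomial.X + Polynomial.C c :
      Polynomial F).degree = 2 := Polynomial.degree_quadratic hb
  obtain ⟨x, y, hxy⟩ := FiniteField.exists_root_sum_quadratic hf hg hodd
  refine ⟨x, y, ?_⟩
  simp only [Polynomial.eval_add, Polynomial.eval_mul, Polynomial.eval_C, Polynomial.eval_pow,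
    Polynomial.eval_X] at hxy
  rw [← hxy]
  ring

/-- a quadratic form with non-degenerate polar form in dimension at least three over a finite
field has a non-zero singular vector -/
theorem exists_singular [Finite F] [FiniteDimensional F V] (Q : QuadraticForm F V)
    (hQ : (polarBilin Q).Nondegenerate) (hd : 3 ≤ Module.finrank F V) :
    ∃ v : V, v ≠ 0 ∧ Q v = 0 := by
  by_cases h2 : (2 : F) = 0
  · -- characteristic two
    have hpos : 0 < Module.finrank F V := by omega
    obtain ⟨v₁, hv₁⟩ := Module.finrank_pos_iff_exists_ne_zero.mp hpos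
    by_cases ha : Q v₁ = 0
    · exact ⟨v₁, hv₁, ha⟩
    have hfr := LinearMap.BilinForm.finrank_orthogonal hQ (F ∙ v₁)
    rw [finrank_span_singleton hv₁] at hfr
    obtain ⟨v₂, hv₂W, hv₂⟩ : ∃ v₂ ∈ LinearMap.BilinForm.orthogonal (polarBilin Q) (F ∙ v₁),
        v₂ ∉ F ∙ v₁ := by
      by_contra hcon
      have hle : LinearMap.BilinForm.orthogonal (polarBilin Q) (F ∙ v₁) ≤ F ∙ v₁ := by
        intro x hx
        by_contra hx'
        exact hcon ⟨x, hx, hx'⟩
      have := Submodule.finrank_mono hle
      rw [finrank_span_singleton hv₁] at this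
      omega
    have h12 : polar Q v₁ v₂ = 0 :=
      (LinearMap.BilinForm.mem_orthogonal_iff.mp hv₂W) v₁ (Submodule.mem_span_singleton_self v₁)
    obtain ⟨s, hs⟩ := FiniteField.isSquare_of_char_two (ringChar_two_of_two_eq_zero h2) (Q v₂)
    obtain ⟨t, ht⟩ := FiniteField.isSquare_of_char_two (ringChar_two_of_two_eq_zero h2) (Q v₁)
    have ht0 : t ≠ 0 := by
      rintro rfl
      rw [mul_zero] at ht
      exact ha ht
    refine ⟨s • v₁ + t • v₂, ?_, ?_⟩
    · intro h0
      apply hv₂
      rw [Submodule.mem_span_singleton]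
      refine ⟨-(t⁻¹ * s), ?_⟩
      have h1 : t • v₂ = -(s • v₁) := eq_neg_of_add_eq_zero_right h0
      have h3 : v₂ = t⁻¹ • (t • v₂) := by rw [smul_smul, inv_mul_cancel₀ ht0, one_smul]
      rw [h3, h1, smul_neg, smul_smul, neg_smul]
    · rw [qf_lin2, h12, ← hs, ← ht]
      have : Q v₂ * Q v₁ + Q v₁ * Q v₂ = 2 * (Q v₁ * Q v₂) := by ring
      rw [mul_zero, add_zero, this, h2, zero_mul]
  · -- odd characteristic
    have : Invertible (2 : F) := invertibleOfNonzero h2
    obtain ⟨b, hb⟩ := LinearMap.BilinForm.exists_orthogonal_basis (polarBilin_isSymm Q)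
    rw [LinearMap.isOrthoᵢ_def] at hb
    let i₀ : Fin (Module.finrank F V) := ⟨0, by omega⟩
    let i₁ : Fin (Module.finrank F V) := ⟨1, by omega⟩
    let i₂ : Fin (Module.finrank F V) := ⟨2, by omega⟩
    have h01 : polar Q (b i₀) (b i₁) = 0 := hb i₀ i₁ (by simp [i₀, i₁, Fin.ext_iff])
    have h02 : polar Q (b i₀) (b i₂) = 0 := hb i₀ i₂ (by simp [i₀, i₂, Fin.ext_iff])
    have h12 : polar Q (b i₁) (b i₂) = 0 := hb i₁ i₂ (by simp [i₁, i₂, Fin.ext_iff])
    by_cases ha₀ : Q (b i₀) = 0
    · exact ⟨b i₀, b.ne_zero i₀, ha₀⟩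
    by_cases ha₁ : Q (b i₁) = 0
    · exact ⟨b i₁, b.ne_zero i₁, ha₁⟩
    by_cases ha₂ : Q (b i₂) = 0
    · exact ⟨b i₂, b.ne_zero i₂, ha₂⟩
    obtain ⟨x, y, hxy⟩ := exists_sum_sq h2 (Q (b i₀)) (Q (b i₁)) (Q (b i₂)) ha₀ ha₁
    have hQv : Q ((x • b i₀ + y • b i₁) + (1 : F) • b i₂) = 0 := by
      have h5 : Q ((x • b i₀ + y • b i₁) + (1 : F) • b i₂) =
          Q (b i₀) * (x * x) + Q (b i₁) * (y * y) + Q (b i₂) := by
        rw [qf_add, qf_lin2, qf_smul, polar_add_left, polar_smul_left, polar_smul_left,
          polar_smul_right, polar_smul_right, h01, h02, h12]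
        simp only [smul_eq_mul]
        ring
      rw [h5, hxy]
    refine ⟨(x • b i₀ + y • b i₁) + (1 : F) • b i₂, ?_, hQv⟩
    intro h0
    have h3 : polar Q ((x • b i₀ + y • b i₁) + (1 : F) • b i₂) (b i₂) = 2 * Q (b i₂) := by
      rw [polar_add_left, polar_add_left, polar_smul_left, polar_smul_left, polar_smul_left,
        h02, h12, qf_polar_self]
      simp
    rw [h0] at h3
    have h4 : polar Q (0 : V) (b i₂) = 0 := by simp [polar]
    rw [h4] at h3
    exact (mul_ne_zero h2 ha₂) h3.symm

end Singular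

section Families

universe u v

variable {F : Type u} [Field F] {V : Type v} [AddCommGroup V] [Module F V]

/-- a family of `k` mutually orthogonal hyperbolic pairs -/
def IsHypFamily (Q : QuadraticForm F V) {k : ℕ} (e f : Fin k → V) : Prop :=
  (∀ i, Q (e i) = 0 ∧ Q (f i) = 0) ∧ (∀ i j, polar Q (e i) (f j) = if i = j then 1 else 0) ∧
  (∀ i j, polar Q (e i) (e j) = 0 ∧ polar Q (f i) (f j) = 0)

theorem IsHypFamily.cons (Q : QuadraticForm F V) {k : ℕ} {e f : Fin k → V}
    (h : IsHypFamily Q e f) (e₀ f₀ : V) (he : Q e₀ = 0) (hf : Q f₀ = 0) (hef : polar Q e₀ f₀ = 1)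
    (horth : ∀ i, polar Q e₀ (e i) = 0 ∧ polar Q e₀ (f i) = 0 ∧ polar Q f₀ (e i) = 0 ∧
      polar Q f₀ (f i) = 0) :
    IsHypFamily Q (Fin.cons e₀ e : Fin (k + 1) → V) (Fin.cons f₀ f : Fin (k + 1) → V) := by
  obtain ⟨h1, h2, h3⟩ := h
  refine ⟨?_, ?_, ?_⟩
  · intro i
    refine Fin.cases ?_ (fun i' => ?_) i
    · exact ⟨he, hf⟩
    · exact h1 i'
  · intro i j
    refine Fin.cases ?_ (fun i' => ?_) i <;> refine Fin.cases ?_ (fun j' => ?_) j
    · simp [hef]
    · rw [Fin.cons_zero, Fin.cons_succ, (horth j').2.1]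
      simp [Fin.succ_ne_zero, eq_comm]
    · rw [Fin.cons_zero, Fin.cons_succ, polar_comm, (horth i').2.2.1]
      simp [Fin.succ_ne_zero]
    · rw [Fin.cons_succ, Fin.cons_succ, h2]
      simp only [Fin.succ_inj]
  · intro i j
    refine Fin.cases ?_ (fun i' => ?_) i <;> refine Fin.cases ?_ (fun j' => ?_) j
    · simp only [Fin.cons_zero]
      rw [qf_polar_self, qf_polar_self, he, hf]
      simp
    · simp only [Fin.cons_zero, Fin.cons_succ]
      exact ⟨(horth j').1, (horth j').2.2.2⟩
    · simp only [Fin.cons_zero, Fin.cons_succ]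
      rw [polar_comm Q (e i') e₀, polar_comm Q (f i') f₀]
      exact ⟨(horth i').1, (horth i').2.2.2⟩
    · simp only [Fin.cons_succ]
      exact h3 i' j'

/-- Witt decomposition: split off hyperbolic planes down to a residual dimension `d₀ ≥ 1`, for
which a family `u` with a property `P` of its Gram data is assumed to exist. -/
theorem exists_witt_decomp [Finite F] {r d₀ : ℕ} (hd₀ : 1 ≤ d₀)
    (P : (Fin r → F) → (Fin r → Fin r → F) → Prop)
    (base : ∀ (V : Type v) [AddCommGroup V] [Module F V] [FiniteDimensional F V]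
      (Q : QuadraticForm F V), (polarBilin Q).Nondegenerate → Module.finrank F V = d₀ →
      ∃ u : Fin r → V, P (fun i => Q (u i)) (fun i j => polar Q (u i) (u j))) :
    ∀ (k : ℕ) (V : Type v) [AddCommGroup V] [Module F V] [FiniteDimensional F V]
      (Q : QuadraticForm F V), (polarBilin Q).Nondegenerate → Module.finrank F V = 2 * k + d₀ →
      ∃ (e f : Fin k → V) (u : Fin r → V), IsHypFamily Q e f ∧
        P (fun i => Q (u i)) (fun i j => polar Q (u i) (u j)) ∧
        ∀ i j, polar Q (e i) (u j) = 0 ∧ polar Q (f i) (u j) = 0 := by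
  intro k
  induction k with
  | zero =>
    intro V _ _ _ Q hQ hV
    obtain ⟨u, hu⟩ := base V Q hQ (by omega)
    exact ⟨Fin.elim0, Fin.elim0, u, ⟨fun i => Fin.elim0 i, fun i => Fin.elim0 i,
      fun i => Fin.elim0 i⟩, hu, fun i => Fin.elim0 i⟩
  | succ k ih =>
    intro V _ _ _ Q hQ hV
    obtain ⟨e₀, he₀0, he₀⟩ := exists_singular Q hQ (by omega)
    obtain ⟨f₀, hf₀, hef⟩ := exists_hyp_partner Q hQ e₀ he₀0 he₀
    obtain ⟨W, hW, hWfr, hWnd⟩ := exists_hyp_split Q hQ e₀ f₀ he₀ hf₀ hef
    obtain ⟨e', f', u', hfam, hP, horth⟩ := ih ↥W (Q.comp W.subtype) hWnd (by omega)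
    refine ⟨Fin.cons e₀ (fun i => (e' i : V)), Fin.cons f₀ (fun i => (f' i : V)),
      fun j => (u' j : V), ?_, hP, ?_⟩
    · apply IsHypFamily.cons Q (e := fun i => (e' i : V)) (f := fun i => (f' i : V)) hfam
        e₀ f₀ he₀ hf₀ hef
      intro i
      exact ⟨(hW _ (e' i).2).1, (hW _ (f' i).2).1, (hW _ (e' i).2).2, (hW _ (f' i).2).2⟩
    · intro i j
      refine Fin.cases ?_ (fun i' => ?_) i
      · simp only [Fin.cons_zero]
        exact hW _ (u' j).2
      · simp only [Fin.cons_succ]
        exact horth i' j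

/-- linear independence from dual functionals -/
theorem linearIndependent_of_dual {ι : Type*} [Fintype ι] [DecidableEq ι] (g : ι → V)
    (φ : ι → V →ₗ[F] F) (h : ∀ i j, φ j (g i) = if i = j then 1 else 0) :
    LinearIndependent F g := by
  rw [Fintype.linearIndependent_iff]
  intro c hc j
  have h1 := congrArg (φ j) hc
  rw [map_sum, map_zero] at h1
  simp only [map_smul, h, smul_eq_mul, mul_ite, mul_one, mul_zero, Finset.sum_ite_eq',
    Finset.mem_univ, if_true] at h1
  exact h1

/-- a hyperbolic family together with an orthogonal family having dual functionals is linearly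
independent -/
theorem linearIndependent_sum_hyp {ι' : Type*} [Fintype ι'] [DecidableEq ι']
    (Q : QuadraticForm F V) {k : ℕ} {e f : Fin k → V} (h : IsHypFamily Q e f) (u : ι' → V)
    (ψ : ι' → V →ₗ[F] F) (hψ : ∀ i j, ψ j (u i) = if i = j then 1 else 0)
    (hψe : ∀ i j, ψ j (e i) = 0 ∧ ψ j (f i) = 0)
    (horth : ∀ i j, polar Q (e i) (u j) = 0 ∧ polar Q (f i) (u j) = 0) :
    LinearIndependent F (Sum.elim (Sum.elim e f) u) := by
  obtain ⟨h1, h2, h3⟩ := h
  apply linearIndependent_of_dual _
    (Sum.elim (Sum.elim (fun j => polarBilin Q (f j)) (fun j => polarBilin Q (e j))) ψ)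
  rintro ((i | i) | i) ((j | j) | j)
  · show polar Q (f j) (e i) = _
    rw [polar_comm, h2]
    simp
  · show polar Q (e j) (e i) = _
    rw [(h3 j i).1]
    simp
  · show ψ j (e i) = _
    rw [(hψe i j).1]
    simp
  · show polar Q (f j) (f i) = _
    rw [(h3 j i).2]
    simp
  · show polar Q (e j) (f i) = _
    rw [h2]
    simp [eq_comm]
  · show ψ j (f i) = _
    rw [(hψe i j).2]
    simp
  · show polar Q (f j) (u i) = _
    rw [(horth j i).2]
    simp
  · show polar Q (e j) (u i) = _
    rw [(horth j i).1]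
    simp
  · show ψ j (u i) = _
    rw [hψ]
    simp

end Families

section Base

variable {F : Type*} [Field F] {V : Type*} [AddCommGroup V] [Module F V]

/-- in dimension one a non-degenerate quadratic form is anisotropic -/
theorem exists_ne_zero_of_finrank_one [FiniteDimensional F V] (Q : QuadraticForm F V)
    (hQ : (polarBilin Q).Nondegenerate) (hV : Module.finrank F V = 1) :
    ∃ x : V, Q x ≠ 0 ∧ polar Q x x ≠ 0 := by
  have hpos : 0 < Module.finrank F V := by omega
  obtain ⟨x, hx⟩ := Module.finrank_pos_iff_exists_ne_zero.mp hpos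
  have hxx : polar Q x x ≠ 0 := by
    intro h0
    apply hx
    apply hQ.1
    intro y
    obtain ⟨c, rfl⟩ := (finrank_eq_one_iff_of_nonzero' x hx).1 hV y
    show polar Q x (c • x) = 0
    rw [polar_smul_right, h0]
    simp
  refine ⟨x, ?_, hxx⟩
  intro h0
  apply hxx
  rw [qf_polar_self, h0, mul_zero]

/-- an anisotropic binary form over a finite field represents `1` -/
theorem exists_rep_one [Finite F] [FiniteDimensional F V] (Q : QuadraticForm F V)
    (hV : Module.finrank F V = 2) (han : ∀ v : V, v ≠ 0 → Q v ≠ 0) : ∃ x : V, Q x = 1 := by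
  by_cases h2 : (2 : F) = 0
  · have hpos : 0 < Module.finrank F V := by omega
    obtain ⟨v, hv⟩ := Module.finrank_pos_iff_exists_ne_zero.mp hpos
    obtain ⟨s, hs⟩ := FiniteField.isSquare_of_char_two (ringChar_two_of_two_eq_zero h2) (Q v)⁻¹
    refine ⟨s • v, ?_⟩
    rw [qf_smul, ← hs, inv_mul_cancel₀ (han v hv)]
  · have : Invertible (2 : F) := invertibleOfNonzero h2
    obtain ⟨b, hb⟩ := LinearMap.BilinForm.exists_orthogonal_basis (polarBilin_isSymm Q)
    rw [LinearMap.isOrthoᵢ_def] at hb
    let i₀ : Fin (Module.finrank F V) := ⟨0, by omega⟩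
    let i₁ : Fin (Module.finrank F V) := ⟨1, by omega⟩
    have h01 : polar Q (b i₀) (b i₁) = 0 := hb i₀ i₁ (by simp [i₀, i₁, Fin.ext_iff])
    obtain ⟨x, y, hxy⟩ := exists_sum_sq h2 (Q (b i₀)) (Q (b i₁)) (-1) (han _ (b.ne_zero i₀))
      (han _ (b.ne_zero i₁))
    refine ⟨x • b i₀ + y • b i₁, ?_⟩
    rw [qf_lin2, h01]
    linear_combination hxy

/-- the two types of non-degenerate binary quadratic forms over a finite field -/
theorem exists_binary_type [Finite F] [FiniteDimensional F V] (Q : QuadraticForm F V)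
    (hQ : (polarBilin Q).Nondegenerate) (hV : Module.finrank F V = 2) :
    ∃ u : Fin 2 → V, (Q (u 0) = 0 ∧ Q (u 1) = 0 ∧ polar Q (u 0) (u 1) = 1) ∨
      (Q (u 0) = 1 ∧ polar Q (u 0) (u 1) = 1 ∧ ∀ t : F, t ^ 2 + t + Q (u 1) ≠ 0) := by
  by_cases hsing : ∃ v : V, v ≠ 0 ∧ Q v = 0
  · obtain ⟨e, he0, he⟩ := hsing
    obtain ⟨f, hf, hef⟩ := exists_hyp_partner Q hQ e he0 he
    exact ⟨![e, f], Or.inl ⟨he, hf, hef⟩⟩
  · have han : ∀ v : V, v ≠ 0 → Q v ≠ 0 := fun v hv h0 => hsing ⟨v, hv, h0⟩
    obtain ⟨x, hx⟩ := exists_rep_one Q hV han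
    have hx0 : x ≠ 0 := by
      rintro rfl
      rw [QuadraticMap.map_zero] at hx
      exact zero_ne_one hx
    -- a vector outside the line of `x` not orthogonal to `x`
    obtain ⟨z, hzx, hz⟩ : ∃ z : V, z ∉ F ∙ x ∧ polar Q x z ≠ 0 := by
      obtain ⟨w, hw⟩ : ∃ w : V, w ∉ F ∙ x := by
        by_contra hcon
        have hle : (⊤ : Submodule F V) ≤ F ∙ x := by
          intro y _
          by_contra hy
          exact hcon ⟨y, hy⟩
        have := Submodule.finrank_mono hle
        rw [finrank_span_singleton hx0, finrank_top] at this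
        omega
      by_cases hxw : polar Q x w = 0
      · have hxx : polar Q x x ≠ 0 := by
          obtain ⟨z, hz⟩ : ∃ z, polar Q x z ≠ 0 := by
            by_contra hcon
            apply hx0
            apply hQ.1
            intro y
            by_contra hne
            exact hcon ⟨y, hne⟩
          by_cases hzx : z ∈ F ∙ x
          · obtain ⟨c, rfl⟩ := Submodule.mem_span_singleton.mp hzx
            rw [polar_smul_right] at hz
            intro h0
            rw [h0, smul_zero] at hz
            exact hz rfl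
          · -- then `z` together with `x` spans, and `w` is a combination; use `w` directly
            -- `x` is orthogonal to `w` and (if `polar x x = 0`) to itself
            intro h0
            -- every vector is a combination of `x` and `w`
            have hspan : ∀ y : V, ∃ a c : F, y = a • x + c • w := by
              have hli : LinearIndependent F ![x, w] := by
                rw [LinearIndependent.pair_iff]
                intro a c hac
                by_cases hc : c = 0
                · subst hc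
                  rw [zero_smul, add_zero] at hac
                  exact ⟨by simpa [hx0] using hac, rfl⟩
                · exfalso
                  apply hw
                  rw [Submodule.mem_span_singleton]
                  refine ⟨-(c⁻¹ * a), ?_⟩
                  have h1 : c • w = -(a • x) := eq_neg_of_add_eq_zero_right hac
                  have h3 : w = c⁻¹ • (c • w) := by rw [smul_smul, inv_mul_cancel₀ hc, one_smul]
                  rw [h3, h1, smul_neg, smul_smul, neg_smul]
              have hsp : Submodule.span F (Set.range ![x, w]) = ⊤ := by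
                apply hli.span_eq_top_of_card_eq_finrank'
                rw [Fintype.card_fin, hV]
              intro y
              have hy : y ∈ Submodule.span F (Set.range ![x, w]) := by rw [hsp]; trivial
              rw [Matrix.range_cons, Matrix.range_cons, Matrix.range_empty, Set.union_empty,
                Set.singleton_union, Submodule.mem_span_pair] at hy
              obtain ⟨a, c, rfl⟩ := hy
              exact ⟨a, c, rfl⟩
            obtain ⟨a, c, rfl⟩ := hspan z
            rw [polar_add_right, polar_smul_right, polar_smul_right, h0, hxw] at hz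
            simp at hz
        refine ⟨x + w, ?_, ?_⟩
        · intro hmem
          apply hw
          have := Submodule.sub_mem _ hmem (Submodule.mem_span_singleton_self x)
          simpa using this
        · rw [polar_add_right, hxw, add_zero]
          exact hxx
      · exact ⟨w, hw, hxw⟩
    have hy1 : polar Q x ((polar Q x z)⁻¹ • z) = 1 := by
      rw [polar_smul_right, smul_eq_mul, inv_mul_cancel₀ hz]
    have hy2 : (polar Q x z)⁻¹ • z ∉ F ∙ x := by
      intro hmem
      apply hzx
      have := Submodule.smul_mem _ (polar Q x z) hmem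
      rwa [smul_smul, mul_inv_cancel₀ hz, one_smul] at this
    refine ⟨![x, (polar Q x z)⁻¹ • z], Or.inr ⟨hx, hy1, ?_⟩⟩
    intro t h0
    have h5 : Q (t • x + (1 : F) • ((polar Q x z)⁻¹ • z)) = 0 := by
      rw [qf_lin2, hx, hy1]
      simp only [Matrix.cons_val_one, Matrix.cons_val_zero] at h0
      linear_combination h0
    have h6 : t • x + (1 : F) • ((polar Q x z)⁻¹ • z) = 0 := by
      by_contra hne
      exact han _ hne h5
    apply hy2
    rw [Submodule.mem_span_singleton]
    refine ⟨-t, ?_⟩
    rw [one_smul] at h6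
    rw [neg_smul]
    exact (eq_neg_of_add_eq_zero_right h6).symm

end Base

section Independence

variable {F : Type*} [Field F] {V : Type*} [AddCommGroup V] [Module F V]

theorem linearIndependent_hyp (Q : QuadraticForm F V) {k : ℕ} {e f : Fin k → V}
    (h : IsHypFamily Q e f) : LinearIndependent F (Sum.elim e f) := by
  obtain ⟨h1, h2, h3⟩ := h
  apply linearIndependent_of_dual _
    (Sum.elim (fun j => polarBilin Q (f j)) (fun j => polarBilin Q (e j)))
  rintro (i | i) (j | j)
  · show polar Q (f j) (e i) = _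
    rw [polar_comm, h2]
    simp
  · show polar Q (e j) (e i) = _
    rw [(h3 j i).1]
    simp
  · show polar Q (f j) (f i) = _
    rw [(h3 j i).2]
    simp
  · show polar Q (e j) (f i) = _
    rw [h2]
    simp [eq_comm]

theorem four_mul_sub_one_ne_zero (ζ : F) (hζ : ∀ t : F, t ^ 2 + t + ζ ≠ 0) : 4 * ζ - 1 ≠ 0 := by
  intro h0
  have h2 : (2 : F) ≠ 0 := by
    intro h2
    have h4 : (4 : F) = 0 := by
      have : (4 : F) = 2 * 2 := by norm_num
      rw [this, h2, mul_zero]
    rw [h4, zero_mul, zero_sub] at h0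
    exact one_ne_zero (neg_eq_zero.1 h0)
  apply hζ (-(1 / 2))
  field_simp
  linear_combination h0

theorem linearIndependent_ell (Q : QuadraticForm F V) {k : ℕ} {e f : Fin k → V}
    (h : IsHypFamily Q e f) (u : Fin 2 → V) (hx : Q (u 0) = 1) (hxy : polar Q (u 0) (u 1) = 1)
    (hζ : ∀ t : F, t ^ 2 + t + Q (u 1) ≠ 0)
    (horth : ∀ i j, polar Q (e i) (u j) = 0 ∧ polar Q (f i) (u j) = 0) :
    LinearIndependent F (Sum.elim (Sum.elim e f) u) := by
  have hd := four_mul_sub_one_ne_zero _ hζ
  have hyx : polar Q (u 1) (u 0) = 1 := by rw [polar_comm, hxy]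
  apply linearIndependent_sum_hyp Q h u
    ![(4 * Q (u 1) - 1)⁻¹ • ((2 * Q (u 1)) • polarBilin Q (u 0) - polarBilin Q (u 1)),
      (4 * Q (u 1) - 1)⁻¹ • ((2 : F) • polarBilin Q (u 1) - polarBilin Q (u 0))]
  · intro i j
    fin_cases i <;> fin_cases j
    · show (4 * Q (u 1) - 1)⁻¹ * (2 * Q (u 1) * polar Q (u 0) (u 0) - polar Q (u 1) (u 0)) = _
      rw [qf_polar_self, hx, hyx]
      simp only [Fin.zero_eta, if_true]
      field_simp
      ring
    · show (4 * Q (u 1) - 1)⁻¹ * (2 * polar Q (u 1) (u 0) - polar Q (u 0) (u 0)) = _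
      rw [qf_polar_self, hx, hyx]
      simp
    · show (4 * Q (u 1) - 1)⁻¹ * (2 * Q (u 1) * polar Q (u 0) (u 1) - polar Q (u 1) (u 1)) = _
      rw [qf_polar_self, hxy]
      simp
    · show (4 * Q (u 1) - 1)⁻¹ * (2 * polar Q (u 1) (u 1) - polar Q (u 0) (u 1)) = _
      rw [qf_polar_self, hxy]
      simp only [Fin.mk_one, if_true]
      field_simp
      ring
  · intro i j
    have h1 : polar Q (u 0) (e i) = 0 := by rw [polar_comm, (horth i 0).1]
    have h2 : polar Q (u 1) (e i) = 0 := by rw [polar_comm, (horth i 1).1]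
    have h3 : polar Q (u 0) (f i) = 0 := by rw [polar_comm, (horth i 0).2]
    have h4 : polar Q (u 1) (f i) = 0 := by rw [polar_comm, (horth i 1).2]
    fin_cases j
    · constructor
      · show (4 * Q (u 1) - 1)⁻¹ * (2 * Q (u 1) * polar Q (u 0) (e i) - polar Q (u 1) (e i)) = 0
        rw [h1, h2]; simp
      · show (4 * Q (u 1) - 1)⁻¹ * (2 * Q (u 1) * polar Q (u 0) (f i) - polar Q (u 1) (f i)) = 0
        rw [h3, h4]; simp
    · constructor
      · show (4 * Q (u 1) - 1)⁻¹ * (2 * polar Q (u 1) (e i) - polar Q (u 0) (e i)) = 0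
        rw [h1, h2]; simp
      · show (4 * Q (u 1) - 1)⁻¹ * (2 * polar Q (u 1) (f i) - polar Q (u 0) (f i)) = 0
        rw [h3, h4]; simp
  · exact horth

end Independence

end Cfsg.Agent.Helper16
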