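import Mathlib
import Cfsg.Agent.Helper16.QuadBasis
import Cfsg.Agent.Helper16.Gram

set_option autoImplicit false

namespace Cfsg.Agent.Helper16

open QuadraticMap

section Diag

universe u v

variable {F : Type u} [Field F] {V : Type v} [AddCommGroup V] [Module F V]

/-- value of a quadratic form on a combination of pairwise orthogonal vectors -/
theorem qf_sum_orth {ι : Type*} [Fintype ι] [DecidableEq ι] (Q : QuadraticForm F V) (w : ι → V)
    (horth : ∀ i j, i ≠ j → polar Q (w i) (w j) = 0) (x : ι → F) :
    Q (∑ i, x i • w i) = ∑ i, x i * x i * Q (w i) := by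
  have key : ∀ s : Finset ι, Q (∑ i ∈ s, x i • w i) = ∑ i ∈ s, x i * x i * Q (w i) := by
    intro s
    induction s using Finset.induction_on with
    | empty => simp
    | insert a s ha ih =>
      rw [Finset.sum_insert ha, Finset.sum_insert ha, qf_add, ih, qf_smul]
      have h0 : polar Q (x a • w a) (∑ i ∈ s, x i • w i) = 0 := by
        have h1 : polar Q (x a • w a) (∑ i ∈ s, x i • w i) =
            ∑ i ∈ s, polar Q (x a • w a) (x i • w i) := by
          rw [← polarBilin_apply_apply, map_sum]
          rfl
        rw [h1]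
        apply Finset.sum_eq_zero
        intro i hi
        have hai : a ≠ i := by
          rintro rfl
          exact ha hi
        rw [polar_smul_left, polar_smul_right, horth a i hai]
        simp
      rw [h0, add_zero]
  exact key Finset.univ

/-- a non-degenerate quadratic form in dimension at least two over a finite field of odd order
represents `1` -/
theorem exists_rep_one' [Finite F] [FiniteDimensional F V] (h2 : (2 : F) ≠ 0)
    (Q : QuadraticForm F V) (hQ : (polarBilin Q).Nondegenerate)
    (hV : 2 ≤ Module.finrank F V) : ∃ x : V, Q x = 1 := by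
  have : Invertible (2 : F) := invertibleOfNonzero h2
  obtain ⟨b, hb⟩ := LinearMap.BilinForm.exists_orthogonal_basis (polarBilin_isSymm Q)
  have hne : ∀ i, Q (b i) ≠ 0 := by
    intro i h0
    have h1 := LinearMap.IsOrthoᵢ.not_isOrtho_basis_self_of_separatingLeft hb hQ.1 i
    apply h1
    show polar Q (b i) (b i) = 0
    rw [qf_polar_self, h0, mul_zero]
  rw [LinearMap.isOrthoᵢ_def] at hb
  let i₀ : Fin (Module.finrank F V) := ⟨0, by omega⟩
  let i₁ : Fin (Module.finrank F V) := ⟨1, by omega⟩
  have h01 : polar Q (b i₀) (b i₁) = 0 := hb i₀ i₁ (by simp [i₀, i₁, Fin.ext_iff])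
  obtain ⟨x, y, hxy⟩ := exists_sum_sq h2 (Q (b i₀)) (Q (b i₁)) (-1) (hne i₀) (hne i₁)
  refine ⟨x • b i₀ + y • b i₁, ?_⟩
  rw [qf_lin2, h01]
  linear_combination hxy

/-- diagonalisation `⟨1, …, 1, d⟩` of a non-degenerate quadratic form over a finite field of odd
order -/
theorem exists_diag_family [Finite F] (h2 : (2 : F) ≠ 0) :
    ∀ (n : ℕ) (V : Type v) [AddCommGroup V] [Module F V] [FiniteDimensional F V]
      (Q : QuadraticForm F V), (polarBilin Q).Nondegenerate → Module.finrank F V = n + 1 →
      ∃ (w : Fin (n + 1) → V) (d : F), d ≠ 0 ∧ (∀ i j, i ≠ j → polar Q (w i) (w j) = 0) ∧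
        ∀ i, Q (w i) = if (i : ℕ) = n then d else 1 := by
  intro n
  induction n with
  | zero =>
    intro V _ _ _ Q hQ hV
    obtain ⟨x, hx, -⟩ := exists_ne_zero_of_finrank_one Q hQ (by omega)
    refine ⟨fun _ => x, Q x, hx, ?_, ?_⟩
    · intro i j hij
      exact absurd (Fin.ext (by omega)) hij
    · intro i
      have : (i : ℕ) = 0 := by omega
      rw [if_pos this]
  | succ n ih =>
    intro V _ _ _ Q hQ hV
    obtain ⟨x, hx⟩ := exists_rep_one' h2 Q hQ (by omega)
    have hxx : (polarBilin Q x) x ≠ 0 := by
      show polar Q x x ≠ 0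
      rw [qf_polar_self, hx, mul_one]
      exact h2
    have hx0 : x ≠ 0 := by
      rintro rfl
      rw [QuadraticMap.map_zero] at hx
      exact zero_ne_one hx
    have hcompl := LinearMap.BilinForm.isCompl_span_singleton_orthogonal hxx
    have hfr := Submodule.finrank_add_eq_of_isCompl hcompl
    rw [finrank_span_singleton hx0, hV] at hfr
    have hndW := LinearMap.BilinForm.restrict_nondegenerate_orthogonal_spanSingleton
      (polarBilin Q) hQ (polarBilin_isSymm Q).isRefl hxx
    obtain ⟨W, hW⟩ : ∃ W : Submodule F V, W = LinearMap.BilinForm.orthogonal (polarBilin Q) (F ∙ x) :=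
      ⟨_, rfl⟩
    rw [← hW] at hfr hndW
    have hnd' : (polarBilin (Q.comp W.subtype)).Nondegenerate := by
      rw [(polarBilin_isSymm _).isRefl.nondegenerate_iff_separatingLeft]
      intro a ha
      apply hndW.1
      intro y
      exact ha y
    obtain ⟨w', d, hd, horth, hval⟩ := ih ↥W (Q.comp W.subtype) hnd' (by omega)
    have hxW : ∀ y ∈ W, polar Q x y = 0 := by
      intro y hy
      rw [hW] at hy
      exact (LinearMap.BilinForm.mem_orthogonal_iff.mp hy) x (Submodule.mem_span_singleton_self x)
    refine ⟨Fin.cons x (fun i => (w' i : V)), d, hd, ?_, ?_⟩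
    · intro i j
      refine Fin.cases ?_ (fun i' => ?_) i <;> refine Fin.cases ?_ (fun j' => ?_) j
      · intro h; exact absurd rfl h
      · intro _
        rw [Fin.cons_zero, Fin.cons_succ]
        exact hxW _ (w' j').2
      · intro _
        rw [Fin.cons_zero, Fin.cons_succ, polar_comm]
        exact hxW _ (w' i').2
      · intro hij
        rw [Fin.cons_succ, Fin.cons_succ]
        exact horth i' j' (fun h => hij (by rw [h]))
    · intro i
      refine Fin.cases ?_ (fun i' => ?_) i
      · rw [Fin.cons_zero, hx]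
        simp
      · rw [Fin.cons_succ]
        have := hval i'
        simp only [Fin.val_succ, add_left_inj]
        exact this

/-- a basis diagonalising a non-degenerate quadratic form as `⟨1, …, 1, t² d⟩`, for every `t ≠ 0` -/
theorem exists_diag_basis [Finite F] [FiniteDimensional F V] (h2 : (2 : F) ≠ 0) {n : ℕ}
    (Q : QuadraticForm F V) (hQ : (polarBilin Q).Nondegenerate)
    (hV : Module.finrank F V = n + 1) :
    ∃ d : F, d ≠ 0 ∧ ∀ t : F, t ≠ 0 → ∃ b : Module.Basis (Fin (n + 1)) F V,
      (∀ i j, i ≠ j → polar Q (b i) (b j) = 0) ∧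
      ∀ i, Q (b i) = if (i : ℕ) = n then t * t * d else 1 := by
  obtain ⟨w, d, hd, horth, hval⟩ := exists_diag_family h2 n V Q hQ hV
  refine ⟨d, hd, ?_⟩
  intro t ht
  let w' : Fin (n + 1) → V := fun i => if (i : ℕ) = n then t • w i else w i
  have horth' : ∀ i j, i ≠ j → polar Q (w' i) (w' j) = 0 := by
    intro i j hij
    simp only [w']
    split_ifs <;> simp [polar_smul_left, polar_smul_right, horth i j hij]
  have hval' : ∀ i, Q (w' i) = if (i : ℕ) = n then t * t * d else 1 := by
    intro i
    simp only [w']
    by_cases hi : (i : ℕ) = n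
    · rw [if_pos hi, if_pos hi, qf_smul, hval, if_pos hi]
    · rw [if_neg hi, if_neg hi, hval, if_neg hi]
  have hli : LinearIndependent F w' := by
    apply LinearMap.BilinForm.linearIndependent_of_iIsOrtho (B := polarBilin Q)
    · rw [LinearMap.BilinForm.iIsOrtho_def]
      exact horth'
    · intro i
      show polar Q (w' i) (w' i) ≠ 0
      rw [qf_polar_self, hval']
      split_ifs
      · exact mul_ne_zero h2 (mul_ne_zero (mul_ne_zero ht ht) hd)
      · rw [mul_one]; exact h2
  refine ⟨basisOfLinearIndependentOfCardEqFinrank hli (by rw [Fintype.card_fin, hV]), ?_⟩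
  rw [coe_basisOfLinearIndependentOfCardEqFinrank]
  exact ⟨horth', hval'⟩

end Diag

end Cfsg.Agent.Helper16
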