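import Mathlib
import Cfsg.Prelude.Def_Classical
import Cfsg.Agent.Helper16.QuadDiag

set_option autoImplicit false

namespace Cfsg.Agent.Helper16

open QuadraticMap

theorem qf_eq_zero_of_single {K : Type*} [Field K] {n : Type*} [Fintype n] [DecidableEq n]
    (Q : QuadraticForm K (n → K)) (h1 : ∀ i, Q (Pi.single i 1) = 0)
    (h2 : ∀ i j, i ≠ j → polar Q (Pi.single i (1 : K)) (Pi.single j (1 : K)) = 0) (w : n → K) :
    Q w = 0 := by
  conv_lhs => rw [pi_eq_sum_univ' w]
  rw [qf_sum_orth Q (fun i => Pi.single i (1 : K)) h2]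
  simp [h1]

theorem mem_isometryGroup_iff {ι : Type} [Fintype ι] [DecidableEq ι] {F : Type*} [Field F]
    (Q : (ι → F) → F) (g : Matrix.GeneralLinearGroup ι F) :
    g ∈ Cfsg.isometryGroup F Q ↔ ∀ u, Q ((g : Matrix ι ι F).mulVec u) = Q u :=
  ⟨fun h u => h u u, fun h u _ => h u⟩

/-- base change: a matrix over `F` preserving a quadratic function `QF` preserves, after applying
`ι : F →+* K`, any quadratic form `QK` over `K` extending `QF`. -/
theorem baseChange_preserves {F K : Type*} [Field F] [Field K] (ι : F →+* K) {n : Type}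
    [Fintype n] [DecidableEq n] (QF : (n → F) → F) (QK : QuadraticForm K (n → K))
    (h : ∀ u : n → F, QK (fun i => ι (u i)) = ι (QF u)) (g : Matrix n n F)
    (hg : ∀ u, QF (g.mulVec u) = QF u) (w : n → K) : QK ((g.map ι).mulVec w) = QK w := by
  let Q' : QuadraticForm K (n → K) := QK.comp (Matrix.toLin' (g.map ι)) - QK
  have hQ' : ∀ w, Q' w = QK ((g.map ι).mulVec w) - QK w := fun w => rfl
  have hpts : ∀ u : n → F, Q' (fun i => ι (u i)) = 0 := by
    intro u
    rw [hQ']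
    have h1 : (g.map ι).mulVec (fun i => ι (u i)) = fun i => ι ((g.mulVec u) i) := by
      funext i
      exact (RingHom.map_mulVec ι g u i).symm
    rw [h1, h, h, hg, sub_self]
  have hs : ∀ i, (Pi.single i 1 : n → K) = fun j => ι ((Pi.single i 1 : n → F) j) := by
    intro i
    funext j
    simp [Pi.single_apply, apply_ite]
  have key := qf_eq_zero_of_single Q' (by intro i; rw [hs]; exact hpts _) (by
    intro i j hij
    have hadd : (Pi.single i 1 + Pi.single j 1 : n → K) =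
        fun l => ι ((Pi.single i 1 + Pi.single j 1 : n → F) l) := by
      funext l
      simp only [Pi.add_apply, Pi.single_apply, map_add]
      split_ifs <;> simp
    show Q' (_ + _) - Q' _ - Q' _ = 0
    rw [hadd, hpts, hs i, hpts, hs j, hpts]
    simp) w
  rw [hQ'] at key
  exact sub_eq_zero.1 key

theorem exists_baseChange_hom {F K : Type*} [Field F] [Field K] (ι : F →+* K) {n : Type}
    [Fintype n] [DecidableEq n] (QF : (n → F) → F) (QK : QuadraticForm K (n → K))
    (h : ∀ u : n → F, QK (fun i => ι (u i)) = ι (QF u)) :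
    ∃ β : Cfsg.isometryGroup F QF →* Cfsg.isometryGroup K ⇑QK, Function.Injective β := by
  let β₀ : Cfsg.isometryGroup F QF →* Matrix.GeneralLinearGroup n K :=
    (Matrix.GeneralLinearGroup.map ι).comp (Cfsg.isometryGroup F QF).subtype
  have hβ₀ : ∀ g : Cfsg.isometryGroup F QF, ((β₀ g : Matrix.GeneralLinearGroup n K) : Matrix n n K) =
      ((g : Matrix.GeneralLinearGroup n F) : Matrix n n F).map ι := fun g => rfl
  have hmem : ∀ g, β₀ g ∈ Cfsg.isometryGroup K ⇑QK := by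
    intro g
    rw [mem_isometryGroup_iff]
    intro w
    rw [hβ₀]
    exact baseChange_preserves ι QF QK h _ ((mem_isometryGroup_iff QF g.1).1 g.2) w
  refine ⟨β₀.codRestrict _ hmem, ?_⟩
  intro g g' hgg
  have h1 : β₀ g = β₀ g' := congrArg Subtype.val hgg
  apply Subtype.ext
  apply Units.ext
  ext i j
  have h2 := congrArg (fun x : Matrix.GeneralLinearGroup n K => (x : Matrix n n K) i j) h1
  simp only [hβ₀, Matrix.map_apply] at h2
  exact ι.injective h2

theorem exists_conj_hom {K : Type*} [Field K] {ι₁ ι₂ : Type} [Fintype ι₁] [DecidableEq ι₁]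
    [Fintype ι₂] [DecidableEq ι₂] (Q₁ : (ι₁ → K) → K) (Q₂ : (ι₂ → K) → K)
    (T : (ι₂ → K) ≃ₗ[K] (ι₁ → K)) (hT : ∀ v, Q₁ (T v) = Q₂ v) :
    ∃ γ : Cfsg.isometryGroup K Q₁ →* Cfsg.isometryGroup K Q₂, Function.Injective γ := by
  let P : Matrix ι₁ ι₂ K := LinearMap.toMatrix' (T : (ι₂ → K) →ₗ[K] (ι₁ → K))
  let P' : Matrix ι₂ ι₁ K := LinearMap.toMatrix' (T.symm : (ι₁ → K) →ₗ[K] (ι₂ → K))
  have hPP' : P * P' = 1 := by
    rw [← LinearMap.toMatrix'_comp]
    simp
  have hP'P : P' * P = 1 := by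
    rw [← LinearMap.toMatrix'_comp]
    simp
  have hP : ∀ v, P.mulVec v = T v := fun v => LinearMap.toMatrix'_mulVec _ v
  have hP' : ∀ v, P'.mulVec v = T.symm v := fun v => LinearMap.toMatrix'_mulVec _ v
  let γ₀ : Matrix.GeneralLinearGroup ι₁ K →* Matrix.GeneralLinearGroup ι₂ K :=
    { toFun := fun g => ⟨P' * (g : Matrix ι₁ ι₁ K) * P,
        P' * ((g⁻¹ : Matrix.GeneralLinearGroup ι₁ K) : Matrix ι₁ ι₁ K) * P, by
          have e : P' * (g : Matrix ι₁ ι₁ K) * P *
              (P' * ((g⁻¹ : Matrix.GeneralLinearGroup ι₁ K) : Matrix ι₁ ι₁ K) * P) =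
              P' * ((g : Matrix ι₁ ι₁ K) * ((P * P') *
                (((g⁻¹ : Matrix.GeneralLinearGroup ι₁ K) : Matrix ι₁ ι₁ K) * P))) := by
            simp only [Matrix.mul_assoc]
          rw [e, hPP', Matrix.one_mul, ← Matrix.mul_assoc (g : Matrix ι₁ ι₁ K), Units.mul_inv,
            Matrix.one_mul, hP'P], by
          have e : P' * ((g⁻¹ : Matrix.GeneralLinearGroup ι₁ K) : Matrix ι₁ ι₁ K) * P *
              (P' * (g : Matrix ι₁ ι₁ K) * P) =
              P' * (((g⁻¹ : Matrix.GeneralLinearGroup ι₁ K) : Matrix ι₁ ι₁ K) * ((P * P') *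
                ((g : Matrix ι₁ ι₁ K) * P))) := by
            simp only [Matrix.mul_assoc]
          rw [e, hPP', Matrix.one_mul,
            ← Matrix.mul_assoc ((g⁻¹ : Matrix.GeneralLinearGroup ι₁ K) : Matrix ι₁ ι₁ K),
            Units.inv_mul, Matrix.one_mul, hP'P]⟩
      map_one' := by
        apply Units.ext
        show P' * ((1 : Matrix.GeneralLinearGroup ι₁ K) : Matrix ι₁ ι₁ K) * P = 1
        rw [Units.val_one, Matrix.mul_one, hP'P]
      map_mul' := by
        intro g h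
        apply Units.ext
        show P' * ((g * h : Matrix.GeneralLinearGroup ι₁ K) : Matrix ι₁ ι₁ K) * P =
          P' * (g : Matrix ι₁ ι₁ K) * P * (P' * (h : Matrix ι₁ ι₁ K) * P)
        have e : P' * (g : Matrix ι₁ ι₁ K) * P * (P' * (h : Matrix ι₁ ι₁ K) * P) =
            P' * ((g : Matrix ι₁ ι₁ K) * ((P * P') * ((h : Matrix ι₁ ι₁ K) * P))) := by
          simp only [Matrix.mul_assoc]
        rw [e, hPP', Matrix.one_mul, Units.val_mul]
        simp only [Matrix.mul_assoc] }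
  have hγ₀ : ∀ g : Matrix.GeneralLinearGroup ι₁ K,
      ((γ₀ g : Matrix.GeneralLinearGroup ι₂ K) : Matrix ι₂ ι₂ K) = P' * (g : Matrix ι₁ ι₁ K) * P :=
    fun g => rfl
  have hmem : ∀ g : Cfsg.isometryGroup K Q₁, γ₀ g ∈ Cfsg.isometryGroup K Q₂ := by
    intro g
    rw [mem_isometryGroup_iff]
    intro u
    rw [hγ₀, ← Matrix.mulVec_mulVec, ← Matrix.mulVec_mulVec, hP, hP', ← hT, LinearEquiv.apply_symm_apply,
      (mem_isometryGroup_iff Q₁ g.1).1 g.2, hT]
  refine ⟨(γ₀.comp (Cfsg.isometryGroup K Q₁).subtype).codRestrict _ hmem, ?_⟩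
  intro g g' hgg
  have h1 : γ₀ g = γ₀ g' := congrArg Subtype.val hgg
  have h2 : P' * ((g : Matrix.GeneralLinearGroup ι₁ K) : Matrix ι₁ ι₁ K) * P =
      P' * ((g' : Matrix.GeneralLinearGroup ι₁ K) : Matrix ι₁ ι₁ K) * P := by
    rw [← hγ₀, ← hγ₀, h1]
  apply Subtype.ext
  apply Units.ext
  have h3 : P * (P' * ((g : Matrix.GeneralLinearGroup ι₁ K) : Matrix ι₁ ι₁ K) * P) * P' =
      P * (P' * ((g' : Matrix.GeneralLinearGroup ι₁ K) : Matrix ι₁ ι₁ K) * P) * P' := by rw [h2]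
  have e : ∀ X : Matrix ι₁ ι₁ K, P * (P' * X * P) * P' = (P * P') * X * (P * P') := by
    intro X
    simp only [Matrix.mul_assoc]
  rw [e, e, hPP', Matrix.one_mul, Matrix.mul_one, Matrix.one_mul, Matrix.mul_one] at h3
  exact h3

/-- the hyperbolic form as a `QuadraticForm` -/
noncomputable def qfPlus (m : ℕ) (K : Type*) [Field K] : QuadraticForm K (Fin m ⊕ Fin m → K) :=
  ∑ i : Fin m, QuadraticMap.proj (Sum.inl i) (Sum.inr i)

theorem qfPlus_apply (m : ℕ) (K : Type*) [Field K] (v : Fin m ⊕ Fin m → K) :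
    qfPlus m K v = Cfsg.quadFormPlus m K v := by
  simp [qfPlus, Cfsg.quadFormPlus, sum_apply]

/-- the form `Σ x_i y_i + z₁² + a z₁z₂ + c z₂²` as a `QuadraticForm` -/
noncomputable def qfMinus (k : ℕ) (K : Type*) [Field K] (a c : K) :
    QuadraticForm K ((Fin k ⊕ Fin k) ⊕ Fin 2 → K) :=
  ∑ i : Fin k, QuadraticMap.proj (Sum.inl (Sum.inl i)) (Sum.inl (Sum.inr i)) +
    (QuadraticMap.proj (Sum.inr 0) (Sum.inr 0) + a • QuadraticMap.proj (Sum.inr 0) (Sum.inr 1) +
      c • QuadraticMap.proj (Sum.inr 1) (Sum.inr 1))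

theorem qfMinus_apply (k : ℕ) (K : Type*) [Field K] (a c : K)
    (v : (Fin k ⊕ Fin k) ⊕ Fin 2 → K) :
    qfMinus k K a c v = Cfsg.quadFormMinus k K a c v := by
  simp [qfMinus, Cfsg.quadFormMinus, sum_apply]
  ring

end Cfsg.Agent.Helper16
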