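import Mathlib
import Cfsg.Agent.Helper16.QuadDiag

set_option autoImplicit false

namespace Cfsg.Agent.Helper16

open QuadraticMap

section Refl

universe u v

variable {F : Type u} [Field F] {V : Type v} [AddCommGroup V] [Module F V]

/-- the reflection (orthogonal transvection) in `v`, as a linear map -/
noncomputable def qrefl (Q : QuadraticForm F V) (v : V) : V →ₗ[F] V :=
  LinearMap.id - (Q v)⁻¹ • (LinearMap.smulRight (polarBilin Q v) v)

theorem qrefl_apply (Q : QuadraticForm F V) (v x : V) :
    qrefl Q v x = x - ((Q v)⁻¹ * polar Q v x) • v := by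
  simp [qrefl, mul_smul]

theorem qrefl_isom (Q : QuadraticForm F V) (v : V) (hv : Q v ≠ 0) (x : V) :
    Q (qrefl Q v x) = Q x := by
  rw [qrefl_apply]
  have h := qf_lin2 Q 1 (-((Q v)⁻¹ * polar Q v x)) x v
  rw [one_smul, neg_smul, ← sub_eq_add_neg] at h
  rw [h, polar_comm Q x v]
  field_simp
  ring

theorem qrefl_self (Q : QuadraticForm F V) (v : V) (hv : Q v ≠ 0) : qrefl Q v v = -v := by
  rw [qrefl_apply, qf_polar_self]
  have : (Q v)⁻¹ * (2 * Q v) = 2 := by field_simp
  rw [this, two_smul]
  abel

theorem qrefl_of_orth (Q : QuadraticForm F V) (v x : V) (h : polar Q v x = 0) :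
    qrefl Q v x = x := by
  rw [qrefl_apply, h, mul_zero, zero_smul, sub_zero]

theorem polar_isom (Q : QuadraticForm F V) (g : V →ₗ[F] V) (hg : ∀ x, Q (g x) = Q x) (x y : V) :
    polar Q (g x) (g y) = polar Q x y := by
  unfold polar
  rw [← map_add, hg, hg, hg]

theorem qrefl_conj (Q : QuadraticForm F V) (g : V →ₗ[F] V) (hg : ∀ x, Q (g x) = Q x) (v x : V) :
    g (qrefl Q v x) = qrefl Q (g v) (g x) := by
  rw [qrefl_apply, qrefl_apply, map_sub, map_smul, hg, polar_isom Q g hg]

theorem qrefl_sq (Q : QuadraticForm F V) (v : V) (hv : Q v ≠ 0) (x : V) :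
    qrefl Q v (qrefl Q v x) = x := by
  rw [qrefl_apply Q v x, map_sub, map_smul, qrefl_self Q v hv, qrefl_apply]
  simp

theorem qrefl_mul_self (Q : QuadraticForm F V) (v : V) (hv : Q v ≠ 0) :
    qrefl Q v * qrefl Q v = 1 :=
  LinearMap.ext fun x => qrefl_sq Q v hv x

theorem qrefl_smul (Q : QuadraticForm F V) (v : V) (c : F) (hc : c ≠ 0) (hv : Q v ≠ 0) :
    qrefl Q (c • v) = qrefl Q v := by
  ext x
  rw [qrefl_apply, qrefl_apply, qf_smul, polar_smul_left, smul_eq_mul, smul_smul]
  congr 2
  field_simp

/-- `r_{w - v}` maps `w` to `v` when `Q w = Q v` -/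
theorem qrefl_sub (Q : QuadraticForm F V) (v w : V) (hvw : Q w = Q v) (hne : Q (w - v) ≠ 0) :
    qrefl Q (w - v) w = v := by
  rw [qrefl_apply]
  have h1 : Q (w - v) = 2 * Q v - polar Q w v := by
    have h := qf_lin2 Q 1 (-1) w v
    rw [one_smul, neg_smul, one_smul, ← sub_eq_add_neg] at h
    rw [h, hvw]
    ring
  have h2 : polar Q (w - v) w = 2 * Q v - polar Q w v := by
    rw [polar_sub_left, qf_polar_self, hvw, polar_comm Q v w]
  have h3 : (Q (w - v))⁻¹ * polar Q (w - v) w = 1 := by
    rw [h2, ← h1]
    exact inv_mul_cancel₀ hne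
  rw [h3, one_smul]
  abel

/-- `r_{w + v}` maps `w` to `-v` when `Q w = Q v` -/
theorem qrefl_add (Q : QuadraticForm F V) (v w : V) (hvw : Q w = Q v) (hne : Q (w + v) ≠ 0) :
    qrefl Q (w + v) w = -v := by
  rw [qrefl_apply]
  have h1 : Q (w + v) = 2 * Q v + polar Q w v := by
    rw [qf_add, hvw]
    ring
  have h2 : polar Q (w + v) w = 2 * Q v + polar Q w v := by
    rw [polar_add_left, qf_polar_self, hvw, polar_comm Q v w]
  have h3 : (Q (w + v))⁻¹ * polar Q (w + v) w = 1 := by
    rw [h2, ← h1]
    exact inv_mul_cancel₀ hne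
  rw [h3, one_smul]
  abel

theorem qf_sub_add (Q : QuadraticForm F V) (v w : V) (hvw : Q w = Q v) :
    Q (w - v) + Q (w + v) = 4 * Q v := by
  have h := qf_lin2 Q 1 (-1) w v
  rw [one_smul, neg_smul, one_smul, ← sub_eq_add_neg] at h
  rw [h, qf_add, hvw]
  ring

theorem exists_nonsingular [Nontrivial V] (Q : QuadraticForm F V)
    (hQ : (polarBilin Q).Nondegenerate) : ∃ v : V, Q v ≠ 0 := by
  by_contra hcon
  have h0 : ∀ v, Q v = 0 := by
    intro v
    by_contra h
    exact hcon ⟨v, h⟩
  obtain ⟨x, hx⟩ := exists_ne (0 : V)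
  apply hx
  apply hQ.1
  intro y
  show polar Q x y = 0
  unfold polar
  rw [h0, h0, h0]
  ring

theorem prod_qrefl_isom (Q : QuadraticForm F V) (vs : List V) (hvs : ∀ v ∈ vs, Q v ≠ 0) (x : V) :
    Q ((vs.map (qrefl Q)).prod x) = Q x := by
  induction vs with
  | nil => simp
  | cons a l ih =>
    rw [List.map_cons, List.prod_cons, Module.End.mul_apply,
      qrefl_isom Q a (hvs a List.mem_cons_self)]
    exact ih (fun v hv => hvs v (List.mem_cons_of_mem a hv))

/-- the product of the reflections of a subspace `W`, on `V` -/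
theorem prod_qrefl_subtype (Q : QuadraticForm F V) (W : Submodule F V) (ws : List W) (y : W) :
    ((ws.map (fun w : W => qrefl Q (w : V))).prod (y : V)) =
      (((ws.map (qrefl (Q.comp W.subtype))).prod y : W) : V) := by
  induction ws with
  | nil => simp
  | cons a l ih =>
    rw [List.map_cons, List.prod_cons, Module.End.mul_apply, ih, List.map_cons, List.prod_cons,
      Module.End.mul_apply, qrefl_apply, qrefl_apply]
    rfl

theorem prod_qrefl_fix (Q : QuadraticForm F V) (vs : List V) (x : V)
    (hx : ∀ v ∈ vs, polar Q v x = 0) : (vs.map (qrefl Q)).prod x = x := by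
  induction vs with
  | nil => simp
  | cons a l ih =>
    rw [List.map_cons, List.prod_cons, Module.End.mul_apply,
      ih (fun v hv => hx v (List.mem_cons_of_mem a hv)),
      qrefl_of_orth Q a x (hx a List.mem_cons_self)]

/-- every isometry of a non-degenerate quadratic form in characteristic not two is a product of
reflections -/
theorem exists_refl_factorization (h2 : (2 : F) ≠ 0) :
    ∀ (n : ℕ) (V : Type v) [AddCommGroup V] [Module F V] [FiniteDimensional F V]
      (Q : QuadraticForm F V), (polarBilin Q).Nondegenerate → Module.finrank F V = n →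
      ∀ g : V →ₗ[F] V, (∀ x, Q (g x) = Q x) →
      ∃ vs : List V, (∀ v ∈ vs, Q v ≠ 0) ∧ g = (vs.map (qrefl Q)).prod := by
  intro n
  induction n with
  | zero =>
    intro V _ _ _ Q hQ hV g hg
    refine ⟨[], by simp, ?_⟩
    have : Subsingleton V := Module.finrank_zero_iff.1 hV
    ext x
    exact Subsingleton.elim _ _
  | succ n ih =>
    intro V _ _ _ Q hQ hV g hg
    have hnt : Nontrivial V := Module.nontrivial_of_finrank_pos (R := F) (by omega)
    obtain ⟨v, hv⟩ := exists_nonsingular Q hQ
    have hgv : Q (g v) = Q v := hg v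
    -- reduce to an isometry fixing `v`
    obtain ⟨l₀, hl₀, g', hg', hg'v, hgl⟩ : ∃ (l₀ : List V) (_ : ∀ u ∈ l₀, Q u ≠ 0)
        (g' : V →ₗ[F] V), (∀ x, Q (g' x) = Q x) ∧ g' v = v ∧ g = (l₀.map (qrefl Q)).prod * g' := by
      by_cases hne : Q (g v - v) ≠ 0
      · refine ⟨[g v - v], ?_, qrefl Q (g v - v) * g, ?_, ?_, ?_⟩
        · intro u hu
          rw [List.mem_singleton.1 hu]
          exact hne
        · intro x
          rw [Module.End.mul_apply, qrefl_isom Q _ hne, hg]
        · rw [Module.End.mul_apply, qrefl_sub Q v (g v) hgv hne]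
        · rw [List.map_singleton, List.prod_singleton, ← mul_assoc, qrefl_mul_self Q _ hne, one_mul]
      · have h0 : Q (g v - v) = 0 := by
          by_contra h
          exact hne h
        have hne' : Q (g v + v) ≠ 0 := by
          have h := qf_sub_add Q v (g v) hgv
          rw [h0, zero_add] at h
          rw [h]
          have h4 : (4 : F) = 2 * 2 := by norm_num
          rw [h4]
          exact mul_ne_zero (mul_ne_zero h2 h2) hv
        refine ⟨[g v + v, v], ?_, qrefl Q v * (qrefl Q (g v + v) * g), ?_, ?_, ?_⟩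
        · intro u hu
          rcases List.mem_cons.1 hu with h | h
          · rw [h]
            exact hne'
          · rw [List.mem_singleton.1 h]
            exact hv
        · intro x
          rw [Module.End.mul_apply, Module.End.mul_apply, qrefl_isom Q _ hv, qrefl_isom Q _ hne', hg]
        · rw [Module.End.mul_apply, Module.End.mul_apply, qrefl_add Q v (g v) hgv hne', map_neg,
            qrefl_self Q v hv, neg_neg]
        · rw [List.map_cons, List.map_singleton, List.prod_cons, List.prod_singleton]
          have h5 : qrefl Q (g v + v) * qrefl Q v * (qrefl Q v * (qrefl Q (g v + v) * g)) =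
              qrefl Q (g v + v) * (qrefl Q v * qrefl Q v) * (qrefl Q (g v + v) * g) := by
            simp only [mul_assoc]
          rw [h5, qrefl_mul_self Q v hv, mul_one, ← mul_assoc, qrefl_mul_self Q _ hne', one_mul]
    -- the orthogonal complement of `v`
    have hxx : (polarBilin Q v) v ≠ 0 := by
      show polar Q v v ≠ 0
      rw [qf_polar_self]
      exact mul_ne_zero h2 hv
    have hv0 : v ≠ 0 := by
      rintro rfl
      rw [QuadraticMap.map_zero] at hv
      exact hv rfl
    have hcompl := LinearMap.BilinForm.isCompl_span_singleton_orthogonal hxx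
    have hfr := Submodule.finrank_add_eq_of_isCompl hcompl
    rw [finrank_span_singleton hv0, hV] at hfr
    have hndW := LinearMap.BilinForm.restrict_nondegenerate_orthogonal_spanSingleton
      (polarBilin Q) hQ (polarBilin_isSymm Q).isRefl hxx
    obtain ⟨W, hW⟩ : ∃ W : Submodule F V, W = LinearMap.BilinForm.orthogonal (polarBilin Q) (F ∙ v) :=
      ⟨_, rfl⟩
    rw [← hW] at hfr hndW
    have hnd' : (polarBilin (Q.comp W.subtype)).Nondegenerate := by
      rw [(polarBilin_isSymm _).isRefl.nondegenerate_iff_separatingLeft]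
      intro a ha
      apply hndW.1
      intro y
      exact ha y
    have hmemW : ∀ y, y ∈ W ↔ polar Q v y = 0 := by
      intro y
      rw [hW, LinearMap.BilinForm.mem_orthogonal_iff]
      constructor
      · intro h
        exact h v (Submodule.mem_span_singleton_self v)
      · intro h z hz
        obtain ⟨c, rfl⟩ := Submodule.mem_span_singleton.1 hz
        show polar Q (c • v) y = 0
        rw [polar_smul_left, h, smul_zero]
    have hmaps : ∀ y ∈ W, g' y ∈ W := by
      intro y hy
      rw [hmemW] at hy ⊢
      rw [← hg'v, polar_isom Q g' hg', hy]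
    obtain ⟨ws, hws, hgW⟩ := ih ↥W (Q.comp W.subtype) hnd' (by omega) (g'.restrict hmaps)
      (fun x => hg' x)
    refine ⟨l₀ ++ ws.map (fun w : W => (w : V)), ?_, ?_⟩
    · intro u hu
      rcases List.mem_append.1 hu with h | h
      · exact hl₀ u h
      · obtain ⟨w, hw, rfl⟩ := List.mem_map.1 h
        exact hws w hw
    · rw [List.map_append, List.prod_append, hgl]
      congr 1
      ext x
      -- decompose `x = c • v + y` with `y ∈ W`
      obtain ⟨c, y, hy, rfl⟩ : ∃ (c : F) (y : V), y ∈ W ∧ x = c • v + y := by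
        refine ⟨(polar Q v v)⁻¹ * polar Q v x, x - ((polar Q v v)⁻¹ * polar Q v x) • v, ?_, by abel⟩
        rw [hmemW, polar_sub_right, polar_smul_right, smul_eq_mul]
        have : polar Q v v ≠ 0 := hxx
        field_simp
        ring
      rw [map_add, map_add, map_smul, map_smul, hg'v, List.map_map]
      have hfixv : ((ws.map ((qrefl Q) ∘ fun w : W => (w : V))).prod) v = v := by
        have := prod_qrefl_fix Q (ws.map (fun w : W => (w : V))) v (by
          intro u hu
          obtain ⟨w, hw, rfl⟩ := List.mem_map.1 hu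
          rw [polar_comm]
          exact (hmemW _).1 w.2)
        rw [List.map_map] at this
        exact this
      rw [hfixv]
      congr 1
      have h1 := prod_qrefl_subtype Q W ws ⟨y, hy⟩
      rw [← hgW] at h1
      exact h1.symm

end Refl

end Cfsg.Agent.Helper16
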