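import Mathlib
import Cfsg.Prelude.Def_Classical
import Cfsg.Agent.Helper16.IsomEmbed

set_option autoImplicit false

namespace Cfsg.Agent.Helper16

open QuadraticMap

section StdForms

variable (m : ℕ) (F : Type*) [Field F]

/-- the form `x₀² + Σ x_i y_i` as a `QuadraticForm` -/
noncomputable def qfOdd : QuadraticForm F (Unit ⊕ (Fin m ⊕ Fin m) → F) :=
  QuadraticMap.proj (Sum.inl ()) (Sum.inl ()) +
    ∑ i : Fin m, QuadraticMap.proj (Sum.inr (Sum.inl i)) (Sum.inr (Sum.inr i))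

theorem qfOdd_apply (v : Unit ⊕ (Fin m ⊕ Fin m) → F) :
    qfOdd m F v = Cfsg.quadFormOdd m F v := by
  simp [qfOdd, Cfsg.quadFormOdd, sum_apply]
  ring

theorem coe_qfPlus : ⇑(qfPlus m F) = Cfsg.quadFormPlus m F := funext (qfPlus_apply m F)

theorem coe_qfOdd : ⇑(qfOdd m F) = Cfsg.quadFormOdd m F := funext (qfOdd_apply m F)

theorem coe_qfMinus (a c : F) : ⇑(qfMinus m F a c) = Cfsg.quadFormMinus m F a c :=
  funext (qfMinus_apply m F a c)

variable {m F}

theorem polar_qfPlus (u x : Fin m ⊕ Fin m → F) :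
    polar ⇑(qfPlus m F) u x =
      ∑ i : Fin m, (u (Sum.inl i) * x (Sum.inr i) + x (Sum.inl i) * u (Sum.inr i)) := by
  rw [coe_qfPlus]
  unfold polar Cfsg.quadFormPlus
  rw [← Finset.sum_sub_distrib, ← Finset.sum_sub_distrib]
  refine Finset.sum_congr rfl fun i _ => ?_
  simp only [Pi.add_apply]
  ring

theorem polar_qfOdd (u x : Unit ⊕ (Fin m ⊕ Fin m) → F) :
    polar ⇑(qfOdd m F) u x = 2 * u (Sum.inl ()) * x (Sum.inl ()) +
      ∑ i : Fin m, (u (Sum.inr (Sum.inl i)) * x (Sum.inr (Sum.inr i)) +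
        x (Sum.inr (Sum.inl i)) * u (Sum.inr (Sum.inr i))) := by
  rw [coe_qfOdd]
  unfold polar Cfsg.quadFormOdd
  have h : ∀ A B C a b c : F, (A + a) - (B + b) - (C + c) = (A - B - C) + (a - b - c) := by
    intro A B C a b c
    ring
  rw [h, ← Finset.sum_sub_distrib, ← Finset.sum_sub_distrib]
  congr 1
  · simp only [Pi.add_apply]
    ring
  · refine Finset.sum_congr rfl fun i _ => ?_
    simp only [Pi.add_apply]
    ring

theorem polar_qfMinus (a c : F) (u x : (Fin m ⊕ Fin m) ⊕ Fin 2 → F) :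
    polar ⇑(qfMinus m F a c) u x =
      ∑ i : Fin m, (u (Sum.inl (Sum.inl i)) * x (Sum.inl (Sum.inr i)) +
        x (Sum.inl (Sum.inl i)) * u (Sum.inl (Sum.inr i))) +
      (2 * u (Sum.inr 0) * x (Sum.inr 0) + a * (u (Sum.inr 0) * x (Sum.inr 1) +
        u (Sum.inr 1) * x (Sum.inr 0)) + 2 * c * u (Sum.inr 1) * x (Sum.inr 1)) := by
  rw [coe_qfMinus]
  unfold polar Cfsg.quadFormMinus
  have h : ∀ A B C a b c : F, (A + a) - (B + b) - (C + c) = (A - B - C) + (a - b - c) := by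
    intro A B C a b c
    ring
  rw [h, ← Finset.sum_sub_distrib, ← Finset.sum_sub_distrib]
  congr 1
  · refine Finset.sum_congr rfl fun i _ => ?_
    simp only [Pi.add_apply]
    ring
  · simp only [Pi.add_apply]
    ring

theorem polar_qfPlus_inl (i : Fin m) (x : Fin m ⊕ Fin m → F) :
    polar ⇑(qfPlus m F) (Pi.single (Sum.inl i) 1) x = x (Sum.inr i) := by
  rw [polar_qfPlus]
  simp [Pi.single_apply]

theorem polar_qfPlus_inr (i : Fin m) (x : Fin m ⊕ Fin m → F) :
    polar ⇑(qfPlus m F) (Pi.single (Sum.inr i) 1) x = x (Sum.inl i) := by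
  rw [polar_qfPlus]
  simp [Pi.single_apply]

theorem polar_qfOdd_inl (i : Fin m) (x : Unit ⊕ (Fin m ⊕ Fin m) → F) :
    polar ⇑(qfOdd m F) (Pi.single (Sum.inr (Sum.inl i)) 1) x = x (Sum.inr (Sum.inr i)) := by
  rw [polar_qfOdd]
  simp [Pi.single_apply]

theorem polar_qfOdd_inr (i : Fin m) (x : Unit ⊕ (Fin m ⊕ Fin m) → F) :
    polar ⇑(qfOdd m F) (Pi.single (Sum.inr (Sum.inr i)) 1) x = x (Sum.inr (Sum.inl i)) := by
  rw [polar_qfOdd]
  simp [Pi.single_apply]

theorem polar_qfOdd_unit (x : Unit ⊕ (Fin m ⊕ Fin m) → F) :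
    polar ⇑(qfOdd m F) (Pi.single (Sum.inl ()) 1) x = 2 * x (Sum.inl ()) := by
  rw [polar_qfOdd]
  simp [Pi.single_apply]

theorem polar_qfMinus_inl (a c : F) (i : Fin m) (x : (Fin m ⊕ Fin m) ⊕ Fin 2 → F) :
    polar ⇑(qfMinus m F a c) (Pi.single (Sum.inl (Sum.inl i)) 1) x = x (Sum.inl (Sum.inr i)) := by
  rw [polar_qfMinus]
  simp [Pi.single_apply]

theorem polar_qfMinus_inr (a c : F) (i : Fin m) (x : (Fin m ⊕ Fin m) ⊕ Fin 2 → F) :
    polar ⇑(qfMinus m F a c) (Pi.single (Sum.inl (Sum.inr i)) 1) x = x (Sum.inl (Sum.inl i)) := by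
  rw [polar_qfMinus]
  simp [Pi.single_apply]

theorem polar_qfMinus_zero (a c : F) (x : (Fin m ⊕ Fin m) ⊕ Fin 2 → F) :
    polar ⇑(qfMinus m F a c) (Pi.single (Sum.inr 0) 1) x =
      2 * x (Sum.inr 0) + a * x (Sum.inr 1) := by
  rw [polar_qfMinus]
  simp [Pi.single_apply]

theorem polar_qfMinus_one (a c : F) (x : (Fin m ⊕ Fin m) ⊕ Fin 2 → F) :
    polar ⇑(qfMinus m F a c) (Pi.single (Sum.inr 1) 1) x =
      a * x (Sum.inr 0) + 2 * c * x (Sum.inr 1) := by
  rw [polar_qfMinus]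
  simp [Pi.single_apply]

theorem qfPlus_nondegenerate : (polarBilin (qfPlus m F)).Nondegenerate := by
  apply ((polarBilin_isSymm _).isRefl.nondegenerate_iff_separatingLeft).2
  intro x hx
  have hx' : ∀ y, polar ⇑(qfPlus m F) y x = 0 := fun y => by
    rw [polar_comm]
    exact hx y
  funext k
  rcases k with i | i
  · have := hx' (Pi.single (Sum.inr i) 1)
    rw [polar_qfPlus_inr] at this
    exact this
  · have := hx' (Pi.single (Sum.inl i) 1)
    rw [polar_qfPlus_inl] at this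
    exact this

theorem qfOdd_nondegenerate (h2 : (2 : F) ≠ 0) : (polarBilin (qfOdd m F)).Nondegenerate := by
  apply ((polarBilin_isSymm _).isRefl.nondegenerate_iff_separatingLeft).2
  intro x hx
  have hx' : ∀ y, polar ⇑(qfOdd m F) y x = 0 := fun y => by
    rw [polar_comm]
    exact hx y
  funext k
  rcases k with u | i | i
  · have := hx' (Pi.single (Sum.inl ()) 1)
    rw [polar_qfOdd_unit] at this
    exact (mul_eq_zero.1 this).resolve_left h2
  · have := hx' (Pi.single (Sum.inr (Sum.inr i)) 1)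
    rw [polar_qfOdd_inr] at this
    exact this
  · have := hx' (Pi.single (Sum.inr (Sum.inl i)) 1)
    rw [polar_qfOdd_inl] at this
    exact this

theorem qfMinus_nondegenerate (a c : F) (hd : 4 * c - a ^ 2 ≠ 0) :
    (polarBilin (qfMinus m F a c)).Nondegenerate := by
  apply ((polarBilin_isSymm _).isRefl.nondegenerate_iff_separatingLeft).2
  intro x hx
  have hx' : ∀ y, polar ⇑(qfMinus m F a c) y x = 0 := fun y => by
    rw [polar_comm]
    exact hx y
  have h0 := hx' (Pi.single (Sum.inr 0) 1)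
  have h1 := hx' (Pi.single (Sum.inr 1) 1)
  rw [polar_qfMinus_zero] at h0
  rw [polar_qfMinus_one] at h1
  have hx0 : x (Sum.inr 0) = 0 := by
    have : (4 * c - a ^ 2) * x (Sum.inr 0) = 0 := by linear_combination (2 * c) * h0 - a * h1
    exact (mul_eq_zero.1 this).resolve_left hd
  have hx1 : x (Sum.inr 1) = 0 := by
    have : (4 * c - a ^ 2) * x (Sum.inr 1) = 0 := by linear_combination 2 * h1 - a * h0
    exact (mul_eq_zero.1 this).resolve_left hd
  funext k
  rcases k with (i | i) | j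
  · have := hx' (Pi.single (Sum.inl (Sum.inr i)) 1)
    rw [polar_qfMinus_inr] at this
    exact this
  · have := hx' (Pi.single (Sum.inl (Sum.inl i)) 1)
    rw [polar_qfMinus_inl] at this
    exact this
  · fin_cases j
    · exact hx0
    · exact hx1

theorem qfPlus_single_inl (i : Fin m) : qfPlus m F (Pi.single (Sum.inl i) 1) = 0 := by
  rw [qfPlus_apply]
  simp [Cfsg.quadFormPlus]

theorem qfPlus_single_inr (i : Fin m) : qfPlus m F (Pi.single (Sum.inr i) 1) = 0 := by
  rw [qfPlus_apply]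
  simp [Cfsg.quadFormPlus]

theorem qfOdd_single_inl (i : Fin m) : qfOdd m F (Pi.single (Sum.inr (Sum.inl i)) 1) = 0 := by
  rw [qfOdd_apply]
  simp [Cfsg.quadFormOdd]

theorem qfOdd_single_inr (i : Fin m) : qfOdd m F (Pi.single (Sum.inr (Sum.inr i)) 1) = 0 := by
  rw [qfOdd_apply]
  simp [Cfsg.quadFormOdd]

theorem qfMinus_single_inl (a c : F) (i : Fin m) :
    qfMinus m F a c (Pi.single (Sum.inl (Sum.inl i)) 1) = 0 := by
  rw [qfMinus_apply]
  simp [Cfsg.quadFormMinus]

theorem qfMinus_single_inr (a c : F) (i : Fin m) :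
    qfMinus m F a c (Pi.single (Sum.inl (Sum.inr i)) 1) = 0 := by
  rw [qfMinus_apply]
  simp [Cfsg.quadFormMinus]

end StdForms

end Cfsg.Agent.Helper16
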