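import Cfsg.Agent.Helper16.AutPO
import Cfsg.Agent.Helper16.StdForms

set_option autoImplicit false
open Cfsg

namespace Cfsg.Agent.Helper16

open QuadraticMap

section Schur
variable {F : Type*} [Field F] {ι : Type} [Fintype ι] [DecidableEq ι]

theorem comm_siegel_apply (Q : QuadraticForm F (ι → F)) (g : Matrix ι ι F) (u v x : ι → F)
    (hcomm : g * siegelMatrix ⇑Q u v 1 = siegelMatrix ⇑Q u v 1 * g)
    (hvx : polar ⇑Q v x = 1) (hux : polar ⇑Q u x = 0) :
    g.mulVec u = polar ⇑Q v (g.mulVec x) • u - polar ⇑Q u (g.mulVec x) • v := by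
  have h := congrArg (fun M : Matrix ι ι F => M.mulVec x) hcomm
  simp only [← Matrix.mulVec_mulVec] at h
  rw [siegel_mulVec, siegel_mulVec, hvx, hux] at h
  simp only [one_smul, zero_smul, zero_sub, Matrix.mulVec_add, Matrix.mulVec_neg] at h
  have h' : -(g.mulVec u) = polar ⇑Q u (g.mulVec x) • v - polar ⇑Q v (g.mulVec x) • u :=
    add_left_cancel h
  calc g.mulVec u = -(-(g.mulVec u)) := (neg_neg _).symm
    _ = _ := by rw [h']; abel

/-- the property: a matrix commuting with all Siegel transformations is scalar -/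
def SiegelScalar (Q : QuadraticForm F (ι → F)) : Prop :=
  ∀ g : Matrix ι ι F, (∀ u v, Q u = 0 → Q v = 0 → polar ⇑Q u v = 0 →
    g * siegelMatrix ⇑Q u v 1 = siegelMatrix ⇑Q u v 1 * g) → ∃ c : F, g = c • (1 : Matrix ι ι F)

theorem scalar_of_comm_siegel (Q : QuadraticForm F (ι → F)) {m : ℕ} (hm : 3 ≤ m)
    (e f : Fin m → ι → F)
    (hQe : ∀ i, Q (e i) = 0) (hQf : ∀ i, Q (f i) = 0)
    (hee : ∀ i j, polar ⇑Q (e i) (e j) = 0) (hff : ∀ i j, polar ⇑Q (f i) (f j) = 0)
    (hef : ∀ i j, polar ⇑Q (e i) (f j) = if i = j then 1 else 0)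
    (g : Matrix ι ι F)
    (hcomm : ∀ u v, Q u = 0 → Q v = 0 → polar ⇑Q u v = 0 →
      g * siegelMatrix ⇑Q u v 1 = siegelMatrix ⇑Q u v 1 * g) :
    ∃ c : F, (∀ i, g.mulVec (e i) = c • e i) ∧ (∀ i, g.mulVec (f i) = c • f i) ∧
      ∀ w, (∀ i, polar ⇑Q (e i) w = 0) → (∀ i, polar ⇑Q (f i) w = 0) → g.mulVec w = c • w := by
  classical
  have hfe : ∀ i j, polar ⇑Q (f i) (e j) = if i = j then 1 else 0 := by
    intro i j
    rw [polar_comm, hef]
    by_cases h : i = j
    · simp [h]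
    · simp [h, Ne.symm h]
  have hthird : ∀ i j : Fin m, ∃ k, k ≠ i ∧ k ≠ j := by
    intro i j
    by_contra hcon
    push_neg at hcon
    have hsub : (Finset.univ : Finset (Fin m)) ⊆ {i, j} := by
      intro k _
      by_cases hk : k = i
      · simp [hk]
      · simp [hcon k hk]
    have h1 : Fintype.card (Fin m) ≤ 2 :=
      calc Fintype.card (Fin m) = (Finset.univ : Finset (Fin m)).card := Finset.card_univ.symm
        _ ≤ ({i, j} : Finset (Fin m)).card := Finset.card_le_card hsub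
        _ ≤ 2 := Finset.card_le_two
    rw [Fintype.card_fin] at h1
    omega
  obtain ⟨cj, hcjdef⟩ : ∃ cj : Fin m → F, ∀ j, cj j = polar ⇑Q (e j) (g.mulVec (f j)) :=
    ⟨fun j => polar ⇑Q (e j) (g.mulVec (f j)), fun _ => rfl⟩
  have step1e : ∀ i j, i ≠ j → g.mulVec (e i) = cj j • e i := by
    intro i j hij
    obtain ⟨k, hki, hkj⟩ := hthird i j
    have h1 := comm_siegel_apply Q g (e i) (e j) (f j) (hcomm _ _ (hQe i) (hQe j) (hee i j))
      (by rw [hef]; simp) (by rw [hef]; simp [hij])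
    have h2 := comm_siegel_apply Q g (e i) (e k) (f k) (hcomm _ _ (hQe i) (hQe k) (hee i k))
      (by rw [hef]; simp) (by rw [hef]; simp [hki.symm])
    have hβ : polar ⇑Q (e i) (g.mulVec (f j)) = 0 := by
      have h3 : polar ⇑Q (f j) (g.mulVec (e i)) = - polar ⇑Q (e i) (g.mulVec (f j)) := by
        rw [h1, polar_sub_right, polar_smul_right, polar_smul_right, hfe j i, hfe j j]
        simp [hij.symm]
      have h4 : polar ⇑Q (f j) (g.mulVec (e i)) = 0 := by
        rw [h2, polar_sub_right, polar_smul_right, polar_smul_right, hfe j i, hfe j k]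
        simp [hij.symm, hkj.symm]
      rw [h4] at h3
      exact neg_eq_zero.1 h3.symm
    rw [h1, hβ, zero_smul, sub_zero, hcjdef]
  have step1f : ∀ i j, i ≠ j → g.mulVec (f i) = cj j • f i := by
    intro i j hij
    obtain ⟨k, hki, hkj⟩ := hthird i j
    have h1 := comm_siegel_apply Q g (f i) (e j) (f j)
      (hcomm _ _ (hQf i) (hQe j) (by rw [hfe]; simp [hij])) (by rw [hef]; simp) (by rw [hff])
    have h2 := comm_siegel_apply Q g (f i) (e k) (f k)
      (hcomm _ _ (hQf i) (hQe k) (by rw [hfe]; simp [hki.symm])) (by rw [hef]; simp) (by rw [hff])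
    have hβ : polar ⇑Q (f i) (g.mulVec (f j)) = 0 := by
      have h3 : polar ⇑Q (f j) (g.mulVec (f i)) = - polar ⇑Q (f i) (g.mulVec (f j)) := by
        rw [h1, polar_sub_right, polar_smul_right, polar_smul_right, hff j i, hfe j j]
        simp
      have h4 : polar ⇑Q (f j) (g.mulVec (f i)) = 0 := by
        rw [h2, polar_sub_right, polar_smul_right, polar_smul_right, hff j i, hfe j k]
        simp [hkj.symm]
      rw [h4] at h3
      exact neg_eq_zero.1 h3.symm
    rw [h1, hβ, zero_smul, sub_zero, hcjdef]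
  have hcj : ∀ i j, i ≠ j → cj j = cj i := by
    intro i j hij
    rw [hcjdef j, step1f j i hij.symm, polar_smul_right, hef]
    simp
  have h0 : 0 < m := by omega
  have hc : ∀ j, cj j = cj ⟨0, h0⟩ := by
    intro j
    by_cases hj : j = ⟨0, h0⟩
    · rw [hj]
    · exact hcj ⟨0, h0⟩ j (Ne.symm hj)
  have he_all : ∀ i, g.mulVec (e i) = cj ⟨0, h0⟩ • e i := by
    intro i
    obtain ⟨k, hki, _⟩ := hthird i i
    rw [step1e i k hki.symm, hc]
  have hf_all : ∀ i, g.mulVec (f i) = cj ⟨0, h0⟩ • f i := by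
    intro i
    obtain ⟨k, hki, _⟩ := hthird i i
    rw [step1f i k hki.symm, hc]
  refine ⟨cj ⟨0, h0⟩, he_all, hf_all, ?_⟩
  intro w hwe hwf
  obtain ⟨i0, i1, h01⟩ : ∃ i0 i1 : Fin m, i0 ≠ i1 :=
    ⟨⟨0, h0⟩, ⟨1, by omega⟩, by simp [Fin.ext_iff]⟩
  have hwe' : ∀ i, polar ⇑Q w (e i) = 0 := fun i => by rw [polar_comm]; exact hwe i
  have hwf' : ∀ i, polar ⇑Q w (f i) = 0 := fun i => by rw [polar_comm]; exact hwf i
  obtain ⟨u, hu⟩ : ∃ u, u = w + (e i0 + (-(Q w)) • f i0) := ⟨_, rfl⟩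
  have hQu : Q u = 0 := by
    have h1 := qf_lin2 Q 1 (-(Q w)) (e i0) (f i0)
    rw [one_smul] at h1
    rw [hu, qf_add, h1, hQe, hQf, hef, polar_add_right, polar_smul_right, hwe', hwf']
    simp
  have hue1 : polar ⇑Q u (e i1) = 0 := by
    rw [hu, polar_add_left, polar_add_left, polar_smul_left, hwe', hee, hfe]
    simp [h01]
  have huf1 : polar ⇑Q u (f i1) = 0 := by
    rw [hu, polar_add_left, polar_add_left, polar_smul_left, hwf', hef, hff]
    simp [h01]
  have h1 := comm_siegel_apply Q g u (e i1) (f i1) (hcomm _ _ hQu (hQe i1) hue1)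
    (by rw [hef]; simp) huf1
  rw [hf_all i1, polar_smul_right, polar_smul_right, hef, huf1] at h1
  simp only [if_true, smul_eq_mul, mul_one, mul_zero, zero_smul, sub_zero] at h1
  have h3 : g.mulVec u = g.mulVec w + (cj ⟨0, h0⟩ • e i0 + (-(Q w)) • cj ⟨0, h0⟩ • f i0) := by
    rw [hu, Matrix.mulVec_add, Matrix.mulVec_add, Matrix.mulVec_smul, he_all, hf_all]
  rw [h3, hu, smul_add, smul_add, smul_comm (cj ⟨0, h0⟩) (-(Q w)) (f i0)] at h1
  exact add_right_cancel h1

theorem mulVec_single_eq (g : Matrix ι ι F) (c : F)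
    (h : ∀ k, g.mulVec (Pi.single k 1) = c • Pi.single k 1) : g = c • (1 : Matrix ι ι F) := by
  apply Matrix.toLin'.injective
  apply (Pi.basisFun F ι).ext
  intro k
  rw [Matrix.toLin'_apply, Pi.basisFun_apply, h k, Matrix.toLin'_apply, Matrix.smul_mulVec,
    Matrix.one_mulVec]

theorem siegelScalar_plus {m : ℕ} (hm : 3 ≤ m) : SiegelScalar (qfPlus m F) := by
  intro g hcomm
  obtain ⟨c, he, hf, _⟩ := scalar_of_comm_siegel (qfPlus m F) hm
    (fun i => Pi.single (Sum.inl i) 1) (fun i => Pi.single (Sum.inr i) 1)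
    (fun i => qfPlus_single_inl i) (fun i => qfPlus_single_inr i)
    (fun i j => by rw [polar_qfPlus_inl]; simp)
    (fun i j => by rw [polar_qfPlus_inr]; simp)
    (fun i j => by rw [polar_qfPlus_inl]; simp [Pi.single_apply, eq_comm])
    g hcomm
  refine ⟨c, mulVec_single_eq g c ?_⟩
  rintro (k | k)
  · exact he k
  · exact hf k

theorem siegelScalar_minus {m : ℕ} (hm : 3 ≤ m) (a c : F) : SiegelScalar (qfMinus m F a c) := by
  intro g hcomm
  obtain ⟨d, he, hf, hw⟩ := scalar_of_comm_siegel (qfMinus m F a c) hm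
    (fun i => Pi.single (Sum.inl (Sum.inl i)) 1) (fun i => Pi.single (Sum.inl (Sum.inr i)) 1)
    (fun i => qfMinus_single_inl a c i) (fun i => qfMinus_single_inr a c i)
    (fun i j => by rw [polar_qfMinus_inl]; simp)
    (fun i j => by rw [polar_qfMinus_inr]; simp)
    (fun i j => by rw [polar_qfMinus_inl]; simp [Pi.single_apply, eq_comm])
    g hcomm
  refine ⟨d, mulVec_single_eq g d ?_⟩
  rintro ((k | k) | k)
  · exact he k
  · exact hf k
  · apply hw
    · intro i
      rw [polar_qfMinus_inl]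
      simp
    · intro i
      rw [polar_qfMinus_inr]
      simp

variable [Fintype F]

/-- elements of the centre of `Ω` are `±1` -/
theorem center_Omega_scalar (h2 : (2 : F) ≠ 0) (Q : QuadraticForm F (ι → F))
    (hQ : (polarBilin Q).Nondegenerate) (hP : SiegelScalar Q) (hne : ∃ x, Q x ≠ 0)
    (z : ↥(Omega F ⇑Q)) (hz : z ∈ Subgroup.center ↥(Omega F ⇑Q)) :
    ∃ ε : F, ε * ε = 1 ∧
      (((z : ↥(isometryGroup F ⇑Q)) : GL ι F) : Matrix ι ι F) = ε • (1 : Matrix ι ι F) := by
  obtain ⟨ε, hε⟩ := hP (((z : ↥(isometryGroup F ⇑Q)) : GL ι F) : Matrix ι ι F) (by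
    intro u v hu hv huv
    have hs : siegelElt Q u v hu hv huv 1 ∈ Omega F ⇑Q :=
      (siegel_mem_commutatorSet h2 Q hQ u v hu hv huv 1 _ rfl).2
    have h1 := (Subgroup.mem_center_iff.1 hz) ⟨siegelElt Q u v hu hv huv 1, hs⟩
    have h3 := congrArg (fun t : ↥(Omega F ⇑Q) =>
      (((t : ↥(isometryGroup F ⇑Q)) : GL ι F) : Matrix ι ι F)) h1
    exact h3.symm)
  refine ⟨ε, ?_, hε⟩
  obtain ⟨x, hx⟩ := hne
  have hiso := (mem_isometryGroup_iff _ _).1 z.1.2 x
  rw [hε, Matrix.smul_mulVec, Matrix.one_mulVec, qf_smul] at hiso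
  have h4 : (ε * ε - 1) * Q x = 0 := by rw [sub_mul, hiso, one_mul, sub_self]
  rcases mul_eq_zero.1 h4 with h | h
  · exact sub_eq_zero.1 h
  · exact absurd h hx

/-- the kernel of `autHom` consists of the scalars -/
theorem autHom_eq_one_iff (h2 : (2 : F) ≠ 0) (Q : QuadraticForm F (ι → F))
    (hQ : (polarBilin Q).Nondegenerate) (hP : SiegelScalar Q) (hne : ∃ x, Q x ≠ 0)
    (g : ↥(Geo.quadSimilarityGroup (F := F) ⇑Q)) :
    autHom ⇑Q g = 1 ↔ (g : GL ι F) ∈ Geo.scalars ι F := by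
  constructor
  · intro hg
    have hcomm : ∀ u v, Q u = 0 → Q v = 0 → polar ⇑Q u v = 0 →
        ((g : GL ι F) : Matrix ι ι F) * siegelMatrix ⇑Q u v 1 =
          siegelMatrix ⇑Q u v 1 * ((g : GL ι F) : Matrix ι ι F) := by
      intro u v hu hv huv
      have hs : siegelElt Q u v hu hv huv (1 / 2) ∈ Omega F ⇑Q :=
        (siegel_mem_commutatorSet h2 Q hQ u v hu hv huv (1 / 2) _ rfl).2
      obtain ⟨s, hsdef⟩ : ∃ s : ↥(Omega F ⇑Q), s = ⟨siegelElt Q u v hu hv huv (1 / 2), hs⟩ :=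
        ⟨_, rfl⟩
      have h1 : autPO ⇑Q g.1 g.2 (QuotientGroup.mk s) = QuotientGroup.mk s := by
        rw [← autHom_apply, hg]
        rfl
      rw [autPO_mk, eq_comm, QuotientGroup.eq] at h1
      obtain ⟨ε, hε2, hε⟩ := center_Omega_scalar h2 Q hQ hP hne _ h1
      have hS : (((s : ↥(isometryGroup F ⇑Q)) : GL ι F) : Matrix ι ι F) =
          siegelMatrix ⇑Q u v (1 / 2) := by rw [hsdef]; rfl
      have h3 : (((conjOmega ⇑Q g.1 g.2 s : ↥(Omega F ⇑Q)) : ↥(isometryGroup F ⇑Q)) : GL ι F) =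
          ((s : ↥(isometryGroup F ⇑Q)) : GL ι F) *
            (((s⁻¹ * conjOmega ⇑Q g.1 g.2 s : ↥(Omega F ⇑Q)) : ↥(isometryGroup F ⇑Q)) : GL ι F) := by
        rw [← Subgroup.coe_mul, ← Subgroup.coe_mul, mul_inv_cancel_left]
      rw [conjOmega_coe] at h3
      have h4 := congrArg (fun t : GL ι F => (t : Matrix ι ι F)) h3
      simp only [Units.val_mul] at h4
      rw [hε, hS] at h4
      -- h4 : g * S * g⁻¹ = S * (ε • 1)
      have h5 : ((g : GL ι F) : Matrix ι ι F) * siegelMatrix ⇑Q u v (1 / 2) =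
          ε • (siegelMatrix ⇑Q u v (1 / 2) * ((g : GL ι F) : Matrix ι ι F)) := by
        have h6 := congrArg (fun M : Matrix ι ι F => M * ((g : GL ι F) : Matrix ι ι F)) h4
        rw [mul_assoc, ← Units.val_mul, inv_mul_cancel, Units.val_one, mul_one] at h6
        rw [h6, Matrix.mul_smul, mul_one, Matrix.smul_mul]
      have hhalf : siegelMatrix ⇑Q u v 1 =
          siegelMatrix ⇑Q u v (1 / 2) * siegelMatrix ⇑Q u v (1 / 2) := by
        rw [siegel_mul Q u v hu hv huv]
        congr 1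
        field_simp
        norm_num
      rw [hhalf, ← mul_assoc, h5, Matrix.smul_mul, mul_assoc, h5, Matrix.mul_smul, smul_smul, hε2,
        one_smul, mul_assoc]
    obtain ⟨c, hc⟩ := hP _ hcomm
    rw [Geo.mem_scalars_iff]
    have hc0 : c ≠ 0 := by
      rintro rfl
      have hdet := (g : GL ι F).isUnit.map (Matrix.detMonoidHom)
      obtain ⟨x, hx⟩ := hne
      have h7 : ((g : GL ι F) : Matrix ι ι F) = 0 := by rw [hc, zero_smul]
      have h8 := congrArg (fun M : Matrix ι ι F =>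
        (((g : GL ι F)⁻¹ : GL ι F) : Matrix ι ι F) * M) h7
      rw [← Units.val_mul, inv_mul_cancel, Units.val_one, mul_zero] at h8
      have h9 := congrArg (fun M : Matrix ι ι F => M.mulVec x) h8
      simp only [Matrix.one_mulVec, Matrix.zero_mulVec] at h9
      rw [h9] at hx
      exact hx (map_zero Q)
    exact ⟨Units.mk0 c hc0, hc⟩
  · intro hg
    rw [Geo.mem_scalars_iff] at hg
    obtain ⟨c, hc⟩ := hg
    apply MulEquiv.ext
    intro x
    induction x using QuotientGroup.induction_on with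
    | H s =>
      rw [autHom_apply, autPO_mk]
      show _ = QuotientGroup.mk s
      congr 1
      apply Subtype.ext
      apply Subtype.ext
      rw [conjOmega_coe]
      apply Units.ext
      rw [Units.val_mul, Units.val_mul, hc, Matrix.smul_mul, one_mul, Matrix.smul_mul]
      have h1 : (c : F) • ((((s : ↥(isometryGroup F ⇑Q)) : GL ι F) : Matrix ι ι F) *
          (((g : GL ι F)⁻¹ : GL ι F) : Matrix ι ι F)) =
          (((s : ↥(isometryGroup F ⇑Q)) : GL ι F) : Matrix ι ι F) *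
            (((g : GL ι F) : Matrix ι ι F) * (((g : GL ι F)⁻¹ : GL ι F) : Matrix ι ι F)) := by
        rw [hc, Matrix.smul_mul, one_mul, Matrix.mul_smul]
      rw [h1, ← Units.val_mul, mul_inv_cancel, Units.val_one, mul_one]

end Schur

end Cfsg.Agent.Helper16
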