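import Cfsg.Agent.Helper16.Schur

set_option autoImplicit false
open Cfsg

namespace Cfsg.Agent.Helper16

open QuadraticMap

section SimHoms
variable {F : Type*} [Field F] {ι : Type} [Fintype ι] [DecidableEq ι]

/-- multiplier of a similarity -/
noncomputable def multFun (Q : (ι → F) → F) (g : ↥(Geo.quadSimilarityGroup (F := F) Q)) : Fˣ :=
  Classical.choose g.2

theorem multFun_spec (Q : (ι → F) → F) (g : ↥(Geo.quadSimilarityGroup (F := F) Q)) (v : ι → F) :
    Q (((g : GL ι F) : Matrix ι ι F).mulVec v) = (multFun Q g : F) * Q v :=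
  Classical.choose_spec g.2 v

theorem multFun_unique (Q : (ι → F) → F) (hne : ∃ x, Q x ≠ 0)
    (g : ↥(Geo.quadSimilarityGroup (F := F) Q)) (c : Fˣ)
    (hc : ∀ v, Q (((g : GL ι F) : Matrix ι ι F).mulVec v) = (c : F) * Q v) : multFun Q g = c := by
  obtain ⟨x, hx⟩ := hne
  have h := multFun_spec Q g x
  rw [hc x] at h
  exact (Units.ext (mul_right_cancel₀ hx h)).symm

/-- the multiplier homomorphism -/
noncomputable def multHom (Q : (ι → F) → F) (hne : ∃ x, Q x ≠ 0) :
    ↥(Geo.quadSimilarityGroup (F := F) Q) →* Fˣ :=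
  MonoidHom.mk' (multFun Q) (by
    intro a b
    apply multFun_unique Q hne
    intro v
    rw [Subgroup.coe_mul, Units.val_mul, ← Matrix.mulVec_mulVec, multFun_spec Q a,
      multFun_spec Q b, Units.val_mul, mul_assoc])

theorem multHom_apply (Q : (ι → F) → F) (hne : ∃ x, Q x ≠ 0)
    (g : ↥(Geo.quadSimilarityGroup (F := F) Q)) : multHom Q hne g = multFun Q g := rfl

theorem isSquare_mul_nonsq [Fintype F] (P c : F) (hP : P ≠ 0)
    (hc : ¬ IsSquare c) : IsSquare (P * c) ↔ ¬ IsSquare P := by
  classical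
  have hc0 : c ≠ 0 := by
    rintro rfl
    exact hc IsSquare.zero
  rw [← quadraticChar_one_iff_isSquare (mul_ne_zero hP hc0), map_mul,
    quadraticChar_neg_one_iff_not_isSquare.2 hc, ← quadraticChar_neg_one_iff_not_isSquare]
  constructor
  · intro h
    linarith
  · intro h
    rw [h]
    norm_num

open Classical in
/-- the square class homomorphism -/
noncomputable def sqHom (F : Type*) [Field F] [Fintype F] : Fˣ →* Multiplicative (ZMod 2) :=
  MonoidHom.mk' (fun c => Multiplicative.ofAdd (if IsSquare (c : F) then (0 : ZMod 2) else 1)) (by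
    classical
    intro a b
    rw [← ofAdd_add]
    congr 1
    by_cases ha : IsSquare (a : F)
    · by_cases hb : IsSquare (b : F)
      · have hab : IsSquare ((a * b : Fˣ) : F) := by rw [Units.val_mul]; exact ha.mul hb
        rw [if_pos ha, if_pos hb, if_pos hab, add_zero]
      · have hab : ¬ IsSquare ((a * b : Fˣ) : F) := by
          rw [Units.val_mul, isSquare_mul_nonsq _ _ a.ne_zero hb]
          exact not_not.2 ha
        rw [if_pos ha, if_neg hb, if_neg hab, zero_add]
    · by_cases hb : IsSquare (b : F)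
      · have hab : ¬ IsSquare ((a * b : Fˣ) : F) := by
          rw [Units.val_mul, mul_comm, isSquare_mul_nonsq _ _ b.ne_zero ha]
          exact not_not.2 hb
        rw [if_neg ha, if_pos hb, if_neg hab, add_zero]
      · have hab : IsSquare ((a * b : Fˣ) : F) := by
          rw [Units.val_mul, isSquare_mul_nonsq _ _ a.ne_zero hb]
          exact ha
        rw [if_neg ha, if_neg hb, if_pos hab]
        rfl)

open Classical in
theorem sqHom_apply [Fintype F] (c : Fˣ) :
    sqHom F c = Multiplicative.ofAdd (if IsSquare (c : F) then (0 : ZMod 2) else 1) := rfl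

theorem sqHom_eq_one_iff [Fintype F] (c : Fˣ) : sqHom F c = 1 ↔ IsSquare (c : F) := by
  classical
  rw [sqHom_apply]
  by_cases h : IsSquare (c : F)
  · rw [if_pos h]
    exact ⟨fun _ => h, fun _ => rfl⟩
  · rw [if_neg h]
    constructor
    · intro h1
      exact absurd h1 (by decide)
    · intro h1
      exact absurd h1 h

theorem polar_eq_dot' (Q : QuadraticForm F (ι → F)) (x y : ι → F) :
    polar Q x y = x ⬝ᵥ (LinearMap.BilinForm.toMatrix' (polarBilin Q)).mulVec y := by
  rw [← Matrix.toBilin'_apply', Matrix.toBilin'_toMatrix']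
  rfl

/-- the determinant of a similarity -/
theorem sim_det_sq (Q : QuadraticForm F (ι → F)) (hQ : (polarBilin Q).Nondegenerate)
    (g : Matrix ι ι F) (c : F) (hc : ∀ v, Q (g.mulVec v) = c * Q v) :
    g.det ^ 2 = c ^ Fintype.card ι := by
  have hpol : ∀ x y, polar ⇑Q (g.mulVec x) (g.mulVec y) = c * polar ⇑Q x y := by
    intro x y
    unfold polar
    rw [← Matrix.mulVec_add, hc, hc, hc]
    ring
  have h1 : LinearMap.BilinForm.comp (polarBilin Q) (Matrix.toLin' g) (Matrix.toLin' g) =
      c • polarBilin Q := by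
    apply LinearMap.ext
    intro x
    apply LinearMap.ext
    intro y
    rw [LinearMap.BilinForm.comp_apply, Matrix.toLin'_apply, Matrix.toLin'_apply]
    exact hpol x y
  have h3 := congrArg LinearMap.BilinForm.toMatrix' h1
  rw [LinearMap.BilinForm.toMatrix'_comp, LinearMap.toMatrix'_toLin', map_smul] at h3
  have h4 := congrArg Matrix.det h3
  rw [Matrix.det_mul, Matrix.det_mul, Matrix.det_transpose, Matrix.det_smul] at h4
  have hdet : (LinearMap.BilinForm.toMatrix' (polarBilin Q)).det ≠ 0 :=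
    (LinearMap.BilinForm.Nondegenerate.toMatrix' hQ).det_ne_zero
  apply mul_right_cancel₀ hdet
  rw [← h4]
  ring

theorem sim_det_dichotomy (Q : QuadraticForm F (ι → F)) (hQ : (polarBilin Q).Nondegenerate)
    (k : ℕ) (hk : Fintype.card ι = 2 * k) (g : ↥(Geo.quadSimilarityGroup (F := F) ⇑Q)) :
    ((g : GL ι F) : Matrix ι ι F).det = (multFun ⇑Q g : F) ^ k ∨
      ((g : GL ι F) : Matrix ι ι F).det = -(multFun ⇑Q g : F) ^ k := by
  have h := sim_det_sq Q hQ _ _ (multFun_spec ⇑Q g)
  rw [hk, pow_mul', sq_eq_sq_iff_eq_or_eq_neg] at h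
  exact h

open Classical in
/-- the sign `det g / μ(g)^k` as a homomorphism -/
noncomputable def detSign (Q : QuadraticForm F (ι → F)) (hQ : (polarBilin Q).Nondegenerate)
    (hne : ∃ x, Q x ≠ 0) (h2 : (2 : F) ≠ 0) (k : ℕ) (hk : Fintype.card ι = 2 * k) :
    ↥(Geo.quadSimilarityGroup (F := F) ⇑Q) →* Multiplicative (ZMod 2) :=
  MonoidHom.mk' (fun g => Multiplicative.ofAdd
    (if ((g : GL ι F) : Matrix ι ι F).det = (multFun ⇑Q g : F) ^ k then (0 : ZMod 2) else 1)) (by
    classical
    intro a b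
    rw [← ofAdd_add]
    congr 1
    have hmul : (multFun ⇑Q (a * b) : F) ^ k = (multFun ⇑Q a : F) ^ k * (multFun ⇑Q b : F) ^ k := by
      have h := (multHom ⇑Q hne).map_mul a b
      rw [multHom_apply, multHom_apply, multHom_apply] at h
      rw [h, Units.val_mul, mul_pow]
    have hdet : (((a * b : ↥(Geo.quadSimilarityGroup (F := F) ⇑Q)) : GL ι F) : Matrix ι ι F).det =
        ((a : GL ι F) : Matrix ι ι F).det * ((b : GL ι F) : Matrix ι ι F).det := by
      rw [Subgroup.coe_mul, Units.val_mul, Matrix.det_mul]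
    have hnz : ∀ x : F, x ≠ 0 → -x ≠ x := by
      intro x hx h
      have h3 : (2 : F) * x = 0 := by linear_combination -h
      rcases mul_eq_zero.1 h3 with h4 | h4
      · exact h2 h4
      · exact hx h4
    have ha0 : (multFun ⇑Q a : F) ^ k ≠ 0 := pow_ne_zero _ (Units.ne_zero _)
    have hb0 : (multFun ⇑Q b : F) ^ k ≠ 0 := pow_ne_zero _ (Units.ne_zero _)
    rw [hdet, hmul]
    rcases sim_det_dichotomy Q hQ k hk a with ha | ha <;>
    rcases sim_det_dichotomy Q hQ k hk b with hb | hb
    · rw [ha, hb, if_pos rfl, if_pos rfl, if_pos rfl, add_zero]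
    · rw [ha, hb, if_pos rfl, if_neg (hnz _ hb0), if_neg (by
        rw [mul_neg]
        exact hnz _ (mul_ne_zero ha0 hb0)), zero_add]
    · rw [ha, hb, if_neg (hnz _ ha0), if_pos rfl, if_neg (by
        rw [neg_mul]
        exact hnz _ (mul_ne_zero ha0 hb0)), add_zero]
    · rw [ha, hb, if_neg (hnz _ ha0), if_neg (hnz _ hb0), if_pos (by rw [neg_mul_neg])]
      rfl)

theorem detSign_eq_one_iff (Q : QuadraticForm F (ι → F)) (hQ : (polarBilin Q).Nondegenerate)
    (hne : ∃ x, Q x ≠ 0) (h2 : (2 : F) ≠ 0) (k : ℕ) (hk : Fintype.card ι = 2 * k)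
    (g : ↥(Geo.quadSimilarityGroup (F := F) ⇑Q)) :
    detSign Q hQ hne h2 k hk g = 1 ↔
      ((g : GL ι F) : Matrix ι ι F).det = (multFun ⇑Q g : F) ^ k := by
  classical
  show Multiplicative.ofAdd (if ((g : GL ι F) : Matrix ι ι F).det = (multFun ⇑Q g : F) ^ k
    then (0 : ZMod 2) else 1) = 1 ↔ _
  by_cases h : ((g : GL ι F) : Matrix ι ι F).det = (multFun ⇑Q g : F) ^ k
  · rw [if_pos h]
    exact ⟨fun _ => h, fun _ => rfl⟩
  · rw [if_neg h]
    constructor
    · intro h1
      exact absurd h1 (by decide)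
    · intro h1
      exact absurd h1 h

end SimHoms

end Cfsg.Agent.Helper16
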