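import Cfsg.Agent.Helper16.AutQuot

set_option autoImplicit false
open Cfsg

namespace Cfsg.Agent.Helper16

open QuadraticMap

section SimPlusMinus
variable {F : Type*} [Field F] [Fintype F]

theorem card_plus (m : ℕ) : Fintype.card (Fin m ⊕ Fin m) = 2 * m := by
  rw [Fintype.card_sum, Fintype.card_fin]
  ring

theorem card_minus (m : ℕ) : Fintype.card ((Fin m ⊕ Fin m) ⊕ Fin 2) = 2 * (m + 1) := by
  rw [Fintype.card_sum, Fintype.card_sum, Fintype.card_fin, Fintype.card_fin]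
  ring

theorem exists_sim_nonsq_plus (h2 : (2 : F) ≠ 0) (m : ℕ) (hm : 1 ≤ m) :
    ∃ g₀ : ↥(Geo.quadSimilarityGroup (F := F) ⇑(qfPlus m F)),
      ¬ IsSquare ((multFun ⇑(qfPlus m F) g₀ : Fˣ) : F) := by
  obtain ⟨ν, hν⟩ := FiniteField.exists_nonsquare (ringChar_ne_two_of_two_ne_zero h2)
  have hν0 : ν ≠ 0 := by
    rintro rfl
    exact hν IsSquare.zero
  obtain ⟨d, hd⟩ : ∃ d : Fin m ⊕ Fin m → F, d = Sum.elim (fun _ => 1) (fun _ => ν) := ⟨_, rfl⟩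
  obtain ⟨d', hd'⟩ : ∃ d' : Fin m ⊕ Fin m → F, d' = Sum.elim (fun _ => 1) (fun _ => ν⁻¹) :=
    ⟨_, rfl⟩
  have hdd : Matrix.diagonal d * Matrix.diagonal d' = 1 := by
    rw [Matrix.diagonal_mul_diagonal, ← Matrix.diagonal_one]
    congr 1
    funext i
    rcases i with i | i <;> simp [hd, hd', hν0]
  have hdd' : Matrix.diagonal d' * Matrix.diagonal d = 1 := by
    rw [Matrix.diagonal_mul_diagonal, ← Matrix.diagonal_one]
    congr 1
    funext i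
    rcases i with i | i <;> simp [hd, hd', hν0]
  have hg : ∀ v, qfPlus m F ((Matrix.diagonal d).mulVec v) = ν * qfPlus m F v := by
    intro v
    rw [qfPlus_apply, qfPlus_apply]
    unfold Cfsg.quadFormPlus
    rw [Finset.mul_sum]
    refine Finset.sum_congr rfl fun i _ => ?_
    rw [Matrix.mulVec_diagonal, Matrix.mulVec_diagonal, hd]
    simp only [Sum.elim_inl, Sum.elim_inr]
    ring
  obtain ⟨v₁, hv₁⟩ := exists_rep h2 (qfPlus m F) qfPlus_nondegenerate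
    (by rw [card_plus]; omega) 1 one_ne_zero
  have hne : ∃ x, qfPlus m F x ≠ 0 := ⟨v₁, by rw [hv₁]; exact one_ne_zero⟩
  refine ⟨⟨⟨Matrix.diagonal d, Matrix.diagonal d', hdd, hdd'⟩, Units.mk0 ν hν0, hg⟩, ?_⟩
  rw [multFun_unique _ hne _ (Units.mk0 ν hν0) hg]
  exact hν

theorem minus_disc_ne (hodd : Odd (Fintype.card F)) (a b : F)
    (hab : ∀ z₁ z₂ : F, z₁ ^ 2 + a * z₁ * z₂ + b * z₂ ^ 2 = 0 → z₁ = 0 ∧ z₂ = 0) :
    4 * b - a ^ 2 ≠ 0 := by
  intro h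
  apply not_isSquare_disc hodd a b hab
  have h' : a ^ 2 - 4 * b = 0 := by linear_combination -h
  rw [h']
  exact IsSquare.zero

theorem exists_sim_nonsq_minus (hodd : Odd (Fintype.card F)) (m : ℕ) (a b : F)
    (hab : ∀ z₁ z₂ : F, z₁ ^ 2 + a * z₁ * z₂ + b * z₂ ^ 2 = 0 → z₁ = 0 ∧ z₂ = 0) :
    ∃ g₀ : ↥(Geo.quadSimilarityGroup (F := F) ⇑(qfMinus m F a b)),
      ¬ IsSquare ((multFun ⇑(qfMinus m F a b) g₀ : Fˣ) : F) := by
  have h2 : (2 : F) ≠ 0 := two_ne_zero_of_odd_card hodd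
  have hdisc := minus_disc_ne hodd a b hab
  obtain ⟨ν, hν⟩ := FiniteField.exists_nonsquare (ringChar_ne_two_of_two_ne_zero h2)
  have hν0 : ν ≠ 0 := by
    rintro rfl
    exact hν IsSquare.zero
  -- a vector of norm ν in the binary part
  obtain ⟨w, hw⟩ := exists_rep h2 (qfMinus 0 F a b) (qfMinus_nondegenerate a b hdisc)
    (by rw [card_minus]) ν hν0
  rw [qfMinus_apply] at hw
  unfold Cfsg.quadFormMinus at hw
  rw [Finset.univ_eq_empty, Finset.sum_empty, zero_add] at hw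
  obtain ⟨z₁, hz₁⟩ : ∃ z₁ : F, z₁ = w (Sum.inr 0) := ⟨_, rfl⟩
  obtain ⟨z₂, hz₂⟩ : ∃ z₂ : F, z₂ = w (Sum.inr 1) := ⟨_, rfl⟩
  rw [← hz₁, ← hz₂] at hw
  -- the matrices
  obtain ⟨d, hd⟩ : ∃ d : Fin m ⊕ Fin m → F, d = Sum.elim (fun _ => 1) (fun _ => ν) := ⟨_, rfl⟩
  obtain ⟨d', hd'⟩ : ∃ d' : Fin m ⊕ Fin m → F, d' = Sum.elim (fun _ => 1) (fun _ => ν⁻¹) :=
    ⟨_, rfl⟩
  have hdd : Matrix.diagonal d * Matrix.diagonal d' = 1 := by
    rw [Matrix.diagonal_mul_diagonal, ← Matrix.diagonal_one]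
    congr 1
    funext i
    rcases i with i | i <;> simp [hd, hd', hν0]
  have hdd' : Matrix.diagonal d' * Matrix.diagonal d = 1 := by
    rw [Matrix.diagonal_mul_diagonal, ← Matrix.diagonal_one]
    congr 1
    funext i
    rcases i with i | i <;> simp [hd, hd', hν0]
  obtain ⟨M, hM⟩ : ∃ M : Matrix (Fin 2) (Fin 2) F, M = !![z₁, -(b * z₂); z₂, z₁ + a * z₂] :=
    ⟨_, rfl⟩
  obtain ⟨M', hM'⟩ : ∃ M' : Matrix (Fin 2) (Fin 2) F,
      M' = ν⁻¹ • !![z₁ + a * z₂, b * z₂; -z₂, z₁] := ⟨_, rfl⟩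
  have hMM0 : !![z₁, -(b * z₂); z₂, z₁ + a * z₂] * !![z₁ + a * z₂, b * z₂; -z₂, z₁] =
      ν • (1 : Matrix (Fin 2) (Fin 2) F) := by
    rw [Matrix.mul_fin_two, Matrix.one_fin_two, Matrix.smul_of, Matrix.smul_cons, Matrix.smul_cons]
    simp only [Matrix.smul_cons, Matrix.smul_empty, smul_eq_mul, mul_one, mul_zero]
    congr 1
    ext i j
    fin_cases i <;> fin_cases j
    · show z₁ * (z₁ + a * z₂) + -(b * z₂) * -z₂ = ν
      linear_combination hw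
    · show z₁ * (b * z₂) + -(b * z₂) * z₁ = 0
      ring
    · show z₂ * (z₁ + a * z₂) + (z₁ + a * z₂) * -z₂ = 0
      ring
    · show z₂ * (b * z₂) + (z₁ + a * z₂) * z₁ = ν
      linear_combination hw
  have hMM0' : !![z₁ + a * z₂, b * z₂; -z₂, z₁] * !![z₁, -(b * z₂); z₂, z₁ + a * z₂] =
      ν • (1 : Matrix (Fin 2) (Fin 2) F) := by
    rw [Matrix.mul_fin_two, Matrix.one_fin_two, Matrix.smul_of, Matrix.smul_cons, Matrix.smul_cons]
    simp only [Matrix.smul_cons, Matrix.smul_empty, smul_eq_mul, mul_one, mul_zero]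
    congr 1
    ext i j
    fin_cases i <;> fin_cases j
    · show (z₁ + a * z₂) * z₁ + b * z₂ * z₂ = ν
      linear_combination hw
    · show (z₁ + a * z₂) * -(b * z₂) + b * z₂ * (z₁ + a * z₂) = 0
      ring
    · show -z₂ * z₁ + z₁ * z₂ = 0
      ring
    · show -z₂ * -(b * z₂) + z₁ * (z₁ + a * z₂) = ν
      linear_combination hw
  have hMM : M * M' = 1 := by
    rw [hM, hM', Matrix.mul_smul, hMM0, smul_smul, inv_mul_cancel₀ hν0, one_smul]
  have hMM' : M' * M = 1 := by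
    rw [hM, hM', Matrix.smul_mul, hMM0', smul_smul, inv_mul_cancel₀ hν0, one_smul]
  obtain ⟨G, hG⟩ : ∃ G : Matrix ((Fin m ⊕ Fin m) ⊕ Fin 2) ((Fin m ⊕ Fin m) ⊕ Fin 2) F,
      G = Matrix.fromBlocks (Matrix.diagonal d) 0 0 M := ⟨_, rfl⟩
  obtain ⟨G', hG'⟩ : ∃ G' : Matrix ((Fin m ⊕ Fin m) ⊕ Fin 2) ((Fin m ⊕ Fin m) ⊕ Fin 2) F,
      G' = Matrix.fromBlocks (Matrix.diagonal d') 0 0 M' := ⟨_, rfl⟩
  have hGG : G * G' = 1 := by
    rw [hG, hG', Matrix.fromBlocks_multiply, ← Matrix.fromBlocks_one]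
    simp [hdd, hMM]
  have hGG' : G' * G = 1 := by
    rw [hG, hG', Matrix.fromBlocks_multiply, ← Matrix.fromBlocks_one]
    simp [hdd', hMM']
  have hg : ∀ v, qfMinus m F a b (G.mulVec v) = ν * qfMinus m F a b v := by
    intro v
    rw [qfMinus_apply, qfMinus_apply]
    unfold Cfsg.quadFormMinus
    have h1 : ∀ i : Fin m, G.mulVec v (Sum.inl (Sum.inl i)) = v (Sum.inl (Sum.inl i)) := by
      intro i
      rw [hG]
      simp [Matrix.mulVec, dotProduct, Matrix.fromBlocks, Matrix.diagonal_apply, hd]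
    have h3 : ∀ i : Fin m, G.mulVec v (Sum.inl (Sum.inr i)) = ν * v (Sum.inl (Sum.inr i)) := by
      intro i
      rw [hG]
      simp [Matrix.mulVec, dotProduct, Matrix.fromBlocks, Matrix.diagonal_apply, hd]
    have h4 : G.mulVec v (Sum.inr 0) = z₁ * v (Sum.inr 0) - b * z₂ * v (Sum.inr 1) := by
      rw [hG, hM]
      simp [Matrix.mulVec, dotProduct, Matrix.fromBlocks, Fin.sum_univ_two]
      ring
    have h5 : G.mulVec v (Sum.inr 1) = z₂ * v (Sum.inr 0) + (z₁ + a * z₂) * v (Sum.inr 1) := by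
      rw [hG, hM]
      simp [Matrix.mulVec, dotProduct, Matrix.fromBlocks, Fin.sum_univ_two]
    rw [h4, h5, mul_add ν, Finset.mul_sum]
    congr 1
    · refine Finset.sum_congr rfl fun i _ => ?_
      rw [h1, h3]
      ring
    · linear_combination (v (Sum.inr 0) ^ 2 + a * v (Sum.inr 0) * v (Sum.inr 1) +
        b * v (Sum.inr 1) ^ 2) * hw
  obtain ⟨v₁, hv₁⟩ := exists_rep h2 (qfMinus m F a b) (qfMinus_nondegenerate a b hdisc)
    (by rw [card_minus]; omega) 1 one_ne_zero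
  have hne : ∃ x, qfMinus m F a b x ≠ 0 := ⟨v₁, by rw [hv₁]; exact one_ne_zero⟩
  refine ⟨⟨⟨G, G', hGG, hGG'⟩, Units.mk0 ν hν0, hg⟩, ?_⟩
  rw [multFun_unique _ hne _ (Units.mk0 ν hν0) hg]
  exact hν

end SimPlusMinus

end Cfsg.Agent.Helper16
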