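import Mathlib
import Cfsg.Agent.Helper16.Refl

set_option autoImplicit false

namespace Cfsg.Agent.Helper16

open QuadraticMap

section AntiComm

variable (F : Type*) [Field F] {A : Type*} [Ring A] [Algebra F A]

/-- even and odd parts of the span of the words in the first `k` members of a sequence -/
noncomputable def eoSeq (e : ℕ → A) : ℕ → Submodule F A × Submodule F A
  | 0 => (1, ⊥)
  | k + 1 => ((eoSeq e k).1 ⊔ (eoSeq e k).2.map (LinearMap.mulRight F (e k)),
      (eoSeq e k).2 ⊔ (eoSeq e k).1.map (LinearMap.mulRight F (e k)))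

theorem eo_mem_fst_succ (e : ℕ → A) (k : ℕ) (x : A) :
    x ∈ (eoSeq F e (k + 1)).1 ↔
      ∃ x₁ ∈ (eoSeq F e k).1, ∃ y₁ ∈ (eoSeq F e k).2, x₁ + y₁ * e k = x := by
  show x ∈ (eoSeq F e k).1 ⊔ (eoSeq F e k).2.map (LinearMap.mulRight F (e k)) ↔ _
  rw [Submodule.mem_sup]
  constructor
  · rintro ⟨x₁, hx₁, z, hz, rfl⟩
    obtain ⟨y₁, hy₁, rfl⟩ := Submodule.mem_map.1 hz
    exact ⟨x₁, hx₁, y₁, hy₁, rfl⟩
  · rintro ⟨x₁, hx₁, y₁, hy₁, rfl⟩
    exact ⟨x₁, hx₁, _, Submodule.mem_map.2 ⟨y₁, hy₁, rfl⟩, rfl⟩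

theorem eo_mem_snd_succ (e : ℕ → A) (k : ℕ) (y : A) :
    y ∈ (eoSeq F e (k + 1)).2 ↔
      ∃ y₁ ∈ (eoSeq F e k).2, ∃ x₁ ∈ (eoSeq F e k).1, y₁ + x₁ * e k = y := by
  show y ∈ (eoSeq F e k).2 ⊔ (eoSeq F e k).1.map (LinearMap.mulRight F (e k)) ↔ _
  rw [Submodule.mem_sup]
  constructor
  · rintro ⟨y₁, hy₁, z, hz, rfl⟩
    obtain ⟨x₁, hx₁, rfl⟩ := Submodule.mem_map.1 hz
    exact ⟨y₁, hy₁, x₁, hx₁, rfl⟩
  · rintro ⟨y₁, hy₁, x₁, hx₁, rfl⟩
    exact ⟨y₁, hy₁, _, Submodule.mem_map.2 ⟨x₁, hx₁, rfl⟩, rfl⟩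

theorem eo_one_mem (e : ℕ → A) (k : ℕ) : (1 : A) ∈ (eoSeq F e k).1 := by
  induction k with
  | zero => exact Submodule.mem_one.2 ⟨1, map_one _⟩
  | succ k ih => exact (eo_mem_fst_succ F e k 1).2 ⟨1, ih, 0, Submodule.zero_mem _, by simp⟩

variable {F}

theorem eo_comm (e : ℕ → A) (n : ℕ)
    (hanti : ∀ i j, i < n → j < n → i ≠ j → e i * e j = -(e j * e i)) :
    ∀ k j, k ≤ j → j < n → (∀ x ∈ (eoSeq F e k).1, e j * x = x * e j) ∧
      (∀ y ∈ (eoSeq F e k).2, e j * y = -(y * e j)) := by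
  intro k
  induction k with
  | zero =>
    intro j _ _
    constructor
    · intro x hx
      obtain ⟨c, rfl⟩ := Submodule.mem_one.1 hx
      exact (Algebra.commutes c (e j)).symm
    · intro y hy
      have : y = 0 := (Submodule.mem_bot F).1 hy
      rw [this]
      simp
  | succ k ih =>
    intro j hkj hjn
    obtain ⟨ihE, ihO⟩ := ih j (by omega) hjn
    have hjk : e j * e k = -(e k * e j) := hanti j k hjn (by omega) (by omega)
    constructor
    · intro x hx
      obtain ⟨x₁, hx₁, y₁, hy₁, rfl⟩ := (eo_mem_fst_succ F e k x).1 hx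
      rw [mul_add, add_mul, ihE x₁ hx₁, ← mul_assoc, ihO y₁ hy₁, neg_mul, mul_assoc, hjk, mul_neg,
        neg_neg, mul_assoc]
    · intro y hy
      obtain ⟨y₁, hy₁, x₁, hx₁, rfl⟩ := (eo_mem_snd_succ F e k y).1 hy
      rw [mul_add, add_mul, ihO y₁ hy₁, ← mul_assoc, ihE x₁ hx₁, mul_assoc, hjk, neg_add, mul_neg,
        mul_assoc]

theorem eo_mul (e : ℕ → A) (a : ℕ → F) (n : ℕ)
    (hanti : ∀ i j, i < n → j < n → i ≠ j → e i * e j = -(e j * e i))
    (hsq : ∀ i, i < n → e i * e i = algebraMap F A (a i)) :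
    ∀ k, k ≤ n → ∀ j, j < k → (∀ x ∈ (eoSeq F e k).1, e j * x ∈ (eoSeq F e k).2) ∧
      (∀ y ∈ (eoSeq F e k).2, e j * y ∈ (eoSeq F e k).1) := by
  intro k
  induction k with
  | zero =>
    intro _ j hj
    omega
  | succ k ih =>
    intro hkn j hj
    by_cases hjk : j < k
    · obtain ⟨ihE, ihO⟩ := ih (by omega) j hjk
      constructor
      · intro x hx
        obtain ⟨x₁, hx₁, y₁, hy₁, rfl⟩ := (eo_mem_fst_succ F e k x).1 hx
        exact (eo_mem_snd_succ F e k _).2 ⟨e j * x₁, ihE x₁ hx₁, e j * y₁, ihO y₁ hy₁, by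
          rw [mul_add, mul_assoc]⟩
      · intro y hy
        obtain ⟨y₁, hy₁, x₁, hx₁, rfl⟩ := (eo_mem_snd_succ F e k y).1 hy
        exact (eo_mem_fst_succ F e k _).2 ⟨e j * y₁, ihO y₁ hy₁, e j * x₁, ihE x₁ hx₁, by
          rw [mul_add, mul_assoc]⟩
    · have hjk' : j = k := by omega
      subst hjk'
      obtain ⟨hcE, hcO⟩ := eo_comm (F := F) e n hanti j j le_rfl (by omega)
      have hsq' := hsq j (by omega)
      constructor
      · intro x hx
        obtain ⟨x₁, hx₁, y₁, hy₁, rfl⟩ := (eo_mem_fst_succ F e j x).1 hx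
        refine (eo_mem_snd_succ F e j _).2 ⟨-(a j • y₁), Submodule.neg_mem _
          (Submodule.smul_mem _ _ hy₁), x₁, hx₁, ?_⟩
        rw [mul_add, hcE x₁ hx₁, ← mul_assoc, hcO y₁ hy₁, neg_mul, mul_assoc, hsq',
          ← Algebra.commutes, ← Algebra.smul_def]
        abel
      · intro y hy
        obtain ⟨y₁, hy₁, x₁, hx₁, rfl⟩ := (eo_mem_snd_succ F e j y).1 hy
        refine (eo_mem_fst_succ F e j _).2 ⟨a j • x₁, Submodule.smul_mem _ _ hx₁, -y₁,
          Submodule.neg_mem _ hy₁, ?_⟩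
        rw [mul_add, hcO y₁ hy₁, ← mul_assoc, hcE x₁ hx₁, mul_assoc, hsq',
          ← Algebra.commutes, ← Algebra.smul_def, neg_mul]
        abel

theorem eo_descent (e : ℕ → A) (a : ℕ → F) (n : ℕ) (h2 : (2 : F) ≠ 0)
    (hanti : ∀ i j, i < n → j < n → i ≠ j → e i * e j = -(e j * e i))
    (hsq : ∀ i, i < n → e i * e i = algebraMap F A (a i)) (ha : ∀ i, i < n → a i ≠ 0)
    (k : ℕ) (hk : k < n) :
    (∀ c ∈ (eoSeq F e (k + 1)).1, e k * c = c * e k → c ∈ (eoSeq F e k).1) ∧
      (∀ c ∈ (eoSeq F e (k + 1)).2, e k * c = -(c * e k) → c ∈ (eoSeq F e k).2) := by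
  obtain ⟨hcE, hcO⟩ := eo_comm (F := F) e n hanti k k le_rfl hk
  have hsq' := hsq k hk
  have h2a : (2 * a k) ≠ 0 := mul_ne_zero h2 (ha k hk)
  constructor
  · intro c hc hcomm
    obtain ⟨x₁, hx₁, y₁, hy₁, rfl⟩ := (eo_mem_fst_succ F e k c).1 hc
    have h1 : e k * (x₁ + y₁ * e k) = x₁ * e k - a k • y₁ := by
      rw [mul_add, hcE x₁ hx₁, ← mul_assoc, hcO y₁ hy₁, neg_mul, mul_assoc, hsq',
        ← Algebra.commutes, ← Algebra.smul_def]
      abel
    have h3 : (x₁ + y₁ * e k) * e k = x₁ * e k + a k • y₁ := by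
      rw [add_mul, mul_assoc, hsq', ← Algebra.commutes, ← Algebra.smul_def]
    rw [h1, h3] at hcomm
    have h4 : (2 * a k) • y₁ = 0 := by
      rw [mul_smul, two_smul]
      have := sub_eq_zero.2 hcomm
      rw [← neg_eq_zero]
      rw [← this]
      abel
    have hy0 : y₁ = 0 := (smul_eq_zero.1 h4).resolve_left h2a
    rw [hy0, zero_mul, add_zero]
    exact hx₁
  · intro c hc hcomm
    obtain ⟨y₁, hy₁, x₁, hx₁, rfl⟩ := (eo_mem_snd_succ F e k c).1 hc
    have h1 : e k * (y₁ + x₁ * e k) = -(y₁ * e k) + a k • x₁ := by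
      rw [mul_add, hcO y₁ hy₁, ← mul_assoc, hcE x₁ hx₁, mul_assoc, hsq',
        ← Algebra.commutes, ← Algebra.smul_def]
    have h3 : (y₁ + x₁ * e k) * e k = y₁ * e k + a k • x₁ := by
      rw [add_mul, mul_assoc, hsq', ← Algebra.commutes, ← Algebra.smul_def]
    rw [h1, h3] at hcomm
    have h4 : (2 * a k) • x₁ = 0 := by
      rw [mul_smul, two_smul]
      have := sub_eq_zero.2 hcomm
      rw [← this]
      abel
    have hx0 : x₁ = 0 := (smul_eq_zero.1 h4).resolve_left h2a
    rw [hx0, zero_mul, add_zero]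
    exact hy₁

theorem eo_central (e : ℕ → A) (a : ℕ → F) (n : ℕ) (h2 : (2 : F) ≠ 0)
    (hanti : ∀ i j, i < n → j < n → i ≠ j → e i * e j = -(e j * e i))
    (hsq : ∀ i, i < n → e i * e i = algebraMap F A (a i)) (ha : ∀ i, i < n → a i ≠ 0)
    (c : A) (hc : ∀ j, j < n → e j * c = c * e j) :
    ∀ k, k ≤ n → c ∈ (eoSeq F e k).1 → ∃ t : F, algebraMap F A t = c := by
  intro k
  induction k with
  | zero =>
    intro _ h
    exact Submodule.mem_one.1 h
  | succ k ih =>
    intro hk h
    exact ih (by omega) ((eo_descent e a n h2 hanti hsq ha k (by omega)).1 c h (hc k (by omega)))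

theorem eo_anticentral (e : ℕ → A) (a : ℕ → F) (n : ℕ) (h2 : (2 : F) ≠ 0)
    (hanti : ∀ i j, i < n → j < n → i ≠ j → e i * e j = -(e j * e i))
    (hsq : ∀ i, i < n → e i * e i = algebraMap F A (a i)) (ha : ∀ i, i < n → a i ≠ 0)
    (c : A) (hc : ∀ j, j < n → e j * c = -(c * e j)) :
    ∀ k, k ≤ n → c ∈ (eoSeq F e k).2 → c = 0 := by
  intro k
  induction k with
  | zero =>
    intro _ h
    exact (Submodule.mem_bot F).1 h
  | succ k ih =>
    intro hk h
    exact ih (by omega) ((eo_descent e a n h2 hanti hsq ha k (by omega)).2 c h (hc k (by omega)))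

theorem eo_prod (e : ℕ → A) (a : ℕ → F) (n : ℕ)
    (hanti : ∀ i j, i < n → j < n → i ≠ j → e i * e j = -(e j * e i))
    (hsq : ∀ i, i < n → e i * e i = algebraMap F A (a i)) (l : List A)
    (hl : ∀ x ∈ l, x ∈ Submodule.span F (e '' Set.Iio n)) :
    (Even l.length → l.prod ∈ (eoSeq F e n).1) ∧ (¬ Even l.length → l.prod ∈ (eoSeq F e n).2) := by
  have hkey : ∀ x ∈ Submodule.span F (e '' Set.Iio n),
      (∀ z ∈ (eoSeq F e n).1, x * z ∈ (eoSeq F e n).2) ∧
      (∀ z ∈ (eoSeq F e n).2, x * z ∈ (eoSeq F e n).1) := by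
    intro x hx
    induction hx using Submodule.span_induction with
    | mem x hx =>
      obtain ⟨j, hj, rfl⟩ := hx
      exact eo_mul e a n hanti hsq n le_rfl j hj
    | zero =>
      constructor <;> intro z _ <;> rw [zero_mul] <;> exact Submodule.zero_mem _
    | add x y _ _ ihx ihy =>
      constructor
      · intro z hz
        rw [add_mul]
        exact Submodule.add_mem _ (ihx.1 z hz) (ihy.1 z hz)
      · intro z hz
        rw [add_mul]
        exact Submodule.add_mem _ (ihx.2 z hz) (ihy.2 z hz)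
    | smul t x _ ihx =>
      constructor
      · intro z hz
        rw [smul_mul_assoc]
        exact Submodule.smul_mem _ _ (ihx.1 z hz)
      · intro z hz
        rw [smul_mul_assoc]
        exact Submodule.smul_mem _ _ (ihx.2 z hz)
  induction l with
  | nil =>
    constructor
    · intro _
      rw [List.prod_nil]
      exact eo_one_mem F e n
    · intro h
      exact absurd (by simp) h
  | cons x l ih =>
    obtain ⟨ihE, ihO⟩ := ih (fun y hy => hl y (List.mem_cons_of_mem x hy))
    have hx := hkey x (hl x List.mem_cons_self)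
    constructor
    · intro h
      rw [List.length_cons, Nat.even_add_one] at h
      rw [List.prod_cons]
      exact hx.2 _ (ihO h)
    · intro h
      rw [List.length_cons, Nat.even_add_one, not_not] at h
      rw [List.prod_cons]
      exact hx.1 _ (ihE h)

end AntiComm

section Clifford

variable {F : Type*} [Field F] {V : Type*} [AddCommGroup V] [Module F V]

open CliffordAlgebra

theorem ι_mul_ι_refl (Q : QuadraticForm F V) (v x : V) (hv : Q v ≠ 0) :
    ι Q v * ι Q x = -(ι Q (qrefl Q v x) * ι Q v) := by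
  rw [qrefl_apply, map_sub, map_smul, sub_mul, smul_mul_assoc, ι_sq_scalar, ι_mul_ι_comm,
    Algebra.algebraMap_eq_smul_one, Algebra.algebraMap_eq_smul_one]
  have h : (Q v)⁻¹ * polar Q v x * Q v = polar Q v x := by field_simp
  rw [smul_smul, h]
  abel

theorem prod_ι_mul_ι (Q : QuadraticForm F V) (vs : List V) (hvs : ∀ v ∈ vs, Q v ≠ 0) (x : V) :
    (vs.map (ι Q)).prod * ι Q x =
      (-1 : F) ^ vs.length • (ι Q ((vs.map (qrefl Q)).prod x) * (vs.map (ι Q)).prod) := by
  induction vs with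
  | nil => simp
  | cons v vs ih =>
    rw [List.map_cons, List.prod_cons, mul_assoc, ih (fun u hu => hvs u (List.mem_cons_of_mem v hu)),
      mul_smul_comm, ← mul_assoc, ι_mul_ι_refl Q v _ (hvs v List.mem_cons_self), List.map_cons,
      List.prod_cons, Module.End.mul_apply, List.length_cons, pow_succ, mul_smul, neg_mul, mul_assoc]
    simp

theorem prod_reverse_ι_mul (Q : QuadraticForm F V) (vs : List V) :
    (vs.reverse.map (ι Q)).prod * (vs.map (ι Q)).prod =
      algebraMap F (CliffordAlgebra Q) (vs.map Q).prod := by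
  induction vs with
  | nil => simp
  | cons v vs ih =>
    rw [List.reverse_cons, List.map_append, List.prod_append, List.map_singleton,
      List.prod_singleton, List.map_cons, List.prod_cons, List.map_cons, List.prod_cons]
    have h : (List.map (ι Q) vs.reverse).prod * ι Q v * (ι Q v * (List.map (ι Q) vs).prod) =
        (List.map (ι Q) vs.reverse).prod * (ι Q v * ι Q v) * (List.map (ι Q) vs).prod := by
      simp only [mul_assoc]
    rw [h, ι_sq_scalar, ← Algebra.commutes, mul_assoc, ih, ← map_mul]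

/-- the spinor norm is well defined: a product of reflections equal to the identity has an even
number of factors and the product of their norms is a square -/
theorem spinor_wd [FiniteDimensional F V] (h2 : (2 : F) ≠ 0) (Q : QuadraticForm F V)
    (hQ : (polarBilin Q).Nondegenerate) (vs : List V) (hvs : ∀ v ∈ vs, Q v ≠ 0)
    (h1 : (vs.map (qrefl Q)).prod = 1) : Even vs.length ∧ IsSquare (vs.map Q).prod := by
  haveI : Invertible (2 : F) := invertibleOfNonzero h2
  obtain ⟨b, hb⟩ := LinearMap.BilinForm.exists_orthogonal_basis (polarBilin_isSymm Q)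
  obtain ⟨n, hn⟩ : ∃ n, n = Module.finrank F V := ⟨_, rfl⟩
  have hne : ∀ i, Q (b i) ≠ 0 := by
    intro i h0
    have h3 := LinearMap.IsOrthoᵢ.not_isOrtho_basis_self_of_separatingLeft hb hQ.1 i
    apply h3
    show polar Q (b i) (b i) = 0
    rw [qf_polar_self, h0, mul_zero]
  let e : ℕ → CliffordAlgebra Q := fun j =>
    if h : j < Module.finrank F V then ι Q (b ⟨j, h⟩) else 0
  let a : ℕ → F := fun j => if h : j < Module.finrank F V then Q (b ⟨j, h⟩) else 0
  have hanti : ∀ i j, i < Module.finrank F V → j < Module.finrank F V → i ≠ j →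
      e i * e j = -(e j * e i) := by
    intro i j hi hj hij
    simp only [e, dif_pos hi, dif_pos hj]
    have hpol : polar Q (b ⟨i, hi⟩) (b ⟨j, hj⟩) = 0 :=
      hb (fun h => hij (congrArg Fin.val h))
    have h3 := ι_mul_ι_add_swap (Q := Q) (b ⟨i, hi⟩) (b ⟨j, hj⟩)
    rw [hpol, map_zero] at h3
    exact eq_neg_of_add_eq_zero_left h3
  have hsq : ∀ i, i < Module.finrank F V → e i * e i = algebraMap F _ (a i) := by
    intro i hi
    simp only [e, a, dif_pos hi]
    exact ι_sq_scalar Q _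
  have ha : ∀ i, i < Module.finrank F V → a i ≠ 0 := by
    intro i hi
    simp only [a, dif_pos hi]
    exact hne _
  have hspan : ∀ v : V, ι Q v ∈ Submodule.span F (e '' Set.Iio (Module.finrank F V)) := by
    intro v
    rw [← b.sum_repr v, map_sum]
    apply Submodule.sum_mem
    intro i _
    rw [map_smul]
    apply Submodule.smul_mem
    apply Submodule.subset_span
    exact ⟨i, i.2, by simp [e, dif_pos i.2]⟩
  have hcomm : ∀ x : V, (vs.map (ι Q)).prod * ι Q x =
      (-1 : F) ^ vs.length • (ι Q x * (vs.map (ι Q)).prod) := by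
    intro x
    have h3 := prod_ι_mul_ι Q vs hvs x
    rw [h1] at h3
    exact h3
  have hc0 : (vs.map (ι Q)).prod ≠ 0 := by
    intro h0
    have h3 := prod_reverse_ι_mul Q vs
    rw [h0, mul_zero] at h3
    have h4 : (vs.map Q).prod = 0 :=
      (algebraMap F (CliffordAlgebra Q)).injective (by rw [← h3, map_zero])
    rw [List.prod_eq_zero_iff] at h4
    obtain ⟨v, hv, hv0⟩ := List.mem_map.1 h4
    exact hvs v hv hv0
  have hprod := eo_prod e a (Module.finrank F V) hanti hsq (vs.map (ι Q)) (by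
    intro x hx
    obtain ⟨v, -, rfl⟩ := List.mem_map.1 hx
    exact hspan v)
  rw [List.length_map] at hprod
  have heven : Even vs.length := by
    by_contra hodd
    have hcO := hprod.2 hodd
    rw [Nat.not_even_iff_odd] at hodd
    have hanti_c : ∀ j, j < Module.finrank F V →
        e j * (vs.map (ι Q)).prod = -((vs.map (ι Q)).prod * e j) := by
      intro j hj
      simp only [e, dif_pos hj]
      rw [hcomm, hodd.neg_one_pow, neg_smul, one_smul, neg_neg]
    exact hc0 (eo_anticentral e a _ h2 hanti hsq ha _ hanti_c _ le_rfl hcO)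
  refine ⟨heven, ?_⟩
  have hcE := hprod.1 heven
  have hcomm_c : ∀ j, j < Module.finrank F V →
      e j * (vs.map (ι Q)).prod = (vs.map (ι Q)).prod * e j := by
    intro j hj
    simp only [e, dif_pos hj]
    rw [hcomm, heven.neg_one_pow, one_smul]
  obtain ⟨t, ht⟩ := eo_central e a _ h2 hanti hsq ha _ hcomm_c _ le_rfl hcE
  refine ⟨t, ?_⟩
  apply (algebraMap F (CliffordAlgebra Q)).injective
  rw [← prod_reverse_ι_mul Q vs, List.map_reverse, ← reverse_prod_map_ι, ← ht, reverse.commutes,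
    ← map_mul]

theorem prod_qrefl_mul_reverse (Q : QuadraticForm F V) (vs : List V) (hvs : ∀ v ∈ vs, Q v ≠ 0) :
    (vs.map (qrefl Q)).prod * (vs.reverse.map (qrefl Q)).prod = 1 := by
  induction vs with
  | nil => simp
  | cons v vs ih =>
    rw [List.reverse_cons, List.map_append, List.prod_append, List.map_singleton,
      List.prod_singleton, List.map_cons, List.prod_cons]
    have h : qrefl Q v * (List.map (qrefl Q) vs).prod *
        ((List.map (qrefl Q) vs.reverse).prod * qrefl Q v) =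
        qrefl Q v * ((List.map (qrefl Q) vs).prod * (List.map (qrefl Q) vs.reverse).prod) *
          qrefl Q v := by
      simp only [mul_assoc]
    rw [h, ih (fun u hu => hvs u (List.mem_cons_of_mem v hu)), mul_one,
      qrefl_mul_self Q v (hvs v List.mem_cons_self)]

/-- two factorisations of the same isometry into reflections have the same parity and the same
spinor norm -/
theorem spinor_wd2 [FiniteDimensional F V] (h2 : (2 : F) ≠ 0) (Q : QuadraticForm F V)
    (hQ : (polarBilin Q).Nondegenerate) (vs ws : List V) (hvs : ∀ v ∈ vs, Q v ≠ 0)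
    (hws : ∀ v ∈ ws, Q v ≠ 0) (h : (vs.map (qrefl Q)).prod = (ws.map (qrefl Q)).prod) :
    (Even vs.length ↔ Even ws.length) ∧ IsSquare ((vs.map Q).prod * (ws.map Q).prod) := by
  have h1 : ((vs ++ ws.reverse).map (qrefl Q)).prod = 1 := by
    rw [List.map_append, List.prod_append, h, prod_qrefl_mul_reverse Q ws hws]
  have h3 := spinor_wd h2 Q hQ (vs ++ ws.reverse) (by
    intro v hv
    rcases List.mem_append.1 hv with h | h
    · exact hvs v h
    · exact hws v (List.mem_reverse.1 h)) h1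
  rw [List.length_append, List.length_reverse, Nat.even_add, List.map_append, List.prod_append,
    List.map_reverse, List.prod_reverse] at h3
  exact h3

end Clifford

end Cfsg.Agent.Helper16
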