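import Mathlib
import Cfsg.Prelude.Def_Classical
import Cfsg.Prelude.Def_ClassicalGeometry
import Cfsg.Agent.Helper16.Spinor
import Cfsg.Agent.Helper16.IsomEmbed

set_option autoImplicit false

namespace Cfsg.Agent.Helper16

open QuadraticMap

open scoped commutatorElement

section ListLemma

/-- a product of an even number of elements of order two, constant on square classes, whose
total class is trivial, is trivial -/
theorem list_prod_eq_one_of_even_square {F : Type*} [Field F] [Fintype F] {X : Type*}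
    {Ab : Type*} [CommGroup Ab] (f : X → Ab) (κ : X → F)
    (hf : ∀ x y, κ x ≠ 0 → κ y ≠ 0 → IsSquare (κ x * κ y) → f x * f y = 1) :
    ∀ l : List X, (∀ x ∈ l, κ x ≠ 0) → Even l.length → IsSquare (l.map κ).prod →
      (l.map f).prod = 1 := by
  classical
  have hff : ∀ x, κ x ≠ 0 → f x * f x = 1 := fun x hx => hf x x hx hx ⟨κ x, rfl⟩
  have hsame : ∀ a x, κ a ≠ 0 → κ x ≠ 0 → quadraticChar F (κ a) = quadraticChar F (κ x) →
      f a = f x := by
    intro a x ha hx h
    have h1 : IsSquare (κ a * κ x) := by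
      rw [← quadraticChar_one_iff_isSquare (mul_ne_zero ha hx), map_mul, h]
      rcases quadraticChar_dichotomy hx with h' | h' <;> rw [h'] <;> norm_num
    have h3 := hf a x ha hx h1
    calc f a = f a * (f x * f x) := by rw [hff x hx, mul_one]
      _ = f a * f x * f x := by rw [mul_assoc]
      _ = f x := by rw [h3, one_mul]
  have key : ∀ l : List X, (∀ x ∈ l, κ x ≠ 0) →
      (Even l.length → quadraticChar F (l.map κ).prod = 1 → (l.map f).prod = 1) ∧
      (¬ Even l.length → quadraticChar F (l.map κ).prod = 1 → ∀ x, κ x ≠ 0 →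
        quadraticChar F (κ x) = 1 → (l.map f).prod = f x) ∧
      (Even l.length → quadraticChar F (l.map κ).prod = -1 → ∀ x y, κ x ≠ 0 → κ y ≠ 0 →
        quadraticChar F (κ x) = 1 → quadraticChar F (κ y) = -1 → (l.map f).prod = f x * f y) ∧
      (¬ Even l.length → quadraticChar F (l.map κ).prod = -1 → ∀ y, κ y ≠ 0 →
        quadraticChar F (κ y) = -1 → (l.map f).prod = f y) := by
    intro l
    induction l with
    | nil =>
      intro _
      refine ⟨fun _ _ => rfl, fun h => absurd (by simp) h, ?_, fun h => absurd (by simp) h⟩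
      intro _ h
      simp at h
    | cons a l ih =>
      intro hl
      have ha : κ a ≠ 0 := hl a List.mem_cons_self
      obtain ⟨ihA, ihB, ihC, ihD⟩ := ih (fun x hx => hl x (List.mem_cons_of_mem a hx))
      have hmul : quadraticChar F ((List.map κ (a :: l)).prod) =
          quadraticChar F (κ a) * quadraticChar F (l.map κ).prod := by
        rw [List.map_cons, List.prod_cons, map_mul]
      simp only [List.length_cons, Nat.even_add_one, not_not, List.map_cons, List.prod_cons]
      rw [List.map_cons, List.prod_cons] at hmul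
      refine ⟨?_, ?_, ?_, ?_⟩
      · intro hodd hchi
        rw [hmul] at hchi
        rcases quadraticChar_dichotomy ha with hs | hs
        · rw [hs, one_mul] at hchi
          rw [ihB hodd hchi a ha hs, hff a ha]
        · rw [hs] at hchi
          have hchi' : quadraticChar F (l.map κ).prod = -1 := by linarith
          rw [ihD hodd hchi' a ha hs, hff a ha]
      · intro hev hchi x hx hxs
        rw [hmul] at hchi
        rcases quadraticChar_dichotomy ha with hs | hs
        · rw [hs, one_mul] at hchi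
          rw [ihA hev hchi, mul_one]
          exact hsame a x ha hx (by rw [hs, hxs])
        · rw [hs] at hchi
          have hchi' : quadraticChar F (l.map κ).prod = -1 := by linarith
          rw [ihC hev hchi' x a hx ha hxs hs, mul_comm (f x), ← mul_assoc, hff a ha, one_mul]
      · intro hodd hchi x y hx hy hxs hys
        rw [hmul] at hchi
        rcases quadraticChar_dichotomy ha with hs | hs
        · rw [hs, one_mul] at hchi
          rw [ihD hodd hchi y hy hys, hsame a x ha hx (by rw [hs, hxs])]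
        · rw [hs] at hchi
          have hchi' : quadraticChar F (l.map κ).prod = 1 := by linarith
          rw [ihB hodd hchi' x hx hxs, hsame a y ha hy (by rw [hs, hys]), mul_comm]
      · intro hev hchi y hy hys
        rw [hmul] at hchi
        rcases quadraticChar_dichotomy ha with hs | hs
        · rw [hs, one_mul] at hchi
          rw [ihC hev hchi a y ha hy hs hys, ← mul_assoc, hff a ha, one_mul]
        · rw [hs] at hchi
          have hchi' : quadraticChar F (l.map κ).prod = 1 := by linarith
          rw [ihA hev hchi', mul_one]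
          exact hsame a y ha hy (by rw [hs, hys])
  intro l hl hev hsq
  have hne : (l.map κ).prod ≠ 0 := by
    intro h0
    rw [List.prod_eq_zero_iff] at h0
    obtain ⟨x, hx, hx0⟩ := List.mem_map.1 h0
    exact hl x hx hx0
  exact (key l hl).1 hev ((quadraticChar_one_iff_isSquare hne).2 hsq)

end ListLemma

section Concrete

variable {ι : Type} [Fintype ι] [DecidableEq ι] {F : Type*} [Field F]

theorem polarVec_dot' (Q : QuadraticForm F (ι → F)) (v x : ι → F) :
    Cfsg.polarVec ⇑Q v ⬝ᵥ x = polar ⇑Q v x := by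
  have h := LinearMap.pi_apply_eq_sum_univ (polarBilin Q v) x
  rw [polarBilin_apply_apply] at h
  rw [h, dotProduct]
  refine Finset.sum_congr rfl fun j _ => ?_
  rw [Cfsg.polarVec, smul_eq_mul, mul_comm, polarBilin_apply_apply]
  congr 2
  ext k
  simp [Pi.single_apply, eq_comm]

theorem reflMatrix_mulVec (Q : QuadraticForm F (ι → F)) (v x : ι → F) :
    (Cfsg.reflectionMatrix ⇑Q v).mulVec x = x - ((Q v)⁻¹ * polar ⇑Q v x) • v := by
  rw [Cfsg.reflectionMatrix, Matrix.sub_mulVec, Matrix.one_mulVec, Matrix.smul_mulVec,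
    Matrix.vecMulVec_mulVec, polarVec_dot', op_smul_eq_smul, smul_smul]

theorem toLin'_reflMatrix (Q : QuadraticForm F (ι → F)) (v : ι → F) :
    Matrix.toLin' (Cfsg.reflectionMatrix ⇑Q v) = qrefl Q v := by
  apply LinearMap.ext
  intro x
  rw [Matrix.toLin'_apply, reflMatrix_mulVec, qrefl_apply]

theorem toLin'_prod_reflMatrix (Q : QuadraticForm F (ι → F)) (vs : List (ι → F)) :
    Matrix.toLin' (vs.map (fun v => Cfsg.reflectionMatrix ⇑Q v)).prod = (vs.map (qrefl Q)).prod := by
  induction vs with
  | nil =>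
    rw [List.map_nil, List.prod_nil, Matrix.toLin'_one]
    rfl
  | cons v vs ih =>
    rw [List.map_cons, List.prod_cons, Matrix.toLin'_mul, ih, toLin'_reflMatrix, List.map_cons,
      List.prod_cons]
    rfl

theorem reflMatrix_mul_self (Q : QuadraticForm F (ι → F)) (v : ι → F) (hv : Q v ≠ 0) :
    Cfsg.reflectionMatrix ⇑Q v * Cfsg.reflectionMatrix ⇑Q v = 1 := by
  apply Matrix.toLin'.injective
  rw [Matrix.toLin'_mul, toLin'_reflMatrix, Matrix.toLin'_one]
  exact qrefl_mul_self Q v hv

open Classical in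
/-- the reflection in `v` as an element of the isometry group (the identity if `Q v = 0`) -/
noncomputable def reflElt (Q : QuadraticForm F (ι → F)) (v : ι → F) :
    ↥(Cfsg.isometryGroup F ⇑Q) :=
  if hv : Q v ≠ 0 then
    ⟨⟨Cfsg.reflectionMatrix ⇑Q v, Cfsg.reflectionMatrix ⇑Q v, reflMatrix_mul_self Q v hv,
      reflMatrix_mul_self Q v hv⟩, (mem_isometryGroup_iff _ _).2 fun u => by
        show Q ((Cfsg.reflectionMatrix ⇑Q v).mulVec u) = Q u
        rw [← Matrix.toLin'_apply, toLin'_reflMatrix]
        exact qrefl_isom Q v hv u⟩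
  else 1

theorem reflElt_coe (Q : QuadraticForm F (ι → F)) (v : ι → F) (hv : Q v ≠ 0) :
    ((reflElt Q v : Matrix.GeneralLinearGroup ι F) : Matrix ι ι F) =
      Cfsg.reflectionMatrix ⇑Q v := by
  rw [reflElt, dif_pos hv]

theorem isom_ext (Q : (ι → F) → F) (g h : ↥(Cfsg.isometryGroup F Q))
    (hgh : ((g : Matrix.GeneralLinearGroup ι F) : Matrix ι ι F) =
      ((h : Matrix.GeneralLinearGroup ι F) : Matrix ι ι F)) : g = h :=
  Subtype.ext (Units.ext hgh)

theorem coe_prod_reflElt (Q : QuadraticForm F (ι → F)) (vs : List (ι → F))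
    (hvs : ∀ v ∈ vs, Q v ≠ 0) :
    ((((vs.map (reflElt Q)).prod : ↥(Cfsg.isometryGroup F ⇑Q)) :
      Matrix.GeneralLinearGroup ι F) : Matrix ι ι F) =
      (vs.map (fun v => Cfsg.reflectionMatrix ⇑Q v)).prod := by
  induction vs with
  | nil => simp
  | cons v vs ih =>
    rw [List.map_cons, List.prod_cons, Subgroup.coe_mul, Units.val_mul,
      ih (fun u hu => hvs u (List.mem_cons_of_mem v hu)), reflElt_coe Q v (hvs v List.mem_cons_self),
      List.map_cons, List.prod_cons]

theorem reflElt_mul_self (Q : QuadraticForm F (ι → F)) (v : ι → F) :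
    reflElt Q v * reflElt Q v = 1 := by
  by_cases hv : Q v ≠ 0
  · apply isom_ext
    rw [Subgroup.coe_mul, Units.val_mul, reflElt_coe Q v hv, reflMatrix_mul_self Q v hv]
    rfl
  · rw [reflElt, dif_neg hv, one_mul]

theorem reflElt_inv (Q : QuadraticForm F (ι → F)) (v : ι → F) : (reflElt Q v)⁻¹ = reflElt Q v :=
  inv_eq_of_mul_eq_one_left (reflElt_mul_self Q v)

theorem prod_reflElt_inv (Q : QuadraticForm F (ι → F)) (vs : List (ι → F)) :
    ((vs.map (reflElt Q)).prod)⁻¹ = (vs.reverse.map (reflElt Q)).prod := by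
  rw [List.prod_inv_reverse, List.map_map, List.map_reverse]
  congr 2
  apply List.map_congr_left
  intro v _
  exact reflElt_inv Q v

/-- every isometry is a product of reflections (characteristic not two) -/
theorem exists_refl_list (h2 : (2 : F) ≠ 0) (Q : QuadraticForm F (ι → F))
    (hQ : (polarBilin Q).Nondegenerate) (g : ↥(Cfsg.isometryGroup F ⇑Q)) :
    ∃ vs : List (ι → F), (∀ v ∈ vs, Q v ≠ 0) ∧ g = (vs.map (reflElt Q)).prod := by
  obtain ⟨vs, hvs, h⟩ := exists_refl_factorization h2 _ (ι → F) Q hQ rfl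
    (Matrix.toLin' ((g : Matrix.GeneralLinearGroup ι F) : Matrix ι ι F)) (fun x => by
      rw [Matrix.toLin'_apply]
      exact (mem_isometryGroup_iff _ _).1 g.2 x)
  refine ⟨vs, hvs, ?_⟩
  apply isom_ext
  rw [coe_prod_reflElt Q vs hvs]
  apply Matrix.toLin'.injective
  rw [h, toLin'_prod_reflMatrix]

/-- the products of an even number of reflections whose norms multiply to a square -/
noncomputable def evenSquareSubgroup (Q : QuadraticForm F (ι → F)) :
    Subgroup ↥(Cfsg.isometryGroup F ⇑Q) where
  carrier := {g | ∃ vs : List (ι → F), (∀ v ∈ vs, Q v ≠ 0) ∧ g = (vs.map (reflElt Q)).prod ∧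
    Even vs.length ∧ IsSquare (vs.map (fun v => Q v)).prod}
  one_mem' := ⟨[], by simp, by simp, by simp, by simp⟩
  mul_mem' := by
    rintro a b ⟨vs, hvs, ha, hev, hsq⟩ ⟨ws, hws, hb, hew, hsw⟩
    refine ⟨vs ++ ws, ?_, ?_, ?_, ?_⟩
    · intro v hv
      rcases List.mem_append.1 hv with h | h
      · exact hvs v h
      · exact hws v h
    · rw [List.map_append, List.prod_append, ha, hb]
    · rw [List.length_append]
      exact hev.add hew
    · rw [List.map_append, List.prod_append]
      exact hsq.mul hsw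
  inv_mem' := by
    rintro a ⟨vs, hvs, ha, hev, hsq⟩
    refine ⟨vs.reverse, ?_, ?_, ?_, ?_⟩
    · intro v hv
      exact hvs v (List.mem_reverse.1 hv)
    · rw [ha, prod_reflElt_inv]
    · rw [List.length_reverse]
      exact hev
    · rw [List.map_reverse, List.prod_reverse]
      exact hsq

theorem omega_le_evenSquare (h2 : (2 : F) ≠ 0) (Q : QuadraticForm F (ι → F))
    (hQ : (polarBilin Q).Nondegenerate) : Cfsg.Omega F ⇑Q ≤ evenSquareSubgroup Q := by
  show commutator _ ≤ _
  rw [commutator_def, Subgroup.commutator_le]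
  intro g₁ _ g₂ _
  obtain ⟨vs, hvs, h1⟩ := exists_refl_list h2 Q hQ g₁
  obtain ⟨ws, hws, h3⟩ := exists_refl_list h2 Q hQ g₂
  refine ⟨vs ++ ws ++ vs.reverse ++ ws.reverse, ?_, ?_, ?_, ?_⟩
  · intro v hv
    simp only [List.mem_append, List.mem_reverse] at hv
    rcases hv with ((h | h) | h) | h
    · exact hvs v h
    · exact hws v h
    · exact hvs v h
    · exact hws v h
  · rw [commutatorElement_def, List.map_append, List.map_append, List.map_append, List.prod_append,
      List.prod_append, List.prod_append, ← prod_reflElt_inv, ← prod_reflElt_inv, ← h1, ← h3]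
  · simp only [List.length_append, List.length_reverse]
    exact ⟨vs.length + ws.length, by ring⟩
  · simp only [List.map_append, List.prod_append, List.map_reverse, List.prod_reverse]
    exact ⟨(vs.map (fun v => Q v)).prod * (ws.map (fun v => Q v)).prod, by ring⟩

/-- conjugating a reflection by an isometry -/
theorem reflElt_conj (Q : QuadraticForm F (ι → F)) (h : ↥(Cfsg.isometryGroup F ⇑Q)) (w : ι → F)
    (hw : Q w ≠ 0) :
    h * reflElt Q w * h⁻¹ =
      reflElt Q (((h : Matrix.GeneralLinearGroup ι F) : Matrix ι ι F).mulVec w) := by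
  have hisom : ∀ x, Q (((h : Matrix.GeneralLinearGroup ι F) : Matrix ι ι F).mulVec x) = Q x :=
    (mem_isometryGroup_iff _ _).1 h.2
  have hw' : Q (((h : Matrix.GeneralLinearGroup ι F) : Matrix ι ι F).mulVec w) ≠ 0 := by
    rw [hisom]
    exact hw
  rw [mul_inv_eq_iff_eq_mul]
  apply isom_ext
  rw [Subgroup.coe_mul, Units.val_mul, Subgroup.coe_mul, Units.val_mul, reflElt_coe Q w hw,
    reflElt_coe Q _ hw']
  apply Matrix.toLin'.injective
  rw [Matrix.toLin'_mul, Matrix.toLin'_mul, toLin'_reflMatrix, toLin'_reflMatrix]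
  apply LinearMap.ext
  intro x
  have h3 := qrefl_conj Q (Matrix.toLin' ((h : Matrix.GeneralLinearGroup ι F) : Matrix ι ι F))
    (fun x => by rw [Matrix.toLin'_apply]; exact hisom x) w x
  rw [Matrix.toLin'_apply, Matrix.toLin'_apply, Matrix.toLin'_apply] at h3
  rw [LinearMap.comp_apply, LinearMap.comp_apply, Matrix.toLin'_apply, Matrix.toLin'_apply]
  exact h3

theorem reflElt_mulVec (Q : QuadraticForm F (ι → F)) (v : ι → F) (hv : Q v ≠ 0) (x : ι → F) :
    ((reflElt Q v : Matrix.GeneralLinearGroup ι F) : Matrix ι ι F).mulVec x = qrefl Q v x := by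
  rw [reflElt_coe Q v hv, ← Matrix.toLin'_apply, toLin'_reflMatrix]

theorem reflElt_smul (Q : QuadraticForm F (ι → F)) (v : ι → F) (c : F) (hc : c ≠ 0)
    (hv : Q v ≠ 0) : reflElt Q (c • v) = reflElt Q v := by
  have hcv : Q (c • v) ≠ 0 := by
    rw [qf_smul]
    exact mul_ne_zero (mul_ne_zero hc hc) hv
  apply isom_ext
  rw [reflElt_coe Q _ hcv, reflElt_coe Q v hv]
  apply Matrix.toLin'.injective
  rw [toLin'_reflMatrix, toLin'_reflMatrix, qrefl_smul Q v c hc hv]

/-- two reflections whose norms differ by a square are conjugate, so their product is a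
commutator -/
theorem reflElt_mul_mem_commutator (h2 : (2 : F) ≠ 0) (Q : QuadraticForm F (ι → F))
    (u v : ι → F) (hu : Q u ≠ 0) (hv : Q v ≠ 0) (hsq : IsSquare (Q u * Q v)) :
    reflElt Q u * reflElt Q v ∈ commutator ↥(Cfsg.isometryGroup F ⇑Q) := by
  obtain ⟨s, hs⟩ := hsq
  have hs0 : s ≠ 0 := by
    rintro rfl
    rw [mul_zero] at hs
    exact mul_ne_zero hu hv hs
  have hc0 : s / Q v ≠ 0 := div_ne_zero hs0 hv
  have hQv' : Q ((s / Q v) • v) = Q u := by
    rw [qf_smul]
    field_simp
    linear_combination -hs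
  have hv' : Q ((s / Q v) • v) ≠ 0 := by
    rw [hQv']
    exact hu
  rw [← reflElt_smul Q v (s / Q v) hc0 hv]
  obtain ⟨v', hv'def⟩ : ∃ v', v' = (s / Q v) • v := ⟨_, rfl⟩
  rw [← hv'def] at hQv' hv' ⊢
  have key : ∀ h : ↥(Cfsg.isometryGroup F ⇑Q), h * reflElt Q u * h⁻¹ = reflElt Q v' →
      reflElt Q u * reflElt Q v' ∈ commutator ↥(Cfsg.isometryGroup F ⇑Q) := by
    intro h hh
    have : reflElt Q u * reflElt Q v' = ⁅reflElt Q u, h⁆ := by
      rw [commutatorElement_def, reflElt_inv, ← hh]
      group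
    rw [this]
    exact Subgroup.commutator_mem_commutator (Subgroup.mem_top _) (Subgroup.mem_top _)
  by_cases hne : Q (u - v') ≠ 0
  · apply key (reflElt Q (u - v'))
    rw [reflElt_conj Q _ u hu, reflElt_mulVec Q _ hne, qrefl_sub Q v' u hQv'.symm hne]
  · have h0 : Q (u - v') = 0 := by
      by_contra h
      exact hne h
    have hne' : Q (u + v') ≠ 0 := by
      have h := qf_sub_add Q v' u hQv'.symm
      rw [h0, zero_add] at h
      rw [h]
      have h4 : (4 : F) = 2 * 2 := by norm_num
      rw [h4]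
      exact mul_ne_zero (mul_ne_zero h2 h2) hv'
    apply key (reflElt Q (u + v'))
    rw [reflElt_conj Q _ u hu, reflElt_mulVec Q _ hne', qrefl_add Q v' u hQv'.symm hne']
    have := reflElt_smul Q v' (-1) (by norm_num) hv'
    rw [neg_one_smul] at this
    exact this

/-- the spinor norm criterion for `Ω` -/
theorem mem_Omega_iff [Fintype F] (h2 : (2 : F) ≠ 0) (Q : QuadraticForm F (ι → F))
    (hQ : (polarBilin Q).Nondegenerate) (g : ↥(Cfsg.isometryGroup F ⇑Q)) (vs : List (ι → F))
    (hvs : ∀ v ∈ vs, Q v ≠ 0)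
    (hg : ((g : Matrix.GeneralLinearGroup ι F) : Matrix ι ι F) =
      (vs.map (fun v => Cfsg.reflectionMatrix ⇑Q v)).prod) :
    g ∈ Cfsg.Omega F ⇑Q ↔ (Even vs.length ∧ IsSquare (vs.map (fun v => Q v)).prod) := by
  have hg' : g = (vs.map (reflElt Q)).prod := by
    apply isom_ext
    rw [hg, coe_prod_reflElt Q vs hvs]
  constructor
  · intro hmem
    obtain ⟨ws, hws, hgw, hew, hsw⟩ := omega_le_evenSquare h2 Q hQ hmem
    have heq : (vs.map (qrefl Q)).prod = (ws.map (qrefl Q)).prod := by
      rw [← toLin'_prod_reflMatrix, ← toLin'_prod_reflMatrix, ← hg, hgw, coe_prod_reflElt Q ws hws]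
    obtain ⟨hpar, hsq⟩ := spinor_wd2 h2 Q hQ vs ws hvs hws heq
    refine ⟨hpar.2 hew, ?_⟩
    obtain ⟨s, hs⟩ := hsw
    obtain ⟨t, ht⟩ := hsq
    have hs' : (ws.map (fun v => Q v)).prod = s * s := hs
    have ht' : (vs.map (fun v => Q v)).prod * (ws.map (fun v => Q v)).prod = t * t := ht
    have hs0 : s ≠ 0 := by
      rintro rfl
      rw [mul_zero, List.prod_eq_zero_iff] at hs'
      obtain ⟨v, hv, hv0⟩ := List.mem_map.1 hs'
      exact hws v hv hv0
    refine ⟨t / s, ?_⟩
    rw [hs'] at ht'
    field_simp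
    linear_combination ht'
  · rintro ⟨hev, hsq⟩
    show g ∈ commutator _
    rw [← Abelianization.ker_of, MonoidHom.mem_ker, hg', map_list_prod, List.map_map]
    apply list_prod_eq_one_of_even_square
      (fun v => Abelianization.of (reflElt Q v)) (fun v => Q v) ?_ vs hvs hev hsq
    intro x y hx hy hxy
    rw [← map_mul, ← MonoidHom.mem_ker, Abelianization.ker_of]
    exact reflElt_mul_mem_commutator h2 Q x y hx hy hxy

end Concrete

end Cfsg.Agent.Helper16
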