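import Mathlib
import Cfsg.Agent.Helper16.SpinorGroup
import Cfsg.Agent.Helper16.StdForms
import Cfsg.Agent.Helper16.Gram

set_option autoImplicit false

namespace Cfsg.Agent.Helper16

open QuadraticMap

section Abstract

variable {F : Type*} [Field F] {V : Type*} [AddCommGroup V] [Module F V]

/-- a product of reflections in pairwise orthogonal vectors negates each of them -/
theorem prod_qrefl_neg (Q : QuadraticForm F V) (vs : List V) (hvs : ∀ v ∈ vs, Q v ≠ 0)
    (hp : vs.Pairwise (fun u v => polar Q u v = 0)) (x : V) (hx : x ∈ vs) :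
    (vs.map (qrefl Q)).prod x = -x := by
  induction vs with
  | nil => simp at hx
  | cons a l ih =>
    rw [List.pairwise_cons] at hp
    rw [List.map_cons, List.prod_cons, Module.End.mul_apply]
    rcases List.mem_cons.1 hx with h | h
    · subst h
      rw [prod_qrefl_fix Q l x (fun v hv => by rw [polar_comm]; exact hp.1 v hv),
        qrefl_self Q x (hvs x List.mem_cons_self)]
    · rw [ih (fun v hv => hvs v (List.mem_cons_of_mem a hv)) hp.2 h, map_neg,
        qrefl_of_orth Q a x (hp.1 x h)]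

end Abstract

section NumberTheory

theorem isSquare_neg_one_pow_iff' {F : Type*} [Field F] [Fintype F] {q : ℕ}
    (hF : Fintype.card F = q) (hq : Odd q) (i : ℕ) :
    IsSquare ((-1 : F) ^ i) ↔ q ^ i % 4 = 1 := by
  rw [isSquare_neg_one_pow_iff hF hq i]
  obtain ⟨k, rfl⟩ := hq
  have h1 : i * (2 * k + 1 - 1) / 2 = i * k := by
    rw [Nat.add_sub_cancel, mul_left_comm, Nat.mul_div_cancel_left _ (by norm_num : 0 < 2)]
  rw [h1, Nat.even_mul]
  rcases Nat.even_or_odd k with hk | hk
  · obtain ⟨t, rfl⟩ := hk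
    have h3 : (2 * (t + t) + 1) ^ i % 4 = 1 := by
      rw [Nat.pow_mod]
      have : (2 * (t + t) + 1) % 4 = 1 := by omega
      rw [this, one_pow]
      norm_num
    simp only [h3, iff_true]
    right
    exact ⟨t, rfl⟩
  · obtain ⟨t, rfl⟩ := hk
    have hk' : ¬ Even (2 * t + 1) := by
      rw [Nat.not_even_iff_odd]
      exact ⟨t, rfl⟩
    have h3 : (2 * (2 * t + 1) + 1) ^ i % 4 = 3 ^ i % 4 := by
      rw [Nat.pow_mod]
      have : (2 * (2 * t + 1) + 1) % 4 = 3 := by omega
      rw [this]
    rw [h3]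
    simp only [hk', or_false]
    rcases Nat.even_or_odd i with hi | hi
    · simp only [hi, true_iff]
      obtain ⟨s, rfl⟩ := hi
      rw [← two_mul, pow_mul, Nat.pow_mod]
      norm_num
    · have hi' : ¬ Even i := Nat.not_even_iff_odd.2 hi
      simp only [hi', false_iff]
      obtain ⟨s, rfl⟩ := hi
      rw [pow_succ, pow_mul, Nat.mul_mod, Nat.pow_mod]
      norm_num

end NumberTheory

section Pairs

variable {ι : Type} [Fintype ι] [DecidableEq ι] {F : Type*} [Field F]

/-- the product of the reflections in `e_a + e_b` and `e_a - e_b`, for a hyperbolic pair of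
coordinates, negates these two coordinates -/
theorem reflMatrix_pair (h2 : (2 : F) ≠ 0) (Q : QuadraticForm F (ι → F)) (a b : ι) (hab : a ≠ b)
    (hpa : ∀ x, polar ⇑Q (Pi.single a 1) x = x b) (hpb : ∀ x, polar ⇑Q (Pi.single b 1) x = x a)
    (hQa : Q (Pi.single a 1) = 0) (hQb : Q (Pi.single b 1) = 0) :
    Q (Pi.single a 1 + Pi.single b 1) = 1 ∧ Q (Pi.single a 1 - Pi.single b 1) = -1 ∧
      Cfsg.reflectionMatrix ⇑Q (Pi.single a 1 + Pi.single b 1) *
        Cfsg.reflectionMatrix ⇑Q (Pi.single a 1 - Pi.single b 1) =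
        Matrix.diagonal (fun k => if k = a ∨ k = b then (-1 : F) else 1) := by
  have hab1 : polar ⇑Q (Pi.single a 1) (Pi.single b 1) = 1 := by
    rw [hpa, Pi.single_eq_same]
  have h1 : Q (Pi.single a 1 + Pi.single b 1) = 1 := by
    rw [qf_add, hQa, hQb, hab1]
    ring
  have h3 : Q (Pi.single a 1 - Pi.single b 1) = -1 := by
    have h := qf_lin2 Q 1 (-1) (Pi.single a (1 : F)) (Pi.single b (1 : F))
    rw [one_smul, neg_smul, one_smul, ← sub_eq_add_neg] at h
    rw [h, hQa, hQb, hab1]
    ring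
  refine ⟨h1, h3, ?_⟩
  apply Matrix.toLin'.injective
  apply LinearMap.ext
  intro x
  rw [Matrix.toLin'_mul, LinearMap.comp_apply, toLin'_reflMatrix, toLin'_reflMatrix, qrefl_apply,
    qrefl_apply, h1, h3, Matrix.toLin'_apply]
  have hp1 : ∀ y, polar ⇑Q (Pi.single a 1 + Pi.single b 1) y = y b + y a := by
    intro y
    rw [polar_add_left, hpa, hpb]
  have hp2 : ∀ y, polar ⇑Q (Pi.single a 1 - Pi.single b 1) y = y b - y a := by
    intro y
    rw [polar_sub_left, hpa, hpb]
  rw [hp1, hp2]
  funext k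
  rw [Matrix.mulVec_diagonal]
  have hba : b ≠ a := fun h => hab h.symm
  by_cases hka : k = a
  · subst hka
    simp [Pi.single_apply, hab, hba]
  · by_cases hkb : k = b
    · subst hkb
      simp [Pi.single_apply, hab, hba]
    · simp [Pi.single_apply, hka, hkb]

/-- the involution negating the first `i` hyperbolic pairs of coordinates as a product of
reflections -/
theorem exists_refl_list_negPairs (h2 : (2 : F) ≠ 0) (Q : QuadraticForm F (ι → F)) {m : ℕ}
    (pa pb : Fin m → ι) (hinja : Function.Injective pa) (hinjb : Function.Injective pb)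
    (hdisj : ∀ j j', pa j ≠ pb j')
    (hpa : ∀ j x, polar ⇑Q (Pi.single (pa j) 1) x = x (pb j))
    (hpb : ∀ j x, polar ⇑Q (Pi.single (pb j) 1) x = x (pa j))
    (hQa : ∀ j, Q (Pi.single (pa j) 1) = 0) (hQb : ∀ j, Q (Pi.single (pb j) 1) = 0) :
    ∀ i, i ≤ m → ∃ vs : List (ι → F), (∀ v ∈ vs, Q v ≠ 0) ∧ vs.length = 2 * i ∧
      (vs.map (fun v => Q v)).prod = (-1) ^ i ∧
      (vs.map (fun v => Cfsg.reflectionMatrix ⇑Q v)).prod =
        Matrix.diagonal (fun k => if ∃ j : Fin m, (j : ℕ) < i ∧ (k = pa j ∨ k = pb j)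
          then (-1 : F) else 1) := by
  intro i
  induction i with
  | zero =>
    intro _
    refine ⟨[], by simp, by simp, by simp, ?_⟩
    simp
  | succ i ih =>
    intro hi
    obtain ⟨vs, hvs, hlen, hprod, hmat⟩ := ih (by omega)
    obtain ⟨h1, h3, h4⟩ := reflMatrix_pair h2 Q (pa ⟨i, by omega⟩) (pb ⟨i, by omega⟩)
      (hdisj _ _) (hpa _) (hpb _) (hQa _) (hQb _)
    refine ⟨vs ++ [Pi.single (pa ⟨i, by omega⟩) 1 + Pi.single (pb ⟨i, by omega⟩) 1,
      Pi.single (pa ⟨i, by omega⟩) 1 - Pi.single (pb ⟨i, by omega⟩) 1], ?_, ?_, ?_, ?_⟩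
    · intro v hv
      rcases List.mem_append.1 hv with h | h
      · exact hvs v h
      · rcases List.mem_cons.1 h with h | h
        · rw [h, h1]
          exact one_ne_zero
        · rw [List.mem_singleton.1 h, h3]
          exact neg_ne_zero.2 one_ne_zero
    · rw [List.length_append, hlen]
      simp
      ring
    · rw [List.map_append, List.prod_append, hprod]
      simp only [List.map_cons, List.map_nil, List.prod_cons, List.prod_nil, h1, h3]
      ring
    · rw [List.map_append, List.prod_append, hmat]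
      simp only [List.map_cons, List.map_nil, List.prod_cons, List.prod_nil, mul_one]
      rw [h4, Matrix.diagonal_mul_diagonal]
      congr 1
      funext k
      by_cases hk : k = pa ⟨i, by omega⟩ ∨ k = pb ⟨i, by omega⟩
      · have hnot : ¬ ∃ j : Fin m, (j : ℕ) < i ∧ (k = pa j ∨ k = pb j) := by
          rintro ⟨j, hj, hkj⟩
          rcases hk with hk | hk <;> rcases hkj with hkj | hkj
          · have := hinja (hk.symm.trans hkj)
            rw [← this] at hj
            simp at hj
          · exact hdisj _ _ (hk.symm.trans hkj)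
          · exact hdisj _ _ (hkj.symm.trans hk)
          · have := hinjb (hk.symm.trans hkj)
            rw [← this] at hj
            simp at hj
        have hyes : ∃ j : Fin m, (j : ℕ) < i + 1 ∧ (k = pa j ∨ k = pb j) :=
          ⟨⟨i, by omega⟩, Nat.lt_succ_self i, hk⟩
        rw [if_neg hnot, if_pos hk, if_pos hyes, one_mul]
      · rw [if_neg hk, mul_one]
        by_cases hex : ∃ j : Fin m, (j : ℕ) < i ∧ (k = pa j ∨ k = pb j)
        · have hyes : ∃ j : Fin m, (j : ℕ) < i + 1 ∧ (k = pa j ∨ k = pb j) := by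
            obtain ⟨j, hj, hkj⟩ := hex
            exact ⟨j, by omega, hkj⟩
          rw [if_pos hex, if_pos hyes]
        · have hno : ¬ ∃ j : Fin m, (j : ℕ) < i + 1 ∧ (k = pa j ∨ k = pb j) := by
            rintro ⟨j, hj, hkj⟩
            by_cases hji : (j : ℕ) < i
            · exact hex ⟨j, hji, hkj⟩
            · have hj' : j = ⟨i, by omega⟩ := Fin.ext (by simp; omega)
              rw [hj'] at hkj
              exact hk hkj
          rw [if_neg hex, if_neg hno]

/-- the involution negating the first `i` hyperbolic pairs lies in `Ω` iff `(-1)^i` is a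
square -/
theorem negPairs_mem_Omega_iff [Fintype F] (h2 : (2 : F) ≠ 0) (Q : QuadraticForm F (ι → F))
    (hQ : (polarBilin Q).Nondegenerate) {m : ℕ}
    (pa pb : Fin m → ι) (hinja : Function.Injective pa) (hinjb : Function.Injective pb)
    (hdisj : ∀ j j', pa j ≠ pb j')
    (hpa : ∀ j x, polar ⇑Q (Pi.single (pa j) 1) x = x (pb j))
    (hpb : ∀ j x, polar ⇑Q (Pi.single (pb j) 1) x = x (pa j))
    (hQa : ∀ j, Q (Pi.single (pa j) 1) = 0) (hQb : ∀ j, Q (Pi.single (pb j) 1) = 0)
    (i : ℕ) (hi : i ≤ m) (D : Matrix ι ι F)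
    (hD : D = Matrix.diagonal (fun k => if ∃ j : Fin m, (j : ℕ) < i ∧ (k = pa j ∨ k = pb j)
          then (-1 : F) else 1)) :
    (∃ g : ↥(Cfsg.isometryGroup F ⇑Q), g ∈ Cfsg.Omega F ⇑Q ∧
      ((g : Matrix.GeneralLinearGroup ι F) : Matrix ι ι F) = D) ↔ IsSquare ((-1 : F) ^ i) := by
  obtain ⟨vs, hvs, hlen, hprod, hmat⟩ :=
    exists_refl_list_negPairs h2 Q pa pb hinja hinjb hdisj hpa hpb hQa hQb i hi
  have hg₀ := coe_prod_reflElt Q vs hvs
  have hiff := mem_Omega_iff h2 Q hQ _ vs hvs hg₀
  rw [hprod, hlen] at hiff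
  constructor
  · rintro ⟨g, hg, hgm⟩
    have : g = (vs.map (reflElt Q)).prod := by
      apply isom_ext
      rw [hgm, hg₀, hmat, hD]
    rw [this, hiff] at hg
    exact hg.2
  · intro h
    exact ⟨_, hiff.2 ⟨⟨i, by ring⟩, h⟩, by rw [hg₀, hmat, hD]⟩

end Pairs

end Cfsg.Agent.Helper16
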