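import Cfsg.Agent.Helper16.SimHoms

set_option autoImplicit false
open Cfsg

namespace Cfsg.Agent.Helper16

open QuadraticMap

section SpinorHom
variable {F : Type*} [Field F] [Fintype F] {ι : Type} [Fintype ι] [DecidableEq ι]

theorem prod_Q_ne_zero (Q : QuadraticForm F (ι → F)) (vs : List (ι → F))
    (hvs : ∀ v ∈ vs, Q v ≠ 0) : (vs.map (fun v => Q v)).prod ≠ 0 := by
  intro h0
  rw [List.prod_eq_zero_iff] at h0
  obtain ⟨v, hv, hv0⟩ := List.mem_map.1 h0
  exact hvs v hv hv0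

/-- two factorizations have the same parity and spinor norm -/
theorem spinor_sq_iff (h2 : (2 : F) ≠ 0) (Q : QuadraticForm F (ι → F))
    (hQ : (polarBilin Q).Nondegenerate) (vs ws : List (ι → F)) (hvs : ∀ v ∈ vs, Q v ≠ 0)
    (hws : ∀ v ∈ ws, Q v ≠ 0) (h : (vs.map (reflElt Q)).prod = (ws.map (reflElt Q)).prod) :
    (Even vs.length ↔ Even ws.length) ∧
      (IsSquare (vs.map (fun v => Q v)).prod ↔ IsSquare (ws.map (fun v => Q v)).prod) := by
  have heq : (vs.map (qrefl Q)).prod = (ws.map (qrefl Q)).prod := by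
    rw [← toLin'_prod_reflMatrix, ← toLin'_prod_reflMatrix, ← coe_prod_reflElt Q vs hvs,
      ← coe_prod_reflElt Q ws hws, h]
  obtain ⟨hpar, hsq⟩ := spinor_wd2 h2 Q hQ vs ws hvs hws heq
  refine ⟨hpar, ?_⟩
  have hv0 := prod_Q_ne_zero Q vs hvs
  have hw0 := prod_Q_ne_zero Q ws hws
  obtain ⟨t, ht⟩ := hsq
  have ht' : (vs.map (fun v => Q v)).prod * (ws.map (fun v => Q v)).prod = t * t := ht
  constructor
  · rintro ⟨s, hs⟩
    have hs0 : s ≠ 0 := by
      rintro rfl
      rw [mul_zero] at hs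
      exact hv0 hs
    refine ⟨t / s, ?_⟩
    rw [div_mul_div_comm, eq_div_iff (mul_ne_zero hs0 hs0)]
    linear_combination ht' - (ws.map (fun v => Q v)).prod * hs
  · rintro ⟨s, hs⟩
    have hs0 : s ≠ 0 := by
      rintro rfl
      rw [mul_zero] at hs
      exact hw0 hs
    refine ⟨t / s, ?_⟩
    rw [div_mul_div_comm, eq_div_iff (mul_ne_zero hs0 hs0)]
    linear_combination ht' - (vs.map (fun v => Q v)).prod * hs

open Classical in
/-- the spinor norm of an isometry, as an element of `C₂` -/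
noncomputable def spinorFun (h2 : (2 : F) ≠ 0) (Q : QuadraticForm F (ι → F))
    (hQ : (polarBilin Q).Nondegenerate) (g : ↥(isometryGroup F ⇑Q)) : Multiplicative (ZMod 2) :=
  Multiplicative.ofAdd (if IsSquare ((Classical.choose (exists_refl_list h2 Q hQ g)).map
    (fun v => Q v)).prod then (0 : ZMod 2) else 1)

open Classical in
theorem spinorFun_eq (h2 : (2 : F) ≠ 0) (Q : QuadraticForm F (ι → F))
    (hQ : (polarBilin Q).Nondegenerate) (vs : List (ι → F)) (hvs : ∀ v ∈ vs, Q v ≠ 0) :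
    spinorFun h2 Q hQ ((vs.map (reflElt Q)).prod) =
      Multiplicative.ofAdd (if IsSquare (vs.map (fun v => Q v)).prod then (0 : ZMod 2) else 1) := by
  have hc := Classical.choose_spec (exists_refl_list h2 Q hQ ((vs.map (reflElt Q)).prod))
  have h := (spinor_sq_iff h2 Q hQ _ vs hc.1 hvs hc.2.symm).2
  unfold spinorFun
  by_cases hsq : IsSquare (vs.map (fun v => Q v)).prod
  · rw [if_pos hsq, if_pos (h.2 hsq)]
  · rw [if_neg hsq, if_neg (fun h' => hsq (h.1 h'))]

theorem spinorFun_mul (h2 : (2 : F) ≠ 0) (Q : QuadraticForm F (ι → F))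
    (hQ : (polarBilin Q).Nondegenerate) (a b : ↥(isometryGroup F ⇑Q)) :
    spinorFun h2 Q hQ (a * b) = spinorFun h2 Q hQ a * spinorFun h2 Q hQ b := by
  classical
  obtain ⟨vs, hvs, rfl⟩ := exists_refl_list h2 Q hQ a
  obtain ⟨ws, hws, rfl⟩ := exists_refl_list h2 Q hQ b
  have hvw : ∀ v ∈ vs ++ ws, Q v ≠ 0 := by
    intro v hv
    rcases List.mem_append.1 hv with h | h
    · exact hvs v h
    · exact hws v h
  rw [← List.prod_append, ← List.map_append, spinorFun_eq h2 Q hQ _ hvw,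
    spinorFun_eq h2 Q hQ _ hvs, spinorFun_eq h2 Q hQ _ hws, List.map_append, List.prod_append]
  have h := (sqHom F).map_mul (Units.mk0 _ (prod_Q_ne_zero Q vs hvs))
    (Units.mk0 _ (prod_Q_ne_zero Q ws hws))
  rw [sqHom_apply, sqHom_apply, sqHom_apply] at h
  simp only [Units.val_mul, Units.val_mk0] at h
  exact h

/-- the spinor norm homomorphism -/
noncomputable def spinorHom (h2 : (2 : F) ≠ 0) (Q : QuadraticForm F (ι → F))
    (hQ : (polarBilin Q).Nondegenerate) : ↥(isometryGroup F ⇑Q) →* Multiplicative (ZMod 2) :=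
  MonoidHom.mk' (spinorFun h2 Q hQ) (spinorFun_mul h2 Q hQ)

theorem spinorHom_prod_eq_one_iff (h2 : (2 : F) ≠ 0) (Q : QuadraticForm F (ι → F))
    (hQ : (polarBilin Q).Nondegenerate) (vs : List (ι → F)) (hvs : ∀ v ∈ vs, Q v ≠ 0) :
    spinorHom h2 Q hQ ((vs.map (reflElt Q)).prod) = 1 ↔ IsSquare (vs.map (fun v => Q v)).prod := by
  classical
  show spinorFun h2 Q hQ _ = 1 ↔ _
  rw [spinorFun_eq h2 Q hQ vs hvs]
  by_cases h : IsSquare (vs.map (fun v => Q v)).prod
  · rw [if_pos h]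
    exact ⟨fun _ => h, fun _ => rfl⟩
  · rw [if_neg h]
    constructor
    · intro h1
      exact absurd h1 (by decide)
    · intro h1
      exact absurd h1 h

theorem spinorHom_refl_eq_one_iff (h2 : (2 : F) ≠ 0) (Q : QuadraticForm F (ι → F))
    (hQ : (polarBilin Q).Nondegenerate) (v : ι → F) (hv : Q v ≠ 0) :
    spinorHom h2 Q hQ (reflElt Q v) = 1 ↔ IsSquare (Q v) := by
  have h := spinorHom_prod_eq_one_iff h2 Q hQ [v] (by
    intro w hw
    rw [List.mem_singleton.1 hw]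
    exact hv)
  simpa using h

theorem mem_Omega_iff_det_spinor (h2 : (2 : F) ≠ 0) (Q : QuadraticForm F (ι → F))
    (hQ : (polarBilin Q).Nondegenerate) (g : ↥(isometryGroup F ⇑Q)) :
    g ∈ Omega F ⇑Q ↔
      (((g : GL ι F) : Matrix ι ι F).det = 1 ∧ spinorHom h2 Q hQ g = 1) := by
  obtain ⟨vs, hvs, rfl⟩ := exists_refl_list h2 Q hQ g
  rw [mem_Omega_iff h2 Q hQ _ vs hvs (coe_prod_reflElt Q vs hvs), coe_prod_reflElt Q vs hvs,
    det_eq_one_iff_even h2 Q vs hvs, spinorHom_prod_eq_one_iff h2 Q hQ vs hvs]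

theorem zmod2_mul_eq_one (x y : Multiplicative (ZMod 2)) (hx : x ≠ 1) (hy : y ≠ 1) : x * y = 1 := by
  revert x y
  decide

theorem zmod2_eq_of_ne_one (x y : Multiplicative (ZMod 2)) (hx : x ≠ 1) (hy : y ≠ 1) : x = y := by
  revert x y
  decide

theorem zmod2_mul_eq (x y c : Multiplicative (ZMod 2)) (hx : x ≠ c) (hy : y ≠ 1) : x * y = c := by
  revert x y c
  decide

end SpinorHom

end Cfsg.Agent.Helper16
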