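import Mathlib
import Cfsg.Agent.Helper16.SpinorApps

set_option autoImplicit false

namespace Cfsg.Agent.Helper16

open QuadraticMap

section More

variable {ι : Type} [Fintype ι] [DecidableEq ι] {F : Type*} [Field F]

theorem det_reflMatrix (Q : QuadraticForm F (ι → F)) (v : ι → F) (hv : Q v ≠ 0) :
    (Cfsg.reflectionMatrix ⇑Q v).det = -1 := by
  have hself : polar ⇑Q v v = 2 * Q v := qf_polar_self Q v
  have hR : Cfsg.reflectionMatrix ⇑Q v =
      1 + Matrix.replicateCol Unit (-(Q v)⁻¹ • v) * Matrix.replicateRow Unit (Cfsg.polarVec ⇑Q v) := by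
    rw [Cfsg.reflectionMatrix, ← Matrix.vecMulVec_eq, Matrix.smul_vecMulVec, neg_smul,
      sub_eq_add_neg]
  rw [hR, Matrix.det_one_add_replicateCol_mul_replicateRow, dotProduct_smul, polarVec_dot', hself,
    smul_eq_mul]
  field_simp
  ring

theorem det_prod_reflMatrix (Q : QuadraticForm F (ι → F)) (vs : List (ι → F))
    (hvs : ∀ v ∈ vs, Q v ≠ 0) :
    ((vs.map (fun v => Cfsg.reflectionMatrix ⇑Q v)).prod).det = (-1) ^ vs.length := by
  induction vs with
  | nil => simp
  | cons a l ih =>
    rw [List.map_cons, List.prod_cons, Matrix.det_mul, det_reflMatrix Q a (hvs a List.mem_cons_self),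
      ih (fun v hv => hvs v (List.mem_cons_of_mem a hv)), List.length_cons, pow_succ]
    ring

/-- an isometry has determinant one iff it is a product of an even number of reflections -/
theorem det_eq_one_iff_even (h2 : (2 : F) ≠ 0) (Q : QuadraticForm F (ι → F)) (vs : List (ι → F))
    (hvs : ∀ v ∈ vs, Q v ≠ 0) :
    ((vs.map (fun v => Cfsg.reflectionMatrix ⇑Q v)).prod).det = 1 ↔ Even vs.length := by
  rw [det_prod_reflMatrix Q vs hvs]
  have hne : (-1 : F) ≠ 1 := by
    intro h
    apply h2
    have : (2 : F) = 1 - (-1) := by norm_num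
    rw [this, h, sub_self]
  exact neg_one_pow_eq_one_iff_even hne

/-- a non-degenerate form of dimension at least two over a finite field of odd order represents
every non-zero element -/
theorem exists_rep [Fintype F] (h2 : (2 : F) ≠ 0) (Q : QuadraticForm F (ι → F))
    (hQ : (polarBilin Q).Nondegenerate) (hι : 2 ≤ Fintype.card ι) (c : F) (hc : c ≠ 0) :
    ∃ v : ι → F, Q v = c := by
  have hcQ : (polarBilin (c⁻¹ • Q)).Nondegenerate := by
    apply ((polarBilin_isSymm _).isRefl.nondegenerate_iff_separatingLeft).2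
    intro x hx
    apply hQ.1
    intro y
    have h := hx y
    have h' : c⁻¹ * polar Q x y = 0 := by
      have : polar (⇑(c⁻¹ • Q)) x y = c⁻¹ * polar Q x y := by
        simp only [polar, QuadraticMap.smul_apply, smul_eq_mul]
        ring
      rw [← this]
      exact h
    rcases mul_eq_zero.1 h' with h0 | h0
    · exact absurd h0 (inv_ne_zero hc)
    · exact h0
  obtain ⟨x, hx⟩ := exists_rep_one' h2 (c⁻¹ • Q) hcQ (by
    rw [Module.finrank_pi_fintype]
    simp
    exact hι)
  refine ⟨x, ?_⟩
  have hx' : c⁻¹ * Q x = 1 := hx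
  field_simp at hx'
  exact hx'

/-- `-1` lies in `Ω` iff the discriminant (in a suitable basis) is a square, in even dimension -/
theorem neg_one_mem_Omega_iff [Fintype F] (h2 : (2 : F) ≠ 0) (Q : QuadraticForm F (ι → F))
    (hQ : (polarBilin Q).Nondegenerate) (he : Even (Fintype.card ι)) :
    ∃ b : Module.Basis (Fin (Module.finrank F (ι → F))) F (ι → F),
      ((∃ g : ↥(Cfsg.isometryGroup F ⇑Q), g ∈ Cfsg.Omega F ⇑Q ∧
        ((g : Matrix.GeneralLinearGroup ι F) : Matrix ι ι F) = -1) ↔
      IsSquare (Matrix.of (fun i j => polar ⇑Q (b i) (b j))).det) := by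
  classical
  haveI : Invertible (2 : F) := invertibleOfNonzero h2
  obtain ⟨b, hb⟩ := LinearMap.BilinForm.exists_orthogonal_basis (polarBilin_isSymm Q)
  refine ⟨b, ?_⟩
  have hne : ∀ i, Q (b i) ≠ 0 := by
    intro i h0
    have h3 := LinearMap.IsOrthoᵢ.not_isOrtho_basis_self_of_separatingLeft hb hQ.1 i
    apply h3
    show polar Q (b i) (b i) = 0
    rw [qf_polar_self, h0, mul_zero]
  obtain ⟨vs, hvsdef⟩ : ∃ vs : List (ι → F), vs = List.ofFn (fun i => b i) := ⟨_, rfl⟩
  have hvs : ∀ v ∈ vs, Q v ≠ 0 := by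
    intro v hv
    rw [hvsdef, List.mem_ofFn] at hv
    obtain ⟨i, rfl⟩ := hv
    exact hne i
  have hpw : vs.Pairwise (fun u v => polar Q u v = 0) := by
    rw [hvsdef, List.pairwise_ofFn]
    intro i j hij
    exact hb (ne_of_lt hij)
  have hprod : (vs.map (qrefl Q)).prod = -LinearMap.id := by
    apply b.ext
    intro i
    rw [prod_qrefl_neg Q vs hvs hpw (b i) (by rw [hvsdef, List.mem_ofFn]; exact ⟨i, rfl⟩)]
    simp
  have hg₀ := coe_prod_reflElt Q vs hvs
  have hmat : (vs.map (fun v => Cfsg.reflectionMatrix ⇑Q v)).prod = -1 := by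
    apply Matrix.toLin'.injective
    rw [toLin'_prod_reflMatrix, hprod, map_neg, Matrix.toLin'_one]
  have hiff := mem_Omega_iff h2 Q hQ _ vs hvs hg₀
  have hfr : Module.finrank F (ι → F) = Fintype.card ι := by simp
  have hlen : vs.length = Fintype.card ι := by
    rw [hvsdef, List.length_ofFn, hfr]
  have hprodQ : (vs.map (fun v => Q v)).prod = ∏ i, Q (b i) := by
    rw [hvsdef, List.map_ofFn, List.prod_ofFn]
    rfl
  have hdet : IsSquare (∏ i, Q (b i)) ↔
      IsSquare (Matrix.of (fun i j => polar ⇑Q (b i) (b j))).det := by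
    have hdiag : (Matrix.of fun i j => polar Q (b i) (b j)) =
        Matrix.diagonal (fun i => 2 * Q (b i)) := by
      ext i j
      by_cases hij : i = j
      · subst hij
        rw [Matrix.of_apply, Matrix.diagonal_apply_eq, qf_polar_self]
      · rw [Matrix.of_apply, Matrix.diagonal_apply_ne _ hij]
        exact hb hij
    rw [hdiag, Matrix.det_diagonal, Finset.prod_mul_distrib, Finset.prod_const, Finset.card_univ,
      Fintype.card_fin]
    obtain ⟨k, hk⟩ := he
    have h2k : (2 : F) ^ Module.finrank F (ι → F) = 2 ^ k * 2 ^ k := by rw [hfr, hk, pow_add]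
    have h2k0 : (2 : F) ^ k ≠ 0 := pow_ne_zero _ h2
    rw [h2k]
    constructor
    · rintro ⟨r, hr⟩
      exact ⟨2 ^ k * r, by rw [hr]; ring⟩
    · rintro ⟨r, hr⟩
      refine ⟨r / 2 ^ k, ?_⟩
      field_simp
      linear_combination hr
  rw [hprodQ, hlen] at hiff
  constructor
  · rintro ⟨g, hg, hgm⟩
    have : g = (vs.map (reflElt Q)).prod := by
      apply isom_ext
      rw [hgm, hg₀, hmat]
    rw [this, hiff] at hg
    exact hdet.1 hg.2
  · intro h
    exact ⟨_, hiff.2 ⟨he, hdet.2 h⟩, by rw [hg₀, hmat]⟩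

/-- a product of an even number of reflections lies in the subgroup generated by the products of
two reflections -/
theorem prod_reflElt_mem_closure_pairs (Q : QuadraticForm F (ι → F)) :
    ∀ (k : ℕ) (vs : List (ι → F)), vs.length = 2 * k → (∀ v ∈ vs, Q v ≠ 0) →
      (vs.map (reflElt Q)).prod ∈ Subgroup.closure {g : ↥(Cfsg.isometryGroup F ⇑Q) |
        ∃ u v : ι → F, Q u ≠ 0 ∧ Q v ≠ 0 ∧
          ((g : Matrix.GeneralLinearGroup ι F) : Matrix ι ι F) =
            Cfsg.reflectionMatrix ⇑Q u * Cfsg.reflectionMatrix ⇑Q v} := by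
  intro k
  induction k with
  | zero =>
    intro vs hlen _
    have : vs = [] := List.length_eq_zero_iff.1 (by omega)
    rw [this, List.map_nil, List.prod_nil]
    exact Subgroup.one_mem _
  | succ k ih =>
    intro vs hlen hvs
    match vs, hlen, hvs with
    | [], hlen, _ => simp at hlen
    | [a], hlen, _ =>
      simp only [List.length_cons, List.length_nil] at hlen
      omega
    | a :: b :: l, hlen, hvs =>
      rw [List.map_cons, List.map_cons, List.prod_cons, List.prod_cons, ← mul_assoc]
      have ha : Q a ≠ 0 := hvs a List.mem_cons_self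
      have hb : Q b ≠ 0 := hvs b (List.mem_cons_of_mem a List.mem_cons_self)
      apply Subgroup.mul_mem
      · apply Subgroup.subset_closure
        refine ⟨a, b, ha, hb, ?_⟩
        rw [Subgroup.coe_mul, Units.val_mul, reflElt_coe Q a ha, reflElt_coe Q b hb]
      · apply ih l
        · simp only [List.length_cons] at hlen
          omega
        · intro v hv
          exact hvs v (List.mem_cons_of_mem a (List.mem_cons_of_mem b hv))

end More

end Cfsg.Agent.Helper16
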